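import Mathlib
import Cfsg.Agent.Lib.Helper33.Conj
import Cfsg.Agent.Lib.Helper24.RelSZ
import Cfsg.Agent.Lib.Helper25.SelfNormCyclic
import Cfsg.Agent.Lib.Helper1.HallDom
import Cfsg.Agent.Lib.Helper1.HallConj

set_option autoImplicit false

/-!
Subgroups of the same order of a finite group all of whose Sylow subgroups are cyclic are
conjugate.
-/

universe u

namespace Cfsg.Agent.Lib.Helper67

open Subgroup
open Cfsg.Agent.Lib.Helper33

section

variable {G : Type u} [Group G]

/-- `|K| * |L : K| = |L|` for `K ≤ L`. -/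
theorem card_mul_relIndex_of_le {K L : Subgroup G} (h : K ≤ L) :
    Nat.card K * K.relIndex L = Nat.card L := by
  have := relIndex_mul_relIndex (⊥ : Subgroup G) K L bot_le h
  rwa [relIndex_bot_left, relIndex_bot_left] at this

/-- Two subgroups of the same order inside a cyclic subgroup are equal. -/
theorem eq_of_le_isCyclic_of_card_eq [Finite G] (W X Y : Subgroup G) [IsCyclic W]
    (hX : X ≤ W) (hY : Y ≤ W) (h : Nat.card X = Nat.card Y) : X = Y := by
  apply le_antisymm
  · intro v hv
    rw [Cfsg.Agent.Lib.Helper25.mem_iff_pow_card_eq_one_of_isCyclic W Y hY (hX hv), ← h]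
    have := pow_card_eq_one' (G := X) (x := ⟨v, hv⟩)
    exact congrArg Subtype.val this
  · intro v hv
    rw [Cfsg.Agent.Lib.Helper25.mem_iff_pow_card_eq_one_of_isCyclic W X hX (hY hv), h]
    have := pow_card_eq_one' (G := Y) (x := ⟨v, hv⟩)
    exact congrArg Subtype.val this

/-- For a normal Hall subgroup `A`, `|H ∩ A| = gcd(|H|, |A|)`. -/
theorem card_inf_eq_gcd_of_normal_hall [Finite G] (A : Subgroup G) [A.Normal]
    (hA : (Nat.card A).Coprime A.index) (H : Subgroup G) :
    Nat.card (H ⊓ A : Subgroup G) = Nat.gcd (Nat.card H) (Nat.card A) := by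
  have h1 : Nat.card (H ⊓ A : Subgroup G) * (H ⊓ A).relIndex H = Nat.card H :=
    card_mul_relIndex_of_le inf_le_left
  have h2 : (H ⊓ A).relIndex H = A.relIndex H := by
    rw [inf_comm, inf_relIndex_right]
  have h3 : A.relIndex H ∣ A.index := relIndex_dvd_index_of_normal A H
  have h4 : Nat.card (H ⊓ A : Subgroup G) ∣ Nat.card A := card_dvd_of_le inf_le_right
  have h5 : (A.relIndex H).Coprime (Nat.card A) :=
    (Nat.Coprime.coprime_dvd_right h3 hA).symm
  rw [← h1, h2, mul_comm, Nat.Coprime.gcd_mul_left_cancel _ h5]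
  exact (Nat.gcd_eq_left h4).symm

/-- A complement-sized subgroup of a normal subgroup with cyclic quotient is cyclic. -/
theorem isCyclic_of_inf_eq_bot_of_isCyclic_quotient (A : Subgroup G) [A.Normal]
    [IsCyclic (G ⧸ A)] (B : Subgroup G) (h : B ⊓ A = ⊥) : IsCyclic B := by
  apply isCyclic_of_injective ((QuotientGroup.mk' A).comp B.subtype)
  rw [injective_iff_map_eq_one]
  intro b hb
  have h1 : (b : G) ∈ A := by
    have : QuotientGroup.mk' A (b : G) = 1 := hb
    rwa [QuotientGroup.mk'_apply, QuotientGroup.eq_one_iff] at this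
  have h2 : (b : G) ∈ B ⊓ A := ⟨b.2, h1⟩
  rw [h, mem_bot] at h2
  exact Subtype.ext h2

/-- **Z-groups**: in a finite group all of whose Sylow subgroups are cyclic, two subgroups of the
same order are conjugate. -/
theorem zgroup_conj [Finite G] [IsZGroup G] (H K : Subgroup G)
    (h : Nat.card H = Nat.card K) : ∃ t : G, cj t H = K := by
  have hcyc : IsCyclic (commutator G) := IsZGroup.isCyclic_commutator G
  have hcop : (Nat.card (commutator G)).Coprime (commutator G).index :=
    IsZGroup.coprime_commutator_index G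
  have : IsCyclic (G ⧸ commutator G) := IsZGroup.isCyclic_abelianization (G := G)
  set A : Subgroup G := commutator G with hAdef
  -- the intersections with `A`
  have hHA : Nat.card (H ⊓ A : Subgroup G) = Nat.card (K ⊓ A : Subgroup G) := by
    rw [card_inf_eq_gcd_of_normal_hall A hcop H, card_inf_eq_gcd_of_normal_hall A hcop K, h]
  have hEq : H ⊓ A = K ⊓ A := eq_of_le_isCyclic_of_card_eq A _ _ inf_le_right inf_le_right hHA
  set A0 : Subgroup G := H ⊓ A with hA0
  have hA0A : A0 ≤ A := inf_le_right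
  -- `A0` is normal in `G`
  have hA0n : ∀ g : G, cj g A0 = A0 := by
    intro g
    apply eq_of_le_isCyclic_of_card_eq A _ _ _ hA0A (card_cj g A0)
    have h1 : cj g A0 ≤ cj g A := cj_mono hA0A
    have h2 : cj g A = A := cj_eq_self_iff.mpr (by rw [normalizer_eq_top]; exact mem_top g)
    rwa [h2] at h1
  -- complements
  have key : ∀ X : Subgroup G, X ⊓ A = A0 →
      ∃ X1 : Subgroup G, X1 ≤ X ∧ (Nat.card X1).Coprime (Nat.card A) ∧
        Nat.card X1 * Nat.card A0 = Nat.card X ∧ X1 ⊔ A0 = X := by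
    intro X hX
    have hle : A0 ≤ X := hX ▸ inf_le_left
    have hnorm : X ≤ normalizer (A0 : Set G) := by
      intro x _
      exact cj_eq_self_iff.mp (hA0n x)
    have hri : A0.relIndex X = A.relIndex X := by
      rw [← hX, inf_comm, inf_relIndex_right]
    have hdvd : A0.relIndex X ∣ A.index := hri ▸ relIndex_dvd_index_of_normal A X
    have hc1 : (Nat.card A0).Coprime (A0.relIndex X) :=
      Nat.Coprime.coprime_dvd_left (card_dvd_of_le hA0A) (Nat.Coprime.coprime_dvd_right hdvd hcop)
    obtain ⟨B, hBX, hBc, -, hBs⟩ := Cfsg.Agent.Lib.Helper24.rel_sz_exists A0 X hle hnorm hc1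
    refine ⟨B, hBX, ?_, ?_, hBs⟩
    · rw [hBc]
      exact (Nat.Coprime.coprime_dvd_right hdvd hcop).symm
    · rw [hBc, mul_comm]
      exact card_mul_relIndex_of_le hle
  obtain ⟨H1, hH1H, hH1c, hH1card, hH1s⟩ := key H rfl
  obtain ⟨K1, hK1K, hK1c, hK1card, hK1s⟩ := key K hEq.symm
  have hcard1 : Nat.card H1 = Nat.card K1 := by
    have hpos : 0 < Nat.card A0 := Nat.card_pos
    have : Nat.card H1 * Nat.card A0 = Nat.card K1 * Nat.card A0 := by
      rw [hH1card, hK1card, h]
    exact Nat.eq_of_mul_eq_mul_right hpos this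
  -- Hall subgroups containing the complements
  have hsolv : Group.IsSolvable G := inferInstance
  have hG : Nat.card G = A.index * Nat.card A := by
    rw [mul_comm]; exact (card_mul_index A).symm
  obtain ⟨B1, hB1c, hH1B1⟩ :=
    Cfsg.Agent.Lib.Helper1.hallDom_all G hsolv _ _ hG hcop.symm H1 hH1c
  obtain ⟨B2, hB2c, hK1B2⟩ :=
    Cfsg.Agent.Lib.Helper1.hallDom_all G hsolv _ _ hG hcop.symm K1 hK1c
  obtain ⟨g, hg⟩ := Cfsg.Agent.Lib.Helper1.hallConj_all G hsolv _ _ hG hcop.symm B1 B2 hB1c hB2c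
  rw [← cj_eq_smul] at hg
  have hB2A : B2 ⊓ A = ⊥ := by
    apply (Subgroup.disjoint_of_coprime_natCard _).eq_bot
    rw [hB2c]; exact hcop.symm
  have : IsCyclic B2 := isCyclic_of_inf_eq_bot_of_isCyclic_quotient A B2 hB2A
  have hconj1 : cj g H1 = K1 := by
    apply eq_of_le_isCyclic_of_card_eq B2 _ _ _ hK1B2
    · rw [card_cj, hcard1]
    · rw [← hg]; exact cj_mono hH1B1
  refine ⟨g, ?_⟩
  rw [← hH1s, cj_sup, hconj1, hA0n g, hK1s]

/-- Relative version: inside a subgroup `Z` all of whose Sylow subgroups are cyclic, subgroups of the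
same order are conjugate under `Z`. -/
theorem zgroup_conj_rel [Finite G] (Z : Subgroup G) [IsZGroup Z] (H K : Subgroup G)
    (hH : H ≤ Z) (hK : K ≤ Z) (h : Nat.card H = Nat.card K) : ∃ t ∈ Z, cj t H = K := by
  have h1 : Nat.card (H.subgroupOf Z) = Nat.card (K.subgroupOf Z) := by
    rw [Nat.card_congr (subgroupOfEquivOfLe hH).toEquiv,
      Nat.card_congr (subgroupOfEquivOfLe hK).toEquiv, h]
  obtain ⟨t, ht⟩ := zgroup_conj (H.subgroupOf Z) (K.subgroupOf Z) h1
  exact ⟨(t : G), t.2, Cfsg.Agent.Lib.Helper24.cj_subgroupOf_eq hH hK t ht⟩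

end

end Cfsg.Agent.Lib.Helper67
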