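import Mathlib

set_option autoImplicit false

namespace Cfsg.Agent.Lib.Helper67

variable {G : Type*} [Group G]

/-- Class size is the index of the centralizer. -/
theorem ncard_carrier_eq_index (x : G) :
    (ConjClasses.mk x).carrier.ncard = (Subgroup.centralizer ({x} : Set G)).index := by
  rw [← ConjAct.orbit_eq_carrier_conjClasses, ← MulAction.index_stabilizer,
    Subgroup.centralizer_eq_comap_stabilizer]
  exact (Subgroup.index_comap_of_surjective (MulAction.stabilizer (ConjAct G) x)
    (f := (ConjAct.toConjAct (G := G)).toMonoidHom) (ConjAct.toConjAct (G := G)).surjective).symm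

/-- A finite group is not the union of the conjugates of a proper subgroup. -/
theorem eq_top_of_forall_exists_conj_mem [Finite G] (K : Subgroup G)
    (h : ∀ y : G, ∃ g : G, g⁻¹ * y * g ∈ K) : K = ⊤ := by
  classical
  have : Fintype G := Fintype.ofFinite G
  have : Fintype (G ⧸ K) := Fintype.ofFinite _
  have : Fintype (Quotient (MulAction.orbitRel G (G ⧸ K))) := Fintype.ofFinite _
  have hB := MulAction.sum_card_fixedBy_eq_card_orbits_mul_card_group G (G ⧸ K)
  have hsub : Subsingleton (MulAction.orbitRel.Quotient G (G ⧸ K)) :=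
    (MulAction.pretransitive_iff_subsingleton_quotient G (G ⧸ K)).mp inferInstance
  have hΩ : Fintype.card (Quotient (MulAction.orbitRel G (G ⧸ K))) ≤ 1 :=
    Fintype.card_le_one_iff_subsingleton.mpr hsub
  have hfix : ∀ g : G, 1 ≤ Fintype.card (MulAction.fixedBy (G ⧸ K) g) := by
    intro g
    obtain ⟨a, ha⟩ := h g
    apply Fintype.card_pos_iff.mpr
    refine ⟨⟨(a : G ⧸ K), ?_⟩⟩
    rw [MulAction.mem_fixedBy, MulAction.Quotient.smul_mk, QuotientGroup.eq]
    have : (g • a)⁻¹ * a = (a⁻¹ * g⁻¹ * a) := by simp [smul_eq_mul, mul_assoc]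
    rw [this]
    have h2 := K.inv_mem ha
    simpa [mul_assoc] using h2
  have hone : Fintype.card (MulAction.fixedBy (G ⧸ K) (1 : G)) = Fintype.card (G ⧸ K) := by
    apply Fintype.card_congr
    exact (Equiv.subtypeUnivEquiv (fun x => by simp))
  have hsum : (Finset.univ.erase (1 : G)).card + Fintype.card (G ⧸ K) ≤
      ∑ g : G, Fintype.card (MulAction.fixedBy (G ⧸ K) g) := by
    rw [← Finset.add_sum_erase Finset.univ _ (Finset.mem_univ (1 : G)), hone, add_comm]
    apply Nat.add_le_add_left
    calc (Finset.univ.erase (1 : G)).card = ∑ g ∈ Finset.univ.erase (1 : G), 1 := by simp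
      _ ≤ ∑ g ∈ Finset.univ.erase (1 : G), Fintype.card (MulAction.fixedBy (G ⧸ K) g) :=
        Finset.sum_le_sum (fun g _ => hfix g)
  rw [hB, Finset.card_erase_of_mem (Finset.mem_univ _), Finset.card_univ] at hsum
  have hG : 0 < Fintype.card G := Fintype.card_pos
  have hidx : Fintype.card (G ⧸ K) ≤ 1 := by
    have : Fintype.card (Quotient (MulAction.orbitRel G (G ⧸ K))) * Fintype.card G
        ≤ Fintype.card G := by nlinarith
    omega
  have hidx' : K.index = 1 := by
    rw [Subgroup.index_eq_card, Nat.card_eq_fintype_card]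
    have : 0 < Fintype.card (G ⧸ K) := Fintype.card_pos
    omega
  exact Subgroup.index_eq_one.mp hidx'

end Cfsg.Agent.Lib.Helper67
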