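import Mathlib
import Cfsg.Agent.Lib.Helper67.UnionConj

set_option autoImplicit false

/-!
Small subgroups of finite `p`-groups: orders grow by a factor `p` along strict inclusions,
non-abelian `p`-groups have order at least `p³`, joins of commuting subgroups, abelian subgroups of
order `p³` in groups of order at least `p⁴`, non-abelian subgroups of order `p³` in non-abelian
groups of exponent `p`.
-/

namespace Cfsg.Agent.Lib.Helper67

open Subgroup

variable {Q : Type*} [Group Q]

/-- A cyclic subgroup generated by a central element is normal. -/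
theorem zpowers_normal_of_mem_center {z : Q} (hz : z ∈ center Q) : (zpowers z).Normal := by
  constructor
  intro n hn g
  have hn' : n ∈ center Q := (zpowers_le.mpr hz) hn
  have h1 : g * n * g⁻¹ = n := by
    rw [mem_center_iff.mp hn' g]; group
  rw [h1]; exact hn

/-- A subgroup of a commutative subgroup is commutative. -/
theorem isMulCommutative_of_le {A A' : Subgroup Q} (hA : IsMulCommutative A) (h : A' ≤ A) :
    IsMulCommutative A' := by
  refine ⟨⟨fun a b => Subtype.ext ?_⟩⟩
  have h1 := mul_comm' (⟨a.1, h a.2⟩ : A) ⟨b.1, h b.2⟩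
  have h2 : (a : Q) * (b : Q) = (b : Q) * (a : Q) := congrArg Subtype.val h1
  exact h2

/-- Along a strict inclusion of subgroups of a finite `p`-group the order grows by a factor `p`. -/
theorem pow_succ_le_card_of_lt [Finite Q] {p : ℕ} [hp : Fact p.Prime] (hQ : IsPGroup p Q)
    {H H' : Subgroup Q} (hlt : H < H') {a : ℕ} (h : p ^ a ≤ Nat.card H) :
    p ^ (a + 1) ≤ Nat.card H' := by
  obtain ⟨b, hb⟩ := (hQ.to_subgroup H').exists_card_eq
  have h1 : Nat.card H < Nat.card H' := by
    obtain ⟨x, hx, hxn⟩ := SetLike.exists_of_lt hlt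
    by_contra hcon
    have h2 : Nat.card H' ≤ Nat.card H := not_lt.mp hcon
    have h3 : H = H' := Subgroup.eq_of_le_of_card_ge hlt.le h2
    exact hxn (h3 ▸ hx)
  rw [hb] at h1 ⊢
  have h2 : p ^ a < p ^ b := lt_of_le_of_lt h h1
  have h3 : a < b := (Nat.pow_lt_pow_iff_right hp.out.one_lt).mp h2
  exact Nat.pow_le_pow_right hp.out.pos h3

/-- The join of two elementwise commuting subgroups has order dividing the product of the orders. -/
theorem card_sup_dvd_of_commute [Finite Q] {H K : Subgroup Q}
    (h : ∀ a ∈ H, ∀ b ∈ K, Commute a b) :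
    Nat.card (H ⊔ K : Subgroup Q) ∣ Nat.card H * Nat.card K := by
  have hcomm : ∀ (m : H) (n : K), Commute (H.subtype m) (K.subtype n) :=
    fun m n => h m m.2 n n.2
  have h1 := MonoidHom.noncommCoprod_range H.subtype K.subtype hcomm
  rw [Subgroup.range_subtype, Subgroup.range_subtype] at h1
  rw [← h1, ← Nat.card_prod]
  exact Subgroup.card_range_dvd _

/-- The subgroup generated by two commuting elements has order dividing the product of their
orders. -/
theorem card_zpowers_sup_zpowers_dvd [Finite Q] {u v : Q} (h : Commute u v) :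
    Nat.card (zpowers u ⊔ zpowers v : Subgroup Q) ∣ orderOf u * orderOf v := by
  have h1 : ∀ a ∈ zpowers u, ∀ b ∈ zpowers v, Commute a b := by
    intro a ha b hb
    obtain ⟨i, rfl⟩ := mem_zpowers_iff.mp ha
    obtain ⟨j, rfl⟩ := mem_zpowers_iff.mp hb
    exact (h.zpow_zpow i j)
  have h2 := card_sup_dvd_of_commute h1
  rwa [Nat.card_zpowers, Nat.card_zpowers] at h2

/-- A non-abelian finite `p`-group has order at least `p³`. -/
theorem pow_three_le_card_of_not_comm [Finite Q] {p : ℕ} [hp : Fact p.Prime] (hQ : IsPGroup p Q)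
    (hna : ¬ IsMulCommutative Q) : p ^ 3 ≤ Nat.card Q := by
  obtain ⟨n, hn⟩ := hQ.exists_card_eq
  rw [hn]
  apply Nat.pow_le_pow_right hp.out.pos
  by_contra hlt
  apply hna
  have hn3 : n = 0 ∨ n = 1 ∨ n = 2 := by omega
  rcases hn3 with rfl | rfl | rfl
  · rw [pow_zero] at hn
    have : Subsingleton Q := (Nat.card_eq_one_iff_unique.mp hn).1
    exact ⟨⟨fun a b => Subsingleton.elim _ _⟩⟩
  · rw [pow_one] at hn
    have : IsCyclic Q := isCyclic_of_prime_card hn
    exact IsCyclic.isMulCommutative
  · exact IsPGroup.isMulCommutative_of_card_eq_prime_sq hn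

/-- A nontrivial finite `p`-group has a central element of order `p`. -/
theorem exists_central_orderOf_eq [Finite Q] [Nontrivial Q] {p : ℕ} [hp : Fact p.Prime]
    (hQ : IsPGroup p Q) : ∃ z : Q, z ∈ center Q ∧ orderOf z = p := by
  have hZnt := hQ.center_nontrivial
  have hpZ : p ∣ Nat.card (center Q) := by
    rcases (hQ.to_subgroup (center Q)).card_eq_or_dvd with h | h
    · exfalso
      have := Finite.one_lt_card_iff_nontrivial.mpr hZnt
      omega
    · exact h
  obtain ⟨z, hz⟩ := exists_prime_orderOf_dvd_card' p hpZ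
  exact ⟨z, z.2, by rw [Subgroup.orderOf_coe, hz]⟩

/-- In a finite `p`-group, a proper normal subgroup `N` admits `y ∉ N` whose commutators with
all elements lie in `N` (a nontrivial central element of the quotient). -/
theorem exists_central_mod [Finite Q] {p : ℕ} [hp : Fact p.Prime] (hQ : IsPGroup p Q)
    (N : Subgroup Q) [N.Normal] (hN : N ≠ ⊤) :
    ∃ y : Q, y ∉ N ∧ ∀ g : Q, g * y * g⁻¹ * y⁻¹ ∈ N := by
  have hnt : Nontrivial (Q ⧸ N) := by
    by_contra h
    rw [not_nontrivial_iff_subsingleton] at h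
    exact hN (QuotientGroup.subgroup_eq_top_of_subsingleton N h)
  have hQq : IsPGroup p (Q ⧸ N) := hQ.to_quotient N
  have hcn := hQq.center_nontrivial
  obtain ⟨w, hw⟩ := exists_ne (1 : center (Q ⧸ N))
  obtain ⟨y, hy⟩ := QuotientGroup.mk_surjective (w : Q ⧸ N)
  refine ⟨y, ?_, ?_⟩
  · intro hyN
    apply hw
    apply Subtype.ext
    rw [← hy]
    exact (QuotientGroup.eq_one_iff y).mpr hyN
  · intro g
    rw [← QuotientGroup.eq_one_iff]
    have h1 := mem_center_iff.mp w.2 (g : Q ⧸ N)
    rw [← hy] at h1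
    rw [QuotientGroup.mk_mul, QuotientGroup.mk_mul, QuotientGroup.mk_mul, QuotientGroup.mk_inv,
      QuotientGroup.mk_inv, h1]
    group

/-- A non-abelian finite `p`-group of exponent `p` has a non-abelian subgroup of order `p³`. -/
theorem exists_nonabelian_card_cube [Finite Q] {p : ℕ} [hp : Fact p.Prime] (hQ : IsPGroup p Q)
    (hexp : ∀ a : Q, a ^ p = 1) (hna : ¬ IsMulCommutative Q) :
    ∃ B : Subgroup Q, ¬ IsMulCommutative B ∧ Nat.card B = p ^ 3 := by
  have hZtop : center Q ≠ ⊤ := by
    intro h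
    apply hna
    refine ⟨⟨fun a b => ?_⟩⟩
    have hb : b ∈ center Q := h ▸ mem_top b
    exact mem_center_iff.mp hb a
  obtain ⟨x₁, hx₁, hx₁c⟩ := exists_central_mod hQ (center Q) hZtop
  obtain ⟨y₁, hy₁⟩ : ∃ g : Q, g * x₁ ≠ x₁ * g := by
    by_contra hcon
    push Not at hcon
    exact hx₁ (mem_center_iff.mpr hcon)
  set c := y₁ * x₁ * y₁⁻¹ * x₁⁻¹ with hc
  have hcZ : c ∈ center Q := hx₁c y₁
  have hc1 : c ≠ 1 := by
    intro h1
    apply hy₁
    calc y₁ * x₁ = (y₁ * x₁ * y₁⁻¹ * x₁⁻¹) * (x₁ * y₁) := by group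
      _ = x₁ * y₁ := by rw [← hc, h1, one_mul]
  have hCn : (zpowers c).Normal := zpowers_normal_of_mem_center hcZ
  set B := zpowers x₁ ⊔ zpowers y₁ with hB
  have hxB : x₁ ∈ B := (le_sup_left : zpowers x₁ ≤ B) (mem_zpowers x₁)
  have hyB : y₁ ∈ B := (le_sup_right : zpowers y₁ ≤ B) (mem_zpowers y₁)
  have hcB : zpowers c ≤ B := by
    rw [zpowers_le]
    exact mul_mem (mul_mem (mul_mem hyB hxB) (inv_mem hyB)) (inv_mem hxB)
  have hBna : ¬ IsMulCommutative B := by
    intro h
    apply hy₁
    exact congrArg Subtype.val (mul_comm' (⟨y₁, hyB⟩ : B) ⟨x₁, hxB⟩)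
  refine ⟨B, hBna, ?_⟩
  have hge : p ^ 3 ≤ Nat.card B := pow_three_le_card_of_not_comm (hQ.to_subgroup B) hBna
  refine le_antisymm (Nat.le_of_dvd (pow_pos hp.out.pos 3) ?_) hge
  -- the image in the quotient by `⟨c⟩`
  set π := QuotientGroup.mk' (zpowers c) with hπ
  have hπc : π c = 1 := (QuotientGroup.eq_one_iff c).mpr (mem_zpowers c)
  have hπcomm : Commute (π x₁) (π y₁) := by
    have h1 : π y₁ * π x₁ * (π y₁)⁻¹ * (π x₁)⁻¹ = 1 := by
      rw [← map_inv, ← map_inv, ← map_mul, ← map_mul, ← map_mul]; exact hπc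
    have h2 : π y₁ * π x₁ = π x₁ * π y₁ := by
      calc π y₁ * π x₁ = (π y₁ * π x₁ * (π y₁)⁻¹ * (π x₁)⁻¹) * (π x₁ * π y₁) := by group
        _ = π x₁ * π y₁ := by rw [h1, one_mul]
    exact h2.symm
  have hmap : B.map π = zpowers (π x₁) ⊔ zpowers (π y₁) := by
    rw [hB, Subgroup.map_sup, MonoidHom.map_zpowers, MonoidHom.map_zpowers]
  have hox : orderOf (π x₁) ∣ p := by
    apply orderOf_dvd_of_pow_eq_one
    rw [← map_pow, hexp, map_one]
  have hoy : orderOf (π y₁) ∣ p := by
    apply orderOf_dvd_of_pow_eq_one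
    rw [← map_pow, hexp, map_one]
  have hcardmap : Nat.card (B.map π) ∣ p * p := by
    rw [hmap]
    exact (card_zpowers_sup_zpowers_dvd hπcomm).trans (Nat.mul_dvd_mul hox hoy)
  have hrel : Nat.card (zpowers c) * (zpowers c).relIndex B = Nat.card B := by
    have h1 := Subgroup.relIndex_mul_relIndex (⊥ : Subgroup Q) (zpowers c) B bot_le hcB
    rwa [Subgroup.relIndex_bot_left, Subgroup.relIndex_bot_left] at h1
  have hker : (zpowers c).relIndex B = Nat.card (B.map π) := by
    have h1 := Subgroup.relIndex_ker B π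
    rwa [hπ, QuotientGroup.ker_mk'] at h1
  have hcc : Nat.card (zpowers c) ∣ p := by
    rw [Nat.card_zpowers]
    exact orderOf_dvd_of_pow_eq_one (hexp c)
  rw [← hrel, hker, pow_succ, pow_two, mul_comm (p * p) p]
  exact Nat.mul_dvd_mul hcc hcardmap

/-- A finite `p`-group of order at least `p⁴` has an abelian subgroup of order `p³`. -/
theorem exists_abelian_card_cube [Finite Q] {p : ℕ} [hp : Fact p.Prime] (hQ : IsPGroup p Q)
    (hcard : p ^ 4 ≤ Nat.card Q) : ∃ A : Subgroup Q, IsMulCommutative A ∧ Nat.card A = p ^ 3 := by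
  suffices h : ∃ A : Subgroup Q, IsMulCommutative A ∧ p ^ 3 ≤ Nat.card A by
    obtain ⟨A, hA, hAc⟩ := h
    obtain ⟨A', hA'A, hA'c⟩ := Sylow.exists_subgroup_le_card_pow_prime_of_le_card hp.out hQ hAc
    exact ⟨A', isMulCommutative_of_le hA hA'A, hA'c⟩
  have hp1 : 1 < p := hp.out.one_lt
  have hnt : Nontrivial Q := by
    rw [← Finite.one_lt_card_iff_nontrivial]
    calc 1 < p ^ 4 := Nat.one_lt_pow (by norm_num) hp1
      _ ≤ Nat.card Q := hcard
  have hZnt := hQ.center_nontrivial
  have hpZ : p ∣ Nat.card (center Q) := by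
    rcases (hQ.to_subgroup (center Q)).card_eq_or_dvd with h | h
    · exfalso
      have := Finite.one_lt_card_iff_nontrivial.mpr hZnt
      omega
    · exact h
  obtain ⟨z, hz⟩ := exists_prime_orderOf_dvd_card' p hpZ
  have hzZ : (z : Q) ∈ center Q := z.2
  have hZn : (zpowers (z : Q)).Normal := zpowers_normal_of_mem_center hzZ
  have hZcard : Nat.card (zpowers (z : Q)) = p := by
    rw [Nat.card_zpowers, Subgroup.orderOf_coe, hz]
  have hZtop : zpowers (z : Q) ≠ ⊤ := by
    intro h
    have h1 : Nat.card (zpowers (z : Q)) = Nat.card Q := by rw [h, Subgroup.card_top]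
    rw [hZcard] at h1
    have : p ^ 4 ≤ p ^ 1 := by rw [pow_one]; omega
    have := (Nat.pow_le_pow_iff_right hp1).mp this
    omega
  obtain ⟨y, hyZ, hyc⟩ := exists_central_mod hQ (zpowers (z : Q)) hZtop
  -- the centralizer of `y` has index at most `p`
  have hKidx : (centralizer ({y} : Set Q)).index ≤ p := by
    rw [← ncard_carrier_eq_index]
    have hsub : (ConjClasses.mk y).carrier ⊆ (fun w => w * y) '' (zpowers (z : Q) : Set Q) := by
      intro a ha
      rw [ConjClasses.mem_carrier_iff_mk_eq, ConjClasses.mk_eq_mk_iff_isConj, isConj_comm,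
        isConj_iff] at ha
      obtain ⟨g, rfl⟩ := ha
      exact ⟨g * y * g⁻¹ * y⁻¹, hyc g, by group⟩
    calc (ConjClasses.mk y).carrier.ncard
        ≤ ((fun w => w * y) '' (zpowers (z : Q) : Set Q)).ncard :=
          Set.ncard_le_ncard hsub (Set.toFinite _)
      _ ≤ (zpowers (z : Q) : Set Q).ncard := Set.ncard_image_le (Set.toFinite _)
      _ = p := by rw [← hZcard]; rfl
  have hKcard : p ^ 3 ≤ Nat.card (centralizer ({y} : Set Q)) := by
    have h1 := Subgroup.card_mul_index (centralizer ({y} : Set Q))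
    have h2 : p ^ 4 ≤ Nat.card (centralizer ({y} : Set Q)) * p :=
      hcard.trans (h1 ▸ Nat.mul_le_mul_left _ hKidx)
    have h3 : p ^ 3 * p ≤ Nat.card (centralizer ({y} : Set Q)) * p := by
      rw [← pow_succ]; exact h2
    exact Nat.le_of_mul_le_mul_right h3 hp.out.pos
  have hzy : (z : Q) * y = y * (z : Q) := (mem_center_iff.mp hzZ y).symm
  have hNab : IsMulCommutative (closure ({(z : Q), y} : Set Q)) := by
    apply Subgroup.isMulCommutative_closure
    intro a ha b hb
    rcases ha with rfl | rfl <;> rcases hb with rfl | rfl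
    · rfl
    · exact hzy
    · exact hzy.symm
    · rfl
  have hZN : zpowers (z : Q) < closure ({(z : Q), y} : Set Q) := by
    refine lt_of_le_of_ne (zpowers_le.mpr (subset_closure (by simp))) ?_
    intro h
    apply hyZ
    rw [h]
    exact subset_closure (by simp)
  have hNcard : p ^ 2 ≤ Nat.card (closure ({(z : Q), y} : Set Q)) :=
    pow_succ_le_card_of_lt hQ hZN (a := 1) (by rw [pow_one, hZcard])
  by_cases hKN : centralizer ({y} : Set Q) ≤ closure ({(z : Q), y} : Set Q)
  · exact ⟨centralizer ({y} : Set Q), isMulCommutative_of_le hNab hKN, hKcard⟩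
  · obtain ⟨x, hxK, hxN⟩ := SetLike.not_le_iff_exists.mp hKN
    have hxy : x * y = y * x := by
      have := mem_centralizer_iff.mp hxK y rfl
      exact this.symm
    have hzx : (z : Q) * x = x * (z : Q) := (mem_center_iff.mp hzZ x).symm
    refine ⟨closure ({(z : Q), y, x} : Set Q), ?_, ?_⟩
    · apply Subgroup.isMulCommutative_closure
      intro a ha b hb
      rcases ha with rfl | rfl | rfl <;> rcases hb with rfl | rfl | rfl
      · rfl
      · exact hzy
      · exact hzx
      · exact hzy.symm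
      · rfl
      · exact hxy.symm
      · exact hzx.symm
      · exact hxy
      · rfl
    · have hlt : closure ({(z : Q), y} : Set Q) < closure ({(z : Q), y, x} : Set Q) := by
        refine lt_of_le_of_ne (closure_mono ?_) ?_
        · intro a ha
          rcases ha with rfl | rfl
          · simp
          · simp
        · intro h
          apply hxN
          rw [h]
          exact subset_closure (by simp)
      exact pow_succ_le_card_of_lt hQ hlt hNcard

end Cfsg.Agent.Lib.Helper67
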