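import Mathlib
import Cfsg.Prelude.Def_ClassicalGeometry
import Cfsg.Prelude.Def_GeometricClasses
import Cfsg.Agent.Lib.Helper48.TiDefs

/-! # Definitions for the S5972 hive (helper67): `Ω_{2d+1}(q)` on totally singular subspaces -/

set_option autoImplicit false

namespace Cfsg.Agent.Lib.Helper67.Ts

/-- the ambient space of `quadFormOdd d` -/
abbrev VO (d : ℕ) (F : Type*) := Unit ⊕ (Fin d ⊕ Fin d) → F

section defs

variable {F : Type*} [Field F]

/-- the polar form of `quadFormOdd d` as a bilinear map -/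
noncomputable def oddB (d : ℕ) : VO d F →ₗ[F] VO d F →ₗ[F] F :=
  Matrix.toBilin' (Matrix.of fun a b : Unit ⊕ (Fin d ⊕ Fin d) =>
    Cfsg.quadFormOdd d F (Pi.single a 1 + Pi.single b 1) - Cfsg.quadFormOdd d F (Pi.single a 1)
      - Cfsg.quadFormOdd d F (Pi.single b 1))

end defs

end Cfsg.Agent.Lib.Helper67.Ts
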