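import Mathlib
import Cfsg.Agent.Lib.Helper67.TsDefs

/-! # S5972 hive (helper67): TS-INVOL and TS-BOUND -/

set_option autoImplicit false

namespace Cfsg.Agent.Lib.Helper67.Ts

open Polynomial Module
open Cfsg.Agent.Lib.Helper2.BG Cfsg.Agent.Lib.Helper99 Cfsg.Agent.Lib.Helper48.Ti

section abstract

set_option linter.unusedSectionVars false

variable {F V : Type*} [Field F] [AddCommGroup V] [Module F V] [FiniteDimensional F V]
variable {B : V →ₗ[F] V →ₗ[F] F}

/-- TS-BOUND: a totally isotropic subspace of a nondegenerate subspace has at most half the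
dimension -/
theorem ts_bound (hB : ∀ u v, B u v = B v u) {Z U : Submodule F V} (hZ : Nd B Z) (hUZ : U ≤ Z)
    (hU : TI B U) : 2 * finrank F U ≤ finrank F Z := by
  let B' : LinearMap.BilinForm F ↥Z := B.domRestrict₁₂ Z Z
  have hB'app : ∀ a b : ↥Z, B' a b = B (a : V) (b : V) := fun a b => rfl
  have hrefl : B'.IsRefl := by
    intro a b hab
    rw [hB'app] at hab ⊢
    rw [hB]
    exact hab
  let U' : Submodule F ↥Z := Submodule.comap Z.subtype U
  have hfrU : finrank F ↥U' = finrank F U := (Submodule.comapSubtypeEquivOfLe hUZ).finrank_eq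
  have h1 := LinearMap.BilinForm.finrank_add_finrank_orthogonal hrefl U'
  have htop : B'.orthogonal ⊤ = ⊥ := by
    rw [eq_bot_iff]
    intro z hz
    rw [LinearMap.BilinForm.mem_orthogonal_iff] at hz
    have hz0 : (z : V) = 0 := by
      apply hZ (z : V) z.2
      intro v hv
      have h2 := hz ⟨v, hv⟩ Submodule.mem_top
      rw [hB'app] at h2
      rw [hB]
      exact h2
    rw [Submodule.mem_bot]
    exact Subtype.ext hz0
  rw [htop, inf_bot_eq, finrank_bot, add_zero] at h1
  have hle : U' ≤ B'.orthogonal U' := by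
    intro z hz
    rw [LinearMap.BilinForm.mem_orthogonal_iff]
    intro n hn
    rw [hB'app]
    exact hU _ hn _ hz
  have h2 := Submodule.finrank_mono hle
  have h3 : finrank F ↥Z = finrank F Z := rfl
  omega

theorem invol_mem_ker_sub {f : Module.End F V} {v : V} : v ∈ LinearMap.ker (f - 1) ↔ f v = v := by
  rw [LinearMap.mem_ker, LinearMap.sub_apply, Module.End.one_apply, sub_eq_zero]

theorem invol_mem_ker_add {f : Module.End F V} {v : V} : v ∈ LinearMap.ker (f + 1) ↔ f v = -v := by
  rw [LinearMap.mem_ker, LinearMap.add_apply, Module.End.one_apply, add_eq_zero_iff_eq_neg]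

/-- TS-INVOL: the eigenspaces of an involutive isometry (no symmetry of `B` needed) -/
theorem invol_split (h2 : (2 : F) ≠ 0) {f : Module.End F V} (hf : Isom B f) (hff : f * f = 1)
    (hV : Nd B ⊤) :
    Nd B (LinearMap.ker (f - 1)) ∧ Nd B (LinearMap.ker (f + 1)) ∧
      (∀ u ∈ LinearMap.ker (f - 1), ∀ v ∈ LinearMap.ker (f + 1), B u v = 0 ∧ B v u = 0) ∧
      finrank F ↥(LinearMap.ker (f - 1)) + finrank F ↥(LinearMap.ker (f + 1)) = finrank F V := by
  have hffv : ∀ v, f (f v) = v := by
    intro v
    have := congrArg (fun g : Module.End F V => g v) hff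
    simpa using this
  have horth : ∀ u ∈ LinearMap.ker (f - 1), ∀ v ∈ LinearMap.ker (f + 1), B u v = 0 ∧ B v u = 0 := by
    intro u hu v hv
    rw [invol_mem_ker_sub] at hu
    rw [invol_mem_ker_add] at hv
    constructor
    · have h := hf u v
      rw [hu, hv, map_neg] at h
      have : (2 : F) * B u v = 0 := by linear_combination -h
      exact (mul_eq_zero.1 this).resolve_left h2
    · have h := hf v u
      rw [hu, hv, map_neg, LinearMap.neg_apply] at h
      have : (2 : F) * B v u = 0 := by linear_combination -h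
      exact (mul_eq_zero.1 this).resolve_left h2
  -- decomposition of a vector
  have hdec : ∀ v : V, ∃ a ∈ LinearMap.ker (f - 1), ∃ b ∈ LinearMap.ker (f + 1), v = a + b := by
    intro v
    refine ⟨(2 : F)⁻¹ • (v + f v), ?_, (2 : F)⁻¹ • (v - f v), ?_, ?_⟩
    · rw [invol_mem_ker_sub, map_smul, map_add, hffv, add_comm]
    · rw [invol_mem_ker_add, map_smul, map_sub, hffv, ← smul_neg, neg_sub]
    · rw [← smul_add]
      have : v + f v + (v - f v) = (2 : F) • v := by rw [two_smul]; abel
      rw [this, smul_smul, inv_mul_cancel₀ h2, one_smul]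
  have hdisj : Disjoint (LinearMap.ker (f - 1)) (LinearMap.ker (f + 1)) := by
    rw [Submodule.disjoint_def]
    intro v h1 h3
    rw [invol_mem_ker_sub] at h1
    rw [invol_mem_ker_add] at h3
    have : (2 : F) • v = 0 := by
      rw [two_smul]
      nth_rewrite 1 [← h1]
      rw [h3]
      exact neg_add_cancel v
    rcases smul_eq_zero.1 this with h | h
    · exact absurd h h2
    · exact h
  have hsup : LinearMap.ker (f - 1) ⊔ LinearMap.ker (f + 1) = ⊤ := by
    rw [eq_top_iff]
    intro v _
    obtain ⟨a, ha, b, hb, rfl⟩ := hdec v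
    exact Submodule.add_mem_sup ha hb
  refine ⟨?_, ?_, horth, ?_⟩
  · intro u hu hu0
    apply hV u Submodule.mem_top
    intro v _
    obtain ⟨a, ha, b, hb, rfl⟩ := hdec v
    rw [map_add, hu0 a ha, (horth u hu b hb).1, add_zero]
  · intro u hu hu0
    apply hV u Submodule.mem_top
    intro v _
    obtain ⟨a, ha, b, hb, rfl⟩ := hdec v
    rw [map_add, hu0 b hb, (horth a ha u hu).2, add_zero]
  · have h := Submodule.finrank_sup_add_finrank_inf_eq (LinearMap.ker (f - 1)) (LinearMap.ker (f + 1))
    rw [hsup, hdisj.eq_bot, finrank_bot, add_zero, finrank_top] at h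
    exact h.symm

end abstract

end Cfsg.Agent.Lib.Helper67.Ts
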