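import Mathlib
import Cfsg.Agent.Lib.Helper37.ParabolicMax

/-!
# Og hive (S2413 / S2414 / S2415): two-generation of the orthogonal groups `Ω`

Definitions for the abstract layer: a quadratic form `Q` on `ι → F` with a hyperbolic family
`e, f : Fin k → ι → F` and a "Levi" homomorphism `L : SL_k(F) → O(Q)`,
`A ↦ diag(A, A⁻ᵀ)` on `⟨e⟩ ⊕ ⟨f⟩`, trivial on the orthogonal complement `W` of the family.
-/

set_option autoImplicit false
set_option linter.unusedSectionVars false

namespace Cfsg.Agent.Lib.Helper67.Og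

open Matrix Module QuadraticMap
open Cfsg.Agent.Lib.Helper37 Cfsg.Agent.Lib.Helper8

variable {ι : Type} [Fintype ι] [DecidableEq ι] {F : Type*} [Field F]

/-- total version of the Eichler transformation `x ↦ x + B(u,x) v - B(v,x) u - Q(v) B(u,x) u`
(Helper8 `eichlerElt`), equal to `1` when `Q u ≠ 0` or `B(u,v) ≠ 0` -/
noncomputable def Ee (Q : QuadraticForm F (ι → F)) (hQ : (QuadraticMap.polarBilin Q).Nondegenerate)
    (u v : ι → F) : ↥(Cfsg.isometryGroup F ⇑Q) :=
  open Classical in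
  if h : Q u = 0 ∧ polar ⇑Q u v = 0 then eichlerElt Q hQ u v h.1 h.2 else 1

theorem Ee_eq (Q : QuadraticForm F (ι → F)) (hQ : (QuadraticMap.polarBilin Q).Nondegenerate)
    {u v : ι → F} (hu : Q u = 0) (huv : polar ⇑Q u v = 0) :
    Ee Q hQ u v = eichlerElt Q hQ u v hu huv := by
  unfold Ee
  rw [dif_pos ⟨hu, huv⟩]

/-- `w` is orthogonal to the whole hyperbolic family -/
def InW (Q : QuadraticForm F (ι → F)) {k : ℕ} (e f : Fin k → ι → F) (w : ι → F) : Prop :=
  ∀ i, polar ⇑Q (e i) w = 0 ∧ polar ⇑Q (f i) w = 0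

/-- the component of `x` orthogonal to the hyperbolic family -/
def Wpart (Q : QuadraticForm F (ι → F)) {k : ℕ} (e f : Fin k → ι → F) (x : ι → F) : ι → F :=
  x - ∑ i, (polar ⇑Q (f i) x • e i + polar ⇑Q (e i) x • f i)

/-- the Levi datum: `L A` acts as `A` on the `e i`, as `A⁻ᵀ` on the `f i`, trivially on `W` -/
structure LeviData (Q : QuadraticForm F (ι → F)) (k : ℕ) (e f : Fin k → ι → F)
    (L : Matrix.SpecialLinearGroup (Fin k) F →* ↥(Cfsg.isometryGroup F ⇑Q)) : Prop where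
  fam : HypFam Q k e f
  act_e : ∀ (A : Matrix.SpecialLinearGroup (Fin k) F) (i : Fin k),
    act Q (L A) (e i) = ∑ j, (A : Matrix (Fin k) (Fin k) F) j i • e j
  act_f : ∀ (A : Matrix.SpecialLinearGroup (Fin k) F) (i : Fin k),
    act Q (L A) (f i)
      = ∑ j, ((A⁻¹ : Matrix.SpecialLinearGroup (Fin k) F) : Matrix (Fin k) (Fin k) F) i j • f j
  act_w : ∀ (A : Matrix.SpecialLinearGroup (Fin k) F) (w : ι → F), InW Q e f w →
    act Q (L A) w = w

end Cfsg.Agent.Lib.Helper67.Og
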