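import Mathlib
import Cfsg.Agent.Lib.Helper67.OgDefs

/-!
# Og hive: the standard hyperbolic families of the three concrete forms (shared abbrevs)
-/

set_option autoImplicit false

namespace Cfsg.Agent.Lib.Helper67.Og

variable (F : Type*) [Field F]

/-- plus family -/
abbrev eP (m : ℕ) (i : Fin m) : Fin m ⊕ Fin m → F := Pi.single (Sum.inl i) 1
abbrev fP (m : ℕ) (i : Fin m) : Fin m ⊕ Fin m → F := Pi.single (Sum.inr i) 1
/-- minus family -/
abbrev eM (m : ℕ) (i : Fin m) : (Fin m ⊕ Fin m) ⊕ Fin 2 → F := Pi.single (Sum.inl (Sum.inl i)) 1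
abbrev fM (m : ℕ) (i : Fin m) : (Fin m ⊕ Fin m) ⊕ Fin 2 → F := Pi.single (Sum.inl (Sum.inr i)) 1
/-- odd family -/
abbrev eO (m : ℕ) (i : Fin m) : Unit ⊕ (Fin m ⊕ Fin m) → F := Pi.single (Sum.inr (Sum.inl i)) 1
abbrev fO (m : ℕ) (i : Fin m) : Unit ⊕ (Fin m ⊕ Fin m) → F := Pi.single (Sum.inr (Sum.inr i)) 1

end Cfsg.Agent.Lib.Helper67.Og
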