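import Mathlib
import Cfsg.Prelude.Def_TwoFusion
import Cfsg.Prelude.Def_Solvable
import Cfsg.Agent.Lib.Helper20.Isolated

/-!
# Consequences of Glauberman's Z*-theorem

Everything here takes the statement of the Z*-theorem (`Cfsg.Agent.S0215.result`) as a hypothesis
`ZStarHyp`, so that this file does not depend on its proof.
-/

set_option autoImplicit false

namespace Cfsg.Agent.Lib.Helper67

open Cfsg.Agent.Lib.Helper20
open scoped Pointwise

universe u

/-- the statement of Glauberman's Z*-theorem, in the form of S0215 -/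
def ZStarHyp : Prop :=
  ∀ (G : Type u) [Group G] [Finite G] (P : Sylow 2 G) (u : G), orderOf u = 2 → u ∈ P →
    (∀ g : G, g * u * g⁻¹ ∈ P → g * u * g⁻¹ = u) →
    ∃ N : Subgroup G, N.Normal ∧ Odd (Nat.card N) ∧ ∀ g : G, (u * g * u⁻¹ * g⁻¹) ∈ N

theorem eq_one_of_odd_of_dvd_two_pow {n k : ℕ} (ho : Odd n) (h : n ∣ 2 ^ k) : n = 1 :=
  (Nat.Coprime.pow_right k (Nat.coprime_two_right.mpr ho)).eq_one_of_dvd h

/-- Z* for an isolated involution. -/
theorem zstar_of_isolated (hZ : ZStarHyp.{u}) {G : Type u} [Group G] [Finite G] {z : G}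
    (hz : Cfsg.IsIsolatedInvolution z) :
    ∃ N : Subgroup G, N.Normal ∧ Odd (Nat.card N) ∧ ∀ g : G, (z * g * z⁻¹ * g⁻¹) ∈ N := by
  have h2 : IsPGroup 2 (Subgroup.zpowers z) := by
    apply IsPGroup.of_card (n := 1)
    rw [Nat.card_zpowers, hz.1, pow_one]
  obtain ⟨P, hP⟩ := h2.exists_le_sylow
  have hzP : z ∈ P := hP (Subgroup.mem_zpowers z)
  refine hZ G P z hz.1 hzP ?_
  intro g hg
  have hmem : z * (g * z * g⁻¹) ∈ (P : Subgroup G) := (P : Subgroup G).mul_mem hzP hg
  obtain ⟨k, hk⟩ := P.isPGroup' ⟨z * (g * z * g⁻¹), hmem⟩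
  have hk' : (z * (g * z * g⁻¹)) ^ 2 ^ k = 1 := by
    have := congrArg Subtype.val hk
    simpa using this
  have h1 : orderOf (z * (g * z * g⁻¹)) = 1 :=
    eq_one_of_odd_of_dvd_two_pow (isolated_odd_orderOf_mul hz g) (orderOf_dvd_of_pow_eq_one hk')
  have h3 : z * (g * z * g⁻¹) = 1 := orderOf_eq_one_iff.mp h1
  have h4 : g * z * g⁻¹ = z⁻¹ := eq_inv_of_mul_eq_one_right h3
  rw [h4, invol_inv hz.1]

/-- a Sylow `p`-subgroup is transitive on a transitive `G`-set of `p`-power size -/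
theorem sylow_transitive_of_card_prime_pow {G : Type*} [Group G] [Finite G] {p f : ℕ}
    [Fact p.Prime] {Ω : Type*} [MulAction G Ω] [MulAction.IsPretransitive G Ω]
    (hcard : Nat.card Ω = p ^ f) (P : Sylow p G) (ω x : Ω) :
    ∃ g : (P : Subgroup G), g • ω = x := by
  classical
  have hp : p.Prime := Fact.out
  have hfin : Finite Ω := Nat.finite_of_card_ne_zero (by rw [hcard]; exact (pow_pos hp.pos f).ne')
  have h1 : Nat.card (MulAction.orbit (↥(P : Subgroup G)) ω) *
      Nat.card (MulAction.stabilizer (↥(P : Subgroup G)) ω) = Nat.card (↥(P : Subgroup G)) := by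
    rw [← Nat.card_prod]
    exact Nat.card_congr (MulAction.orbitProdStabilizerEquivGroup _ ω)
  have h2 : Nat.card (MulAction.orbit G ω) * Nat.card (MulAction.stabilizer G ω) = Nat.card G := by
    rw [← Nat.card_prod]
    exact Nat.card_congr (MulAction.orbitProdStabilizerEquivGroup _ ω)
  have horb : Nat.card (MulAction.orbit G ω) = p ^ f := by
    rw [MulAction.orbit_eq_univ, Nat.card_congr (Equiv.Set.univ Ω), hcard]
  rw [horb] at h2
  obtain ⟨a, ha⟩ := IsPGroup.iff_card.mp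
    (P.isPGroup'.to_subgroup (MulAction.stabilizer (↥(P : Subgroup G)) ω))
  have hdvd : Nat.card (MulAction.stabilizer (↥(P : Subgroup G)) ω) ∣
      Nat.card (MulAction.stabilizer G ω) := by
    let φ : MulAction.stabilizer (↥(P : Subgroup G)) ω →* MulAction.stabilizer G ω :=
      { toFun := fun y => ⟨y.1.1, y.2⟩
        map_one' := rfl
        map_mul' := fun _ _ => rfl }
    apply Subgroup.card_dvd_of_injective φ
    intro y z hyz
    apply Subtype.ext
    apply Subtype.ext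
    exact congrArg (fun t : MulAction.stabilizer G ω => t.1) hyz
  have hG0 : Nat.card G ≠ 0 := Nat.card_pos.ne'
  have hdvd2 : p ^ (f + a) ∣ Nat.card G := by
    rw [← h2, pow_add, ← ha]
    exact Nat.mul_dvd_mul_left _ hdvd
  have hle : f + a ≤ (Nat.card G).factorization p :=
    (hp.pow_dvd_iff_le_factorization hG0).mp hdvd2
  rw [P.card_eq_multiplicity, ha] at h1
  have horbP : p ^ f ≤ Nat.card (MulAction.orbit (↥(P : Subgroup G)) ω) := by
    have h3 : p ^ (f + a) ≤ Nat.card (MulAction.orbit (↥(P : Subgroup G)) ω) * p ^ a := by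
      rw [h1]
      exact Nat.pow_le_pow_right hp.pos hle
    rw [pow_add] at h3
    exact Nat.le_of_mul_le_mul_right h3 (pow_pos hp.pos a)
  have huniv : MulAction.orbit (↥(P : Subgroup G)) ω = Set.univ := by
    rw [Set.eq_univ_iff_ncard, hcard]
    apply le_antisymm
    · rw [← hcard]
      exact Set.ncard_le_card _
    · rw [← Nat.card_coe_set_eq]
      exact horbP
  have hx : x ∈ MulAction.orbit (↥(P : Subgroup G)) ω := by rw [huniv]; exact Set.mem_univ x
  exact hx

/-- an involution normalizing a normal subgroup `N` of odd order normalizes a Sylow `q`-subgroup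
of `N`. -/
theorem exists_conj_invariant_sylow {G : Type*} [Group G] [Finite G] (N : Subgroup G)
    [hNn : N.Normal] (hN : Odd (Nat.card N)) {d : G} (hd : orderOf d = 2) (q : ℕ)
    [Fact q.Prime] :
    ∃ Q : Sylow q N, ∀ x : N, x ∈ Q → MulAut.conjNormal d x ∈ Q := by
  classical
  let φ : (Subgroup.zpowers d) →* MulAut N :=
    (MulAut.conjNormal (H := N)).comp (Subgroup.zpowers d).subtype
  let _inst : MulDistribMulAction (Subgroup.zpowers d) N := MulDistribMulAction.compHom N φ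
  have h2 : IsPGroup 2 (Subgroup.zpowers d) :=
    IsPGroup.of_card (n := 1) (by rw [Nat.card_zpowers, hd, pow_one])
  have hcard : ¬ 2 ∣ Nat.card (Sylow q N) := by
    intro h
    obtain ⟨Q⟩ : Nonempty (Sylow q N) := inferInstance
    have h1 : Nat.card (Sylow q N) ∣ (Q : Subgroup N).index := Q.card_dvd_index
    have h3 : (Q : Subgroup N).index ∣ Nat.card N := Subgroup.index_dvd_card _
    have : 2 ∣ Nat.card N := h.trans (h1.trans h3)
    exact (Nat.not_even_iff_odd.mpr hN) (even_iff_two_dvd.mpr this)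
  obtain ⟨Q, hQ⟩ := h2.nonempty_fixed_point_of_prime_not_dvd_card (Sylow q N) hcard
  refine ⟨Q, fun x hx => ?_⟩
  have h4 : (⟨d, Subgroup.mem_zpowers d⟩ : Subgroup.zpowers d) • Q = Q :=
    hQ ⟨d, Subgroup.mem_zpowers d⟩
  have h5 : (⟨d, Subgroup.mem_zpowers d⟩ : Subgroup.zpowers d) • x ∈
      ((⟨d, Subgroup.mem_zpowers d⟩ : Subgroup.zpowers d) • (Q : Subgroup N)) :=
    Subgroup.smul_mem_pointwise_smul _ _ _ hx
  rw [← Sylow.pointwise_smul_def, h4] at h5
  exact h5

theorem mem_conjugatesOf_iff_exists {G : Type*} [Group G] {a b : G} :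
    b ∈ conjugatesOf a ↔ ∃ c : G, c * a * c⁻¹ = b :=
  isConj_iff

theorem eq_one_of_orderOf_dvd_prime_pows {G : Type*} [Group G] {x : G} {p q : ℕ} (hp : p.Prime)
    (hq : q.Prime) (hpq : p ≠ q) {k j : ℕ} (h1 : orderOf x ∣ p ^ k) (h2 : orderOf x ∣ q ^ j) :
    x = 1 := by
  have hc : Nat.Coprime (p ^ k) (q ^ j) :=
    Nat.Coprime.pow _ _ ((Nat.coprime_primes hp hq).mpr hpq)
  exact orderOf_eq_one_iff.mp (Nat.eq_one_of_dvd_coprimes hc h1 h2)

/-- **S5560 from Z\***: if all products of two conjugates of the involution `d` have `p`-power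
order (`p` odd) then they all lie in `O_p(G)`. -/
theorem mul_mem_pCore_of_prime_pow_products (hZ : ZStarHyp.{u}) {G : Type u} [Group G] [Finite G]
    {p : ℕ} (hp : p.Prime) (hp2 : p ≠ 2) (d : G) (hd : orderOf d = 2)
    (hprod : ∀ a ∈ conjugatesOf d, ∀ b ∈ conjugatesOf d, ∃ k : ℕ, orderOf (a * b) = p ^ k) :
    ∀ a ∈ conjugatesOf d, ∀ b ∈ conjugatesOf d, a * b ∈ Cfsg.pCore p G := by
  classical
  have : Fact p.Prime := ⟨hp⟩
  have hdi : d⁻¹ = d := invol_inv hd
  have hd2 : d * d = 1 := invol_mul_self hd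
  have hconj : ∀ g : G, g * d * g⁻¹ ∈ conjugatesOf d := fun g =>
    mem_conjugatesOf_iff_exists.mpr ⟨g, rfl⟩
  have hdmem : d ∈ conjugatesOf d := mem_conjugatesOf_self
  -- `d` is isolated
  have hiso : Cfsg.IsIsolatedInvolution d := by
    refine ⟨hd, fun g hg => ?_⟩
    obtain ⟨k, hk⟩ := hprod d hdmem _ (hconj g)
    have hsq : (d * (g * d * g⁻¹)) ^ 2 = 1 := by
      rw [hg.mul_pow 2, pow_two, pow_two, hd2, conj_mul_self hd2 g, one_mul]
    have hdvd : orderOf (d * (g * d * g⁻¹)) ∣ 2 := orderOf_dvd_of_pow_eq_one hsq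
    have h1 : orderOf (d * (g * d * g⁻¹)) = 1 := by
      rcases Nat.eq_zero_or_pos k with hk0 | hk0
      · rw [hk, hk0, pow_zero]
      · exfalso
        have : p ∣ 2 := by
          have h3 : p ∣ p ^ k := dvd_pow_self p hk0.ne'
          rw [← hk] at h3
          exact h3.trans hdvd
        exact hp2 ((Nat.prime_dvd_prime_iff_eq hp Nat.prime_two).mp this)
    have h3 : d * (g * d * g⁻¹) = 1 := orderOf_eq_one_iff.mp h1
    have h4 : g * d * g⁻¹ = d⁻¹ := eq_inv_of_mul_eq_one_right h3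
    rw [h4, hdi]
  obtain ⟨N, hNn, hNodd, hNcomm⟩ := zstar_of_isolated hZ hiso
  have := hNn
  -- every conjugate of `d` is a conjugate under `N`
  have hconjN : ∀ g : G, ∃ n : N, (n : G) * d * (n : G)⁻¹ = g * d * g⁻¹ := by
    intro g
    obtain ⟨c, hc, -, -, hc2⟩ := isolated_exists_conj hiso g
    have hmem : d * (g * d * g⁻¹) ∈ N := by
      have := hNcomm g
      rw [hdi] at this
      have e : d * g * d * g⁻¹ = d * (g * d * g⁻¹) := by group
      rwa [e] at this
    have hcN : c ∈ N := (Subgroup.zpowers_le.mpr hmem) hc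
    exact ⟨⟨c, hcN⟩, hc2⟩
  set CN : Subgroup N := (Subgroup.centralizer ({d} : Set G)).subgroupOf N with hCN
  -- invariant Sylow `q`-subgroups of `N` are centralized by `d` for `q ≠ p`
  have hcent : ∀ q : ℕ, q.Prime → q ≠ p → ¬ q ∣ CN.index := by
    intro q hq hqp
    have : Fact q.Prime := ⟨hq⟩
    obtain ⟨Q, hQ⟩ := exists_conj_invariant_sylow N hNodd hd q
    have hQle : (Q : Subgroup N) ≤ CN := by
      intro x hx
      have h1 : MulAut.conjNormal d x * x⁻¹ ∈ (Q : Subgroup N) :=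
        (Q : Subgroup N).mul_mem (hQ x hx) ((Q : Subgroup N).inv_mem hx)
      obtain ⟨j, hj⟩ := Q.isPGroup' ⟨_, h1⟩
      have hj' : ((d * (x : G) * d⁻¹) * (x : G)⁻¹) ^ q ^ j = 1 := by
        have := congrArg (fun y : (Q : Subgroup N) => ((y : N) : G)) hj
        simpa [MulAut.conjNormal_apply] using this
      obtain ⟨k, hk⟩ := hprod d hdmem ((x : G) * d * (x : G)⁻¹) (hconj x)
      have e : (d * (x : G) * d⁻¹) * (x : G)⁻¹ = d * ((x : G) * d * (x : G)⁻¹) := by
        rw [hdi]; group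
      rw [e] at hj'
      have h2 : d * ((x : G) * d * (x : G)⁻¹) = 1 :=
        eq_one_of_orderOf_dvd_prime_pows hp hq (Ne.symm hqp) (k := k) (j := j) (by rw [hk])
          (orderOf_dvd_of_pow_eq_one hj')
      rw [hCN, Subgroup.mem_subgroupOf, Subgroup.mem_centralizer_singleton_iff]
      have h3 : (x : G) * d * (x : G)⁻¹ = d⁻¹ := eq_inv_of_mul_eq_one_right h2
      rw [hdi] at h3
      calc (x : G) * d = ((x : G) * d * (x : G)⁻¹) * x := by group
        _ = d * x := by rw [h3]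
    intro hdvd
    exact Q.not_dvd_index (hdvd.trans (Subgroup.index_dvd_of_le hQle))
  have hidx : ∃ e, CN.index = p ^ e := by
    refine ⟨_, Nat.eq_prime_pow_of_unique_prime_dvd Subgroup.index_ne_zero_of_finite ?_⟩
    intro q hq hqd
    by_contra hne
    exact hcent q hq hne hqd
  obtain ⟨e, he⟩ := hidx
  obtain ⟨P, hP⟩ := exists_conj_invariant_sylow N hNodd hd p
  have hcardΩ : Nat.card (N ⧸ CN) = p ^ e := by rw [← he]; rfl
  have htrans : ∀ n : N, ∃ g : N, g ∈ P ∧
      (g : G) * d * (g : G)⁻¹ = (n : G) * d * (n : G)⁻¹ := by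
    intro n
    obtain ⟨g, hg⟩ := sylow_transitive_of_card_prime_pow hcardΩ P
      ((1 : N) : N ⧸ CN) ((n : N) : N ⧸ CN)
    refine ⟨g.1, g.2, ?_⟩
    have h1 : ((g.1 : N) : N ⧸ CN) = ((n : N) : N ⧸ CN) := by
      rw [← hg]
      show _ = ((g.1 * 1 : N) : N ⧸ CN)
      rw [mul_one]
    have h2 : (g.1)⁻¹ * n ∈ CN := QuotientGroup.eq.mp h1
    rw [hCN, Subgroup.mem_subgroupOf, Subgroup.mem_centralizer_singleton_iff] at h2
    push_cast at h2
    symm
    calc (n : G) * d * (n : G)⁻¹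
        = (g.1 : G) * (((g.1 : G)⁻¹ * n) * d) * ((g.1 : G)⁻¹ * n)⁻¹ * (g.1 : G)⁻¹ := by group
      _ = (g.1 : G) * (d * ((g.1 : G)⁻¹ * n)) * ((g.1 : G)⁻¹ * n)⁻¹ * (g.1 : G)⁻¹ := by rw [h2]
      _ = (g.1 : G) * d * (g.1 : G)⁻¹ := by group
  set K : Subgroup G := (P : Subgroup N).map N.subtype with hK
  have hKp : IsPGroup p K := P.isPGroup'.map N.subtype
  have hmain : ∀ a ∈ conjugatesOf d, ∀ b ∈ conjugatesOf d, a * b ∈ K := by
    intro a ha b hb
    obtain ⟨g₁, rfl⟩ := mem_conjugatesOf_iff_exists.mp ha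
    obtain ⟨g₂, rfl⟩ := mem_conjugatesOf_iff_exists.mp hb
    obtain ⟨n₁, hn₁⟩ := hconjN g₁
    obtain ⟨n₂, hn₂⟩ := hconjN g₂
    obtain ⟨x, hx, hx'⟩ := htrans n₁
    obtain ⟨y, hy, hy'⟩ := htrans n₂
    rw [← hn₁, ← hn₂, ← hx', ← hy']
    have h1 : MulAut.conjNormal d (x⁻¹ * y) ∈ P :=
      hP _ ((P : Subgroup N).mul_mem ((P : Subgroup N).inv_mem hx) hy)
    have h2 : x * MulAut.conjNormal d (x⁻¹ * y) * y⁻¹ ∈ (P : Subgroup N) :=
      (P : Subgroup N).mul_mem ((P : Subgroup N).mul_mem hx h1) ((P : Subgroup N).inv_mem hy)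
    refine ⟨_, h2, ?_⟩
    simp only [Subgroup.subtype_apply, Subgroup.coe_mul, MulAut.conjNormal_apply,
      Subgroup.coe_inv]
    rw [hdi]
    group
  intro a ha b hb
  have hle : Subgroup.normalClosure ({a * b} : Set G) ≤ K := by
    rw [Subgroup.normalClosure, Subgroup.closure_le]
    intro x hx
    obtain ⟨y, hy, hyx⟩ := Group.mem_conjugatesOfSet_iff.mp hx
    rw [Set.mem_singleton_iff] at hy
    subst hy
    obtain ⟨c, rfl⟩ := isConj_iff.mp hyx
    have e : c * (a * b) * c⁻¹ = (c * a * c⁻¹) * (c * b * c⁻¹) := by group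
    rw [e]
    apply hmain
    · exact IsConj.trans (c := c * a * c⁻¹) ha (isConj_iff.mpr ⟨c, rfl⟩)
    · exact IsConj.trans (c := c * b * c⁻¹) hb (isConj_iff.mpr ⟨c, rfl⟩)
  have hp' : IsPGroup p (Subgroup.normalClosure ({a * b} : Set G)) := hKp.to_le hle
  exact (le_sSup (show Subgroup.normalClosure ({a * b} : Set G) ∈
    {N : Subgroup G | N.Normal ∧ IsPGroup p N} from ⟨Subgroup.normalClosure_normal, hp'⟩))
    (Subgroup.subset_normalClosure (Set.mem_singleton _))

end Cfsg.Agent.Lib.Helper67
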