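import Mathlib
import Cfsg.Prelude.Def_TwoFusion
import Cfsg.Agent.Lib.Helper20.Isolated
import Cfsg.Agent.Lib.Helper67.ZStarDep

/-!
# Invariant Sylow subgroups for an isolated involution (consequences of Z*)
-/

set_option autoImplicit false

namespace Cfsg.Agent.Lib.Helper67

open Cfsg.Agent.Lib.Helper20
open scoped Pointwise

universe u

/-- restriction of an involutive automorphism to an invariant subgroup -/
def restrictInvol {R : Type*} [Group R] (φ : MulAut R) (hφ2 : ∀ x, φ (φ x) = x) (M : Subgroup R)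
    (hM : ∀ x ∈ M, φ x ∈ M) : MulAut M where
  toFun x := ⟨φ x, hM x x.2⟩
  invFun x := ⟨φ x, hM x x.2⟩
  left_inv x := Subtype.ext (hφ2 x)
  right_inv x := Subtype.ext (hφ2 x)
  map_mul' x y := Subtype.ext (by simp)

theorem restrictInvol_coe {R : Type*} [Group R] (φ : MulAut R) (hφ2 : ∀ x, φ (φ x) = x)
    (M : Subgroup R) (hM : ∀ x ∈ M, φ x ∈ M) (x : M) :
    ((restrictInvol φ hφ2 M hM x : M) : R) = φ x := rfl

theorem conj_conj_of_mul_self {G : Type*} [Group G] {z : G} (hz2 : z * z = 1) (x : G) :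
    z * (z * x * z⁻¹) * z⁻¹ = x := by
  have hzi : z⁻¹ = z := inv_eq_of_mul_eq_one_right hz2
  rw [hzi]
  calc z * (z * x * z) * z = (z * z) * x * (z * z) := by group
    _ = x := by rw [hz2, one_mul, mul_one]

/-- conjugation by an involution normalizing `H`, as an automorphism of `H` -/
def conjInvol {G : Type*} [Group G] (z : G) (hz2 : z * z = 1) (H : Subgroup G)
    (hzH : z ∈ Subgroup.normalizer (H : Set G)) : MulAut H :=
  restrictInvol (MulAut.conj z) (fun x => by
    rw [MulAut.conj_apply, MulAut.conj_apply]; exact conj_conj_of_mul_self hz2 x) H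
    (fun x hx => by
      rw [MulAut.conj_apply]; exact (Subgroup.mem_normalizer_iff.mp hzH x).mp hx)

theorem conjInvol_coe {G : Type*} [Group G] (z : G) (hz2 : z * z = 1) (H : Subgroup G)
    (hzH : z ∈ Subgroup.normalizer (H : Set G)) (x : H) :
    ((conjInvol z hz2 H hzH x : H) : G) = z * x * z⁻¹ := rfl

theorem conjInvol_conjInvol {G : Type*} [Group G] (z : G) (hz2 : z * z = 1) (H : Subgroup G)
    (hzH : z ∈ Subgroup.normalizer (H : Set G)) (x : H) :
    conjInvol z hz2 H hzH (conjInvol z hz2 H hzH x) = x :=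
  Subtype.ext (by rw [conjInvol_coe, conjInvol_coe]; exact conj_conj_of_mul_self hz2 _)

/-- an involutive automorphism of a group of odd order fixes a Sylow `q`-subgroup -/
theorem exists_mulAut_invariant_sylow {H : Type*} [Group H] [Finite H] (hH : Odd (Nat.card H))
    (φ : MulAut H) (hφ2 : ∀ x, φ (φ x) = x) (q : ℕ) [Fact q.Prime] :
    ∃ Q : Sylow q H, ∀ x ∈ Q, φ x ∈ Q := by
  classical
  have hsq : φ ^ 2 = 1 := by
    ext x
    rw [pow_two, MulAut.mul_apply, hφ2, MulAut.one_apply]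
  have h2 : IsPGroup 2 (Subgroup.zpowers φ) := by
    rintro ⟨g, hg⟩
    refine ⟨1, Subtype.ext ?_⟩
    obtain ⟨k, rfl⟩ := Subgroup.mem_zpowers_iff.mp hg
    show (φ ^ k) ^ 2 ^ 1 = 1
    rw [pow_one, ← zpow_natCast, ← zpow_mul, mul_comm, zpow_mul, zpow_natCast, hsq, one_zpow]
  have hcard : ¬ 2 ∣ Nat.card (Sylow q H) := by
    intro h
    obtain ⟨Q⟩ : Nonempty (Sylow q H) := inferInstance
    have h1 : Nat.card (Sylow q H) ∣ (Q : Subgroup H).index := Q.card_dvd_index
    have h3 : (Q : Subgroup H).index ∣ Nat.card H := Subgroup.index_dvd_card _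
    have : 2 ∣ Nat.card H := h.trans (h1.trans h3)
    exact (Nat.not_even_iff_odd.mpr hH) (even_iff_two_dvd.mpr this)
  obtain ⟨Q, hQ⟩ := h2.nonempty_fixed_point_of_prime_not_dvd_card (Sylow q H) hcard
  refine ⟨Q, fun x hx => ?_⟩
  have h4 : (⟨φ, Subgroup.mem_zpowers φ⟩ : Subgroup.zpowers φ) • Q = Q :=
    hQ ⟨φ, Subgroup.mem_zpowers φ⟩
  have h5 : φ x ∈ ((⟨φ, Subgroup.mem_zpowers φ⟩ : Subgroup.zpowers φ) • Q : Sylow q H) :=
    Subgroup.smul_mem_pointwise_smul (α := Subgroup.zpowers φ) x ⟨φ, Subgroup.mem_zpowers φ⟩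
      (Q : Subgroup H) hx
  rw [h4] at h5
  exact h5

/-- a maximal invariant `p`-subgroup of a group of odd order with an involutive automorphism is
a Sylow `p`-subgroup -/
theorem not_dvd_index_of_maximal_invariant {R : Type*} [Group R] [Finite R]
    (hR : Odd (Nat.card R)) (φ : MulAut R) (hφ2 : ∀ x, φ (φ x) = x) {p : ℕ} [Fact p.Prime]
    (Q : Subgroup R) (hQ : IsPGroup p Q) (hφQ : ∀ x ∈ Q, φ x ∈ Q)
    (hmax : ∀ K : Subgroup R, IsPGroup p K → (∀ x ∈ K, φ x ∈ K) → Q ≤ K → K = Q) :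
    ¬ p ∣ Q.index := by
  classical
  have hφQ' : ∀ x, φ x ∈ Q ↔ x ∈ Q := fun x =>
    ⟨fun h => by have := hφQ _ h; rwa [hφ2] at this, hφQ x⟩
  have hφM : ∀ x ∈ Subgroup.normalizer (Q : Set R), φ x ∈ Subgroup.normalizer (Q : Set R) := by
    intro x hx
    rw [Subgroup.mem_normalizer_iff] at hx ⊢
    intro h
    have key : φ x * h * (φ x)⁻¹ = φ (x * φ h * x⁻¹) := by
      rw [map_mul, map_mul, map_inv, hφ2]
    rw [key, hφQ', ← hx, hφQ']
  have hModd : Odd (Nat.card (Subgroup.normalizer (Q : Set R))) :=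
    odd_of_dvd_odd (Subgroup.card_subgroup_dvd_card _) hR
  obtain ⟨T, hT⟩ := exists_mulAut_invariant_sylow hModd
    (restrictInvol φ hφ2 (Subgroup.normalizer (Q : Set R)) hφM)
    (fun x => Subtype.ext (hφ2 x)) p
  have hQn : (Q.subgroupOf (Subgroup.normalizer (Q : Set R))).Normal :=
    Subgroup.normal_in_normalizer
  have hQp : IsPGroup p (Q.subgroupOf (Subgroup.normalizer (Q : Set R))) := hQ.comap_subtype
  have hQT : Q.subgroupOf (Subgroup.normalizer (Q : Set R)) ≤ T :=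
    IsPGroup.le_sylow_of_normal hQp T
  have hK := hmax ((T : Subgroup (Subgroup.normalizer (Q : Set R))).map
      (Subgroup.normalizer (Q : Set R)).subtype) (T.isPGroup'.map _)
    (by
      rintro _ ⟨t, ht, rfl⟩
      exact ⟨_, hT t ht, rfl⟩)
    (by
      intro x hx
      exact ⟨⟨x, Subgroup.le_normalizer hx⟩, hQT (Subgroup.mem_subgroupOf.mpr hx), rfl⟩)
  have hTeq : (T : Subgroup (Subgroup.normalizer (Q : Set R))) =
      Q.subgroupOf (Subgroup.normalizer (Q : Set R)) := by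
    rw [← Subgroup.comap_map_eq_self_of_injective
      (Subgroup.subtype_injective (Subgroup.normalizer (Q : Set R)))
      (T : Subgroup (Subgroup.normalizer (Q : Set R))), hK]
    rfl
  obtain ⟨n, hn⟩ := IsPGroup.iff_card.mp hQ
  have hmod := Sylow.card_quotient_normalizer_modEq_card_quotient hn
  intro hdvd
  apply T.not_dvd_index
  rw [hTeq]
  exact (Nat.modEq_zero_iff_dvd.mp (hmod.trans (Nat.modEq_zero_iff_dvd.mpr hdvd)))

/-- subgroup form: `z` an involution normalizing the odd-order subgroup `R`; a `p`-subgroup of `R`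
maximal among the `z`-invariant `p`-subgroups of `R` is a Sylow `p`-subgroup of `R`. -/
theorem not_dvd_relIndex_of_maximal_invariant {G : Type*} [Group G] [Finite G] {z : G}
    (hz2 : z * z = 1) (R : Subgroup G) (hRodd : Odd (Nat.card R))
    (hzR : z ∈ Subgroup.normalizer (R : Set G)) {p : ℕ} [Fact p.Prime] (Q : Subgroup G)
    (hQR : Q ≤ R) (hQ : IsPGroup p Q) (hzQ : z ∈ Subgroup.normalizer (Q : Set G))
    (hmax : ∀ K : Subgroup G, IsPGroup p K → z ∈ Subgroup.normalizer (K : Set G) → Q ≤ K →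
      K ≤ R → K = Q) :
    ¬ p ∣ Q.relIndex R := by
  have hQp : IsPGroup p (Q.subgroupOf R) := hQ.comap_subtype
  refine not_dvd_index_of_maximal_invariant hRodd (conjInvol z hz2 R hzR)
    (conjInvol_conjInvol z hz2 R hzR) (Q.subgroupOf R) hQp ?_ ?_
  · intro x hx
    rw [Subgroup.mem_subgroupOf] at hx ⊢
    rw [conjInvol_coe]
    exact (Subgroup.mem_normalizer_iff.mp hzQ _).mp hx
  · intro K' hK' hφK' hQK'
    have hfwd : ∀ h ∈ K'.map R.subtype, z * h * z⁻¹ ∈ K'.map R.subtype := by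
      rintro _ ⟨k, hk, rfl⟩
      exact ⟨_, hφK' k hk, rfl⟩
    have hK := hmax (K'.map R.subtype) (hK'.map _)
      (by
        rw [Subgroup.mem_normalizer_iff]
        intro h
        refine ⟨hfwd h, fun hh => ?_⟩
        have := hfwd _ hh
        rwa [conj_conj_of_mul_self hz2] at this)
      (by
        intro x hx
        exact ⟨⟨x, hQR hx⟩, hQK' (Subgroup.mem_subgroupOf.mpr hx), rfl⟩)
      (Subgroup.map_subtype_le K')
    rw [← Subgroup.comap_map_eq_self_of_injective (Subgroup.subtype_injective R) K', hK]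
    rfl

theorem mem_sylow_smul_iff {G : Type*} [Group G] {p : ℕ} {g x : G} {P : Sylow p G} :
    x ∈ g • P ↔ g⁻¹ * x * g ∈ P := by
  show x ∈ MulAut.conj g • (P : Subgroup G) ↔ _
  rw [Subgroup.mem_pointwise_smul_iff_inv_smul_mem, MulAut.smul_def, MulAut.conj_inv_apply]
  rfl

/-- **S1187 from Z\***. -/
theorem isolated_invariant_sylow (hZ : ZStarHyp.{u}) {G : Type u} [Group G] [Finite G] (z : G)
    (hz : Cfsg.IsIsolatedInvolution z) {p : ℕ} [Fact p.Prime] (Q : Subgroup G)
    (hQ : IsPGroup p Q) (hzQ : z ∈ Subgroup.normalizer (Q : Set G))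
    (hmax : ∀ R : Subgroup G, IsPGroup p R → z ∈ Subgroup.normalizer (R : Set G) → Q ≤ R →
      R = Q) :
    ∃ P : Sylow p G, (P : Subgroup G) = Q := by
  classical
  have hp : p.Prime := Fact.out
  have hz2 : z * z = 1 := invol_mul_self hz.1
  by_cases hp2 : p = 2
  · subst hp2
    have h2 : IsPGroup 2 (Subgroup.zpowers z) :=
      IsPGroup.of_card (n := 1) (by rw [Nat.card_zpowers, hz.1, pow_one])
    have hzp : Subgroup.zpowers z ≤ Subgroup.normalizer (Q : Set G) :=
      Subgroup.zpowers_le.mpr hzQ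
    have h3 : IsPGroup 2 (Subgroup.zpowers z ⊔ Q : Subgroup G) :=
      h2.to_sup_of_normal_right' hQ hzp
    have hzin : z ∈ Subgroup.zpowers z ⊔ Q :=
      (le_sup_left : Subgroup.zpowers z ≤ _) (Subgroup.mem_zpowers z)
    have h4 := hmax _ h3 (Subgroup.le_normalizer hzin) le_sup_right
    have hzQ' : z ∈ Q := by rw [← h4]; exact hzin
    obtain ⟨S, hS⟩ := hQ.exists_le_sylow
    have h5 := hmax S S.isPGroup' (Subgroup.le_normalizer (hS hzQ')) hS
    exact ⟨S, h5⟩
  · obtain ⟨N, hNn, hNodd, hNcomm⟩ := zstar_of_isolated hZ hz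
    have := hNn
    obtain ⟨Pbar, hPbar⟩ := (hQ.map (QuotientGroup.mk' N)).exists_le_sylow
    have hQR : Q ≤ (Pbar : Subgroup (G ⧸ N)).comap (QuotientGroup.mk' N) := by
      intro x hx
      exact hPbar (Subgroup.mem_map_of_mem _ hx)
    have hzR : z ∈ Subgroup.normalizer
        (((Pbar : Subgroup (G ⧸ N)).comap (QuotientGroup.mk' N) : Subgroup G) : Set G) := by
      rw [Subgroup.mem_normalizer_iff]
      intro h
      have h1 := hNcomm h⁻¹
      rw [inv_inv] at h1
      have h2 : (QuotientGroup.mk' N) (z * h * z⁻¹) = (QuotientGroup.mk' N) h := by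
        apply QuotientGroup.eq.mpr
        have e : (z * h * z⁻¹)⁻¹ * h = z * h⁻¹ * z⁻¹ * h := by group
        rw [e]; exact h1
      rw [Subgroup.mem_comap, Subgroup.mem_comap, h2]
    have hRodd : Odd (Nat.card ((Pbar : Subgroup (G ⧸ N)).comap (QuotientGroup.mk' N))) := by
      by_contra hev
      rw [Nat.not_odd_iff_even, even_iff_two_dvd] at hev
      obtain ⟨x, hx⟩ := exists_prime_orderOf_dvd_card' (G := ((Pbar : Subgroup (G ⧸ N)).comap
        (QuotientGroup.mk' N))) 2 hev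
      have hx2 : orderOf (x : G) = 2 := by rw [Subgroup.orderOf_coe]; exact hx
      have hxP : (QuotientGroup.mk' N) (x : G) ∈ Pbar := x.2
      obtain ⟨k, hk⟩ := Pbar.isPGroup' ⟨_, hxP⟩
      have hk' : ((QuotientGroup.mk' N) (x : G)) ^ p ^ k = 1 := by
        have := congrArg Subtype.val hk
        simpa using this
      have h2' : ((QuotientGroup.mk' N) (x : G)) ^ 2 ^ 1 = 1 := by
        rw [pow_one, ← map_pow, ← hx2, pow_orderOf_eq_one, map_one]
      have h1 : (QuotientGroup.mk' N) (x : G) = 1 :=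
        eq_one_of_orderOf_dvd_prime_pows hp Nat.prime_two hp2
          (orderOf_dvd_of_pow_eq_one hk') (orderOf_dvd_of_pow_eq_one h2')
      have hxN : (x : G) ∈ N := (QuotientGroup.eq_one_iff _).mp h1
      have h3 : orderOf (⟨(x : G), hxN⟩ : N) ∣ Nat.card N := orderOf_dvd_natCard _
      have h4 : orderOf (⟨(x : G), hxN⟩ : N) = 2 := by
        rw [← Subgroup.orderOf_coe]; exact hx2
      rw [h4] at h3
      exact (Nat.not_even_iff_odd.mpr hNodd) (even_iff_two_dvd.mpr h3)
    have hrel := not_dvd_relIndex_of_maximal_invariant hz2 _ hRodd hzR Q hQR hQ hzQ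
      (fun K hK hzK hQK _ => hmax K hK hzK hQK)
    have hRidx : ¬ p ∣ ((Pbar : Subgroup (G ⧸ N)).comap (QuotientGroup.mk' N)).index := by
      rw [Subgroup.index_comap_of_surjective _ (QuotientGroup.mk'_surjective N)]
      exact Pbar.not_dvd_index
    have hidx : ¬ p ∣ Q.index := by
      rw [← Subgroup.relIndex_mul_index hQR]
      intro h
      rcases hp.dvd_mul.mp h with h | h
      · exact hrel h
      · exact hRidx h
    exact ⟨hQ.toSylow hidx, rfl⟩

/-- every `z`-invariant `p`-subgroup lies in a `z`-invariant Sylow `p`-subgroup (`z` isolated) -/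
theorem exists_invariant_sylow_ge (hZ : ZStarHyp.{u}) {G : Type u} [Group G] [Finite G] (z : G)
    (hz : Cfsg.IsIsolatedInvolution z) {p : ℕ} [Fact p.Prime] (Q₀ : Subgroup G)
    (hQ₀ : IsPGroup p Q₀) (hzQ₀ : z ∈ Subgroup.normalizer (Q₀ : Set G)) :
    ∃ P : Sylow p G, Q₀ ≤ P ∧ z ∈ Subgroup.normalizer ((P : Subgroup G) : Set G) := by
  classical
  obtain ⟨Q, hQmax⟩ := (Set.toFinite {K : Subgroup G | IsPGroup p K ∧
    z ∈ Subgroup.normalizer (K : Set G) ∧ Q₀ ≤ K}).exists_maximal ⟨Q₀, hQ₀, hzQ₀, le_rfl⟩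
  obtain ⟨⟨hQ, hzQ, hQ₀Q⟩, hmax⟩ := hQmax
  obtain ⟨P, hP⟩ := isolated_invariant_sylow hZ z hz Q hQ hzQ
    (fun R hR hzR hQR => le_antisymm (hmax ⟨hR, hzR, hQ₀Q.trans hQR⟩ hQR) hQR)
  exact ⟨P, by rw [hP]; exact hQ₀Q, by rw [hP]; exact hzQ⟩

/-- the centralizer of an isolated involution `z` is transitive on the `z`-invariant Sylow
`p`-subgroups -/
theorem invariant_sylow_conj {G : Type*} [Group G] [Finite G] {z : G}
    (hz : Cfsg.IsIsolatedInvolution z) {p : ℕ} [Fact p.Prime] (P P' : Sylow p G)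
    (hzP : z ∈ Subgroup.normalizer ((P : Subgroup G) : Set G))
    (hzP' : z ∈ Subgroup.normalizer ((P' : Subgroup G) : Set G)) :
    ∃ h : G, h * z = z * h ∧ h • P = P' := by
  obtain ⟨g, hg⟩ := MulAction.exists_smul_eq G P P'
  have hN : ∀ (x : G) (S : Sylow p G),
      x • S = S ↔ x ∈ Subgroup.normalizer ((S : Subgroup G) : Set G) :=
    fun x S => Sylow.smul_eq_iff_mem_normalizer
  have ht : g * z * g⁻¹ ∈ Subgroup.normalizer ((P' : Subgroup G) : Set G) := by
    rw [← hN, ← hg, mul_smul, mul_smul, inv_smul_smul, (hN z P).mpr hzP]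
  obtain ⟨c, hc, -, -, hc2⟩ := isolated_exists_conj hz g
  have hcN : c ∈ Subgroup.normalizer ((P' : Subgroup G) : Set G) :=
    (Subgroup.zpowers_le.mpr (mul_mem hzP' ht)) hc
  refine ⟨c⁻¹ * g, ?_, ?_⟩
  · have h1 : c⁻¹ * (g * z * g⁻¹) * c = z := by rw [← hc2]; group
    calc c⁻¹ * g * z = (c⁻¹ * (g * z * g⁻¹) * c) * (c⁻¹ * g) := by group
      _ = z * (c⁻¹ * g) := by rw [h1]
  · rw [mul_smul, hg, hN]
    exact inv_mem hcN

end Cfsg.Agent.Lib.Helper67
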