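import Mathlib
import Cfsg.Prelude.Def_TwoFusion
import Cfsg.Prelude.Def_Local
import Cfsg.Agent.Lib.Helper20.Isolated
import Cfsg.Agent.Lib.Helper55.Cores
import Cfsg.Agent.Lib.Helper49.ZStarMin
import Cfsg.Agent.Lib.Helper67.ZStarDep2
import Cfsg.Agent.S0016
import Cfsg.Agent.S0201

/-!
# Assembly of Glauberman's Z*-theorem

The master induction, with the two substantial steps (`GStepHyp`: the dihedral/local step, and
`CFStepHyp`: the character-theoretic step) taken as hypotheses.
-/

set_option autoImplicit false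

namespace Cfsg.Agent.Lib.Helper67

open Cfsg.Agent.Lib.Helper20
open scoped Pointwise

universe u

/-- Z* holds (in the isolated form) for all groups of order `< n` in universe `u`. -/
def ZStarBelow (n : ℕ) : Prop :=
  ∀ (H : Type u) [Group H] [Finite H], Nat.card H < n → ∀ x : H, Cfsg.IsIsolatedInvolution x →
    ∃ N : Subgroup H, N.Normal ∧ Odd (Nat.card N) ∧ ∀ g : H, x * g * x⁻¹ * g⁻¹ ∈ N

/-- the dihedral / local step (G) -/
def GStepHyp : Prop :=
  ∀ (G : Type u) [Group G] [Finite G], ZStarBelow.{u} (Nat.card G) →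
    (∀ N : Subgroup G, N.Normal → Odd (Nat.card N) → N = ⊥) →
    (∀ z ∈ Subgroup.center G, orderOf z ≠ 2) →
    ∀ x y : G, Cfsg.IsIsolatedInvolution x → orderOf y = 2 → Commute x y → y ≠ x →
    ∀ g : G, ∃ z v : G, g * x * g⁻¹ * y = z * v ∧ orderOf z = 2 ∧ IsConj z (x * y) ∧
      v ∈ Cfsg.centralizerPPrimeCore 2 z

/-- the character-theoretic step (C)+(F) -/
def CFStepHyp : Prop :=
  ∀ (G : Type u) [Group G] [Finite G] (x y : G), Cfsg.IsIsolatedInvolution x → orderOf y = 2 →
    Commute x y → y ≠ x →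
    (∀ g : G, ∃ z v : G, g * x * g⁻¹ * y = z * v ∧ orderOf z = 2 ∧ IsConj z (x * y) ∧
      v ∈ Cfsg.centralizerPPrimeCore 2 z) →
    (∀ g : G, ∃ z v : G, g * x * g⁻¹ * (x * y) = z * v ∧ orderOf z = 2 ∧ IsConj z y ∧
      v ∈ Cfsg.centralizerPPrimeCore 2 z) →
    ∃ N : Subgroup G, N.Normal ∧ N ≠ ⊤ ∧ x ∈ N

theorem eq_one_of_pow_two_of_odd {G : Type*} [Group G] {w : G} {m : ℕ} (h2 : w ^ 2 = 1)
    (hm : w ^ m = 1) (hodd : Odd m) : w = 1 := by
  have h1 : orderOf w ∣ 2 := orderOf_dvd_of_pow_eq_one h2
  have h3 : orderOf w ∣ m := orderOf_dvd_of_pow_eq_one hm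
  have hc : Nat.Coprime 2 m := Nat.coprime_two_left.mpr hodd
  exact orderOf_eq_one_iff.mp (Nat.eq_one_of_dvd_coprimes hc h1 h3)

/-- an isolated involution stays isolated in any quotient in which it survives -/
theorem isolated_quotient {G : Type*} [Group G] [Finite G] {x : G}
    (hx : Cfsg.IsIsolatedInvolution x) (M : Subgroup G) [M.Normal] (hxM : x ∉ M) :
    Cfsg.IsIsolatedInvolution ((QuotientGroup.mk' M) x) := by
  have hx2 : x * x = 1 := invol_mul_self hx.1
  have ha2 : ((QuotientGroup.mk' M) x) ^ 2 = 1 := by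
    rw [← map_pow, pow_two, hx2, map_one]
  have hane : (QuotientGroup.mk' M) x ≠ 1 := fun h => hxM ((QuotientGroup.eq_one_iff x).mp h)
  refine ⟨orderOf_eq_prime ha2 hane, ?_⟩
  intro gb hcomm
  obtain ⟨g, rfl⟩ := QuotientGroup.mk'_surjective M gb
  have hodd := isolated_odd_orderOf_mul hx g
  have hb2 : ((QuotientGroup.mk' M) g * (QuotientGroup.mk' M) x * ((QuotientGroup.mk' M) g)⁻¹) ^ 2
      = 1 := by
    rw [conj_pow, ha2, mul_one, mul_inv_cancel]
  have hw2 : ((QuotientGroup.mk' M) x *
      ((QuotientGroup.mk' M) g * (QuotientGroup.mk' M) x * ((QuotientGroup.mk' M) g)⁻¹)) ^ 2 = 1 := by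
    rw [hcomm.mul_pow, ha2, hb2, one_mul]
  have hwm : ((QuotientGroup.mk' M) x *
      ((QuotientGroup.mk' M) g * (QuotientGroup.mk' M) x * ((QuotientGroup.mk' M) g)⁻¹)) ^
        orderOf (x * (g * x * g⁻¹)) = 1 := by
    rw [← map_inv, ← map_mul, ← map_mul, ← map_mul, ← map_pow, pow_orderOf_eq_one, map_one]
  have h1 := eq_one_of_pow_two_of_odd hw2 hwm hodd
  have h2 : (QuotientGroup.mk' M) g * (QuotientGroup.mk' M) x * ((QuotientGroup.mk' M) g)⁻¹ =
      ((QuotientGroup.mk' M) x)⁻¹ := eq_inv_of_mul_eq_one_right h1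
  rw [h2]
  exact inv_eq_of_mul_eq_one_right (by rw [← pow_two, ha2])

/-- the conclusion of Z* lifts through a quotient by a normal subgroup of odd order -/
theorem zconcl_of_quotient {G : Type*} [Group G] [Finite G] {x : G} (M : Subgroup G) [M.Normal]
    (hM : Odd (Nat.card M))
    (h : ∃ N : Subgroup (G ⧸ M), N.Normal ∧ Odd (Nat.card N) ∧
      ∀ g : G ⧸ M, (QuotientGroup.mk' M) x * g * ((QuotientGroup.mk' M) x)⁻¹ * g⁻¹ ∈ N) :
    ∃ N : Subgroup G, N.Normal ∧ Odd (Nat.card N) ∧ ∀ g : G, x * g * x⁻¹ * g⁻¹ ∈ N := by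
  obtain ⟨N, hNn, hNodd, hN⟩ := h
  have := hNn
  refine ⟨N.comap (QuotientGroup.mk' M), inferInstance, ?_, ?_⟩
  · rw [Cfsg.Agent.Lib.Helper55.card_comap_mk']
    exact hM.mul hNodd
  · intro g
    rw [Subgroup.mem_comap, map_mul, map_mul, map_mul, map_inv, map_inv]
    exact hN _

theorem mem_zpowers_of_orderOf_two {G : Type*} [Group G] {z n : G} (hz : orderOf z = 2)
    (hn : n ∈ Subgroup.zpowers z) : n = 1 ∨ n = z := by
  obtain ⟨k, rfl⟩ := Subgroup.mem_zpowers_iff.mp hn
  rw [← zpow_mod_orderOf, hz]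
  rcases Int.emod_two_eq_zero_or_one k with h | h
  · left; rw [show k % ((2 : ℕ) : ℤ) = 0 from h, zpow_zero]
  · right; rw [show k % ((2 : ℕ) : ℤ) = 1 from h, zpow_one]

theorem zpowers_normal_of_central_involution {G : Type*} [Group G] {z : G} (hz : orderOf z = 2)
    (hzc : z ∈ Subgroup.center G) : (Subgroup.zpowers z).Normal := by
  constructor
  intro n hn g
  rcases mem_zpowers_of_orderOf_two hz hn with h | h
  · rw [h]; simp
  · have := Subgroup.mem_center_iff.mp hzc g
    rw [h, this, mul_inv_cancel_right]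
    exact Subgroup.mem_zpowers z

/-- a group of order `2m` (`m` odd) with a central involution `z`, sitting as a normal subgroup
`N₁` in `G`: the elements of odd order of `N₁` form a normal subgroup of `G` of order `m`. -/
theorem exists_normal_odd_of_central_involution {G : Type*} [Group G] [Finite G] (N₁ : Subgroup G)
    [hN₁ : N₁.Normal] {z : G} (hz : orderOf z = 2) (hzc : z ∈ Subgroup.center G) (hzN : z ∈ N₁)
    {m : ℕ} (hm : Odd m) (hcard : Nat.card N₁ = 2 * m) :
    ∃ K : Subgroup G, K.Normal ∧ Nat.card K = m := by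
  classical
  have hZn : (Subgroup.zpowers z).Normal := by
    constructor
    intro n hn g
    rcases mem_zpowers_of_orderOf_two hz hn with h | h
    · rw [h]; simp
    · have := Subgroup.mem_center_iff.mp hzc g
      rw [h, this, mul_inv_cancel_right]
      exact Subgroup.mem_zpowers z
  have hZle : Subgroup.zpowers z ≤ N₁ := Subgroup.zpowers_le.mpr hzN
  have hZ'card : Nat.card ((Subgroup.zpowers z).subgroupOf N₁) = 2 := by
    rw [Nat.card_congr (Subgroup.subgroupOfEquivOfLe hZle).toEquiv, Nat.card_zpowers, hz]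
  have hZ'idx : ((Subgroup.zpowers z).subgroupOf N₁).index = m := by
    have h1 := Subgroup.card_mul_index ((Subgroup.zpowers z).subgroupOf N₁)
    rw [hZ'card, hcard] at h1
    omega
  have hcop : (Nat.card ((Subgroup.zpowers z).subgroupOf N₁)).Coprime
      ((Subgroup.zpowers z).subgroupOf N₁).index := by
    rw [hZ'card, hZ'idx]; exact Nat.coprime_two_left.mpr hm
  obtain ⟨K₀, hK₀⟩ := Subgroup.exists_right_complement'_of_coprime hcop
  have hK₀card : Nat.card K₀ = m := by
    have h1 := hK₀.card_mul_card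
    rw [hZ'card, hcard] at h1
    omega
  have hKcard : Nat.card (K₀.map N₁.subtype) = m := by
    rw [Subgroup.card_map_of_injective (Subgroup.subtype_injective _), hK₀card]
  -- the elements of `K` are exactly the elements of odd order of `N₁`
  have hKodd : ∀ n ∈ K₀.map N₁.subtype, Odd (orderOf n) := by
    intro n hn
    have h1 : orderOf (⟨n, hn⟩ : K₀.map N₁.subtype) ∣ Nat.card (K₀.map N₁.subtype) :=
      orderOf_dvd_natCard _
    rw [← Subgroup.orderOf_coe, hKcard] at h1
    exact odd_of_dvd_odd h1 hm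
  have hKmem : ∀ n ∈ N₁, Odd (orderOf n) → n ∈ K₀.map N₁.subtype := by
    intro n hn hodd
    obtain ⟨⟨c, k⟩, hck⟩ := hK₀.existsUnique (⟨n, hn⟩ : N₁) |>.exists
    have hck' : (c : N₁) * (k : N₁) = ⟨n, hn⟩ := hck
    have hcz : ((c : N₁) : G) = 1 ∨ ((c : N₁) : G) = z :=
      mem_zpowers_of_orderOf_two hz (Subgroup.mem_subgroupOf.mp c.2)
    have hn_eq : n = ((c : N₁) : G) * ((k : N₁) : G) := by
      have := congrArg (fun t : N₁ => (t : G)) hck'
      simpa using this.symm
    rcases hcz with h1 | h1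
    · rw [hn_eq, h1, one_mul]
      exact ⟨(k : N₁), k.2, rfl⟩
    · exfalso
      -- n = z * k, z central: n ^ j = z ^ j * k ^ j
      have hkK : ((k : N₁) : G) ∈ K₀.map N₁.subtype := ⟨(k : N₁), k.2, rfl⟩
      have hcomm : Commute z ((k : N₁) : G) := (Subgroup.mem_center_iff.mp hzc _).symm
      obtain ⟨j, hj⟩ := hodd
      have h2 : n ^ orderOf n = 1 := pow_orderOf_eq_one n
      rw [hn_eq, h1, hcomm.mul_pow] at h2
      have hzj : z ^ orderOf n = z := by
        rw [hj, pow_succ, pow_mul, ← hz, pow_orderOf_eq_one, one_pow, one_mul]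
      rw [hn_eq, h1] at hzj
      rw [hzj] at h2
      have h3 : z = (((k : N₁) : G) ^ orderOf (z * ((k : N₁) : G)))⁻¹ := eq_inv_of_mul_eq_one_left h2
      have hzK : z ∈ K₀.map N₁.subtype := by
        rw [h3]; exact Subgroup.inv_mem _ (Subgroup.pow_mem _ hkK _)
      have := hKodd z hzK
      rw [hz] at this
      exact absurd this (by decide)
  refine ⟨K₀.map N₁.subtype, ⟨fun n hn g => ?_⟩, hKcard⟩
  apply hKmem
  · exact hN₁.conj_mem n (Subgroup.map_subtype_le K₀ hn) g
  · rw [orderOf_conj']; exact hKodd n hn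

/-- (R1) with a central involution in `G` (and `O(G) = 1`), an isolated involution is central. -/
theorem central_of_central_involution {G : Type u} [Group G] [Finite G]
    (ih : ZStarBelow.{u} (Nat.card G))
    (hO : ∀ N : Subgroup G, N.Normal → Odd (Nat.card N) → N = ⊥) {x z : G}
    (hx : Cfsg.IsIsolatedInvolution x) (hz : orderOf z = 2) (hzc : z ∈ Subgroup.center G) :
    ∀ g : G, x * g * x⁻¹ * g⁻¹ = 1 := by
  classical
  have hxi : x⁻¹ = x := invol_inv hx.1
  by_cases hzx : z = x
  · subst hzx
    intro g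
    have := Subgroup.mem_center_iff.mp hzc g
    rw [← this, mul_inv_cancel_right, mul_inv_cancel]
  · have hZn : (Subgroup.zpowers z).Normal := zpowers_normal_of_central_involution hz hzc
    have hxZ : x ∉ Subgroup.zpowers z := by
      intro h
      rcases mem_zpowers_of_orderOf_two hz h with h1 | h1
      · exact invol_ne_one hx.1 h1
      · exact hzx h1.symm
    have hiso := isolated_quotient hx (Subgroup.zpowers z) hxZ
    have hcardlt : Nat.card (G ⧸ Subgroup.zpowers z) < Nat.card G := by
      have h1 := Subgroup.card_eq_card_quotient_mul_card_subgroup (Subgroup.zpowers z)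
      rw [Nat.card_zpowers, hz] at h1
      have : 0 < Nat.card (G ⧸ Subgroup.zpowers z) := Nat.card_pos
      omega
    obtain ⟨Nb, hNbn, hNbodd, hNb⟩ := ih (G ⧸ Subgroup.zpowers z) hcardlt _ hiso
    have := hNbn
    have hN₁card : Nat.card (Nb.comap (QuotientGroup.mk' (Subgroup.zpowers z))) =
        2 * Nat.card Nb := by
      rw [Cfsg.Agent.Lib.Helper55.card_comap_mk', Nat.card_zpowers, hz]
    have hzN₁ : z ∈ Nb.comap (QuotientGroup.mk' (Subgroup.zpowers z)) :=
      Cfsg.Agent.Lib.Helper55.le_comap_mk' _ _ (Subgroup.mem_zpowers z)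
    obtain ⟨K, hKn, hKcard⟩ := exists_normal_odd_of_central_involution
      (Nb.comap (QuotientGroup.mk' (Subgroup.zpowers z))) hz hzc hzN₁ hNbodd hN₁card
    have hK1 := hO K hKn (by rw [hKcard]; exact hNbodd)
    have hNb1 : Nat.card Nb = 1 := by rw [← hKcard, hK1]; exact Subgroup.card_bot
    have hNbbot : Nb = ⊥ := Subgroup.card_eq_one.mp hNb1
    intro g
    have h1 := hNb ((QuotientGroup.mk' (Subgroup.zpowers z)) g)
    rw [hNbbot, Subgroup.mem_bot, ← map_inv, ← map_inv, ← map_mul, ← map_mul, ← map_mul,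
      QuotientGroup.mk'_apply, QuotientGroup.eq_one_iff] at h1
    have hodd := isolated_odd_orderOf_mul hx g
    have e : x * g * x⁻¹ * g⁻¹ = x * (g * x * g⁻¹) := by rw [hxi]; group
    rw [e] at h1 ⊢
    rcases mem_zpowers_of_orderOf_two hz h1 with h2 | h2
    · exact h2
    · rw [h2, hz] at hodd; exact absurd hodd (by decide)

/-- a group with a cyclic Sylow `2`-subgroup and no nontrivial normal subgroup of odd order is
abelian (Burnside). -/
theorem comm_of_cyclic_sylow_two {G : Type*} [Group G] [Finite G]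
    (hO : ∀ N : Subgroup G, N.Normal → Odd (Nat.card N) → N = ⊥) (P : Sylow 2 G)
    (hP : IsCyclic (P : Subgroup G)) (h2 : 2 ∣ Nat.card G) : ∀ a b : G, a * b = b * a := by
  have hmin : (Nat.card G).minFac = 2 := (Nat.minFac_eq_two_iff _).mpr h2
  have hcompl := IsCyclic.isComplement' hmin hP
  have hKodd : Odd (Nat.card (MonoidHom.transferSylow P
      (IsCyclic.normalizer_le_centralizer hmin hP)).ker) := by
    rw [← hcompl.index_eq_card]
    exact Nat.not_even_iff_odd.mp (fun h => P.not_dvd_index (even_iff_two_dvd.mp h))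
  have hK := hO _ (MonoidHom.normal_ker _) hKodd
  rw [hK] at hcompl
  have htop : (P : Subgroup G) = ⊤ := Subgroup.isComplement'_bot_left.mp hcompl
  intro a b
  have ha : a ∈ (P : Subgroup G) := by rw [htop]; exact Subgroup.mem_top a
  have hb : b ∈ (P : Subgroup G) := by rw [htop]; exact Subgroup.mem_top b
  let _inst : CommGroup (P : Subgroup G) := IsCyclic.commGroup
  have := mul_comm (⟨a, ha⟩ : (P : Subgroup G)) ⟨b, hb⟩
  exact congrArg Subtype.val this

/-- (rank 1) if `x` is the only involution commuting with `x` (and `O(G) = 1`), then `x` is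
central: Burnside's transfer theorem and the Brauer-Suzuki theorem. -/
theorem central_of_unique_involution {G : Type u} [Group G] [Finite G]
    (hO : ∀ N : Subgroup G, N.Normal → Odd (Nat.card N) → N = ⊥) {x : G}
    (hx : Cfsg.IsIsolatedInvolution x)
    (huniq : ∀ y : G, orderOf y = 2 → Commute x y → y = x) :
    ∀ g : G, x * g * x⁻¹ * g⁻¹ = 1 := by
  classical
  have hfin : ∀ g : G, x * g = g * x → x * g * x⁻¹ * g⁻¹ = 1 := by
    intro g h
    rw [h, mul_inv_cancel_right, mul_inv_cancel]
  have h2x : IsPGroup 2 (Subgroup.zpowers x) :=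
    IsPGroup.of_card (n := 1) (by rw [Nat.card_zpowers, hx.1, pow_one])
  obtain ⟨P, hP⟩ := h2x.exists_le_sylow
  have hxP : x ∈ (P : Subgroup G) := hP (Subgroup.mem_zpowers x)
  have h2G : 2 ∣ Nat.card G := by rw [← hx.1]; exact orderOf_dvd_natCard x
  -- the centre of `P` contains an involution, which must be `x`
  have hnt : Nontrivial (P : Subgroup G) :=
    ⟨⟨⟨x, hxP⟩, 1, fun h => invol_ne_one hx.1 (congrArg Subtype.val h)⟩⟩
  have hcnt : Nontrivial (Subgroup.center (P : Subgroup G)) := P.isPGroup'.center_nontrivial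
  have hc2 : IsPGroup 2 (Subgroup.center (P : Subgroup G)) := P.isPGroup'.to_subgroup _
  obtain ⟨kk, hkk⟩ := IsPGroup.iff_card.mp hc2
  have h2dvd : 2 ∣ Nat.card (Subgroup.center (P : Subgroup G)) := by
    rw [hkk]
    have : kk ≠ 0 := by
      rintro rfl
      rw [pow_zero] at hkk
      have := Finite.one_lt_card (α := Subgroup.center (P : Subgroup G))
      omega
    exact dvd_pow_self 2 this
  obtain ⟨c, hc⟩ := exists_prime_orderOf_dvd_card' (G := Subgroup.center (P : Subgroup G)) 2 h2dvd
  have hc2' : orderOf (((c : (P : Subgroup G)) : G)) = 2 := by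
    rw [Subgroup.orderOf_coe, Subgroup.orderOf_coe]; exact hc
  have hccomm : ∀ y : (P : Subgroup G), (y : G) * ((c : (P : Subgroup G)) : G) =
      ((c : (P : Subgroup G)) : G) * (y : G) := by
    intro y
    have := Subgroup.mem_center_iff.mp c.2 y
    exact congrArg Subtype.val this
  have hcx : ((c : (P : Subgroup G)) : G) = x :=
    huniq _ hc2' (hccomm ⟨x, hxP⟩)
  have hxcent : ∀ y ∈ (P : Subgroup G), Commute x y := by
    intro y hy
    have := hccomm ⟨y, hy⟩
    rw [hcx] at this
    exact this.symm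
  have hPuniq : ∀ y ∈ (P : Subgroup G), orderOf y = 2 → y = x := fun y hy h2 =>
    huniq y h2 (hxcent y hy)
  -- `P` has a unique subgroup of order 2
  have hsub : ∀ H K : Subgroup (P : Subgroup G), Nat.card H = 2 → Nat.card K = 2 → H = K := by
    have key : ∀ H : Subgroup (P : Subgroup G), Nat.card H = 2 →
        H = Subgroup.zpowers (⟨x, hxP⟩ : (P : Subgroup G)) := by
      intro H hH
      obtain ⟨h, hh⟩ := exists_prime_orderOf_dvd_card' (G := H) 2 (by rw [hH])
      have h1 : orderOf (((h : (P : Subgroup G)) : G)) = 2 := by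
        rw [Subgroup.orderOf_coe, Subgroup.orderOf_coe]; exact hh
      have h2 : ((h : (P : Subgroup G)) : G) = x := hPuniq _ (h : (P : Subgroup G)).2 h1
      have h3 : (h : (P : Subgroup G)) = ⟨x, hxP⟩ := Subtype.ext h2
      symm
      apply Subgroup.eq_of_le_of_card_ge
      · rw [Subgroup.zpowers_le, ← h3]; exact h.2
      · rw [hH, Nat.card_zpowers, ← h3, Subgroup.orderOf_coe, hh]
    intro H K hH hK
    rw [key H hH, key K hK]
  rcases Cfsg.Agent.S0016.result 2 P.isPGroup' hsub with hcyc | ⟨-, n, ⟨e⟩⟩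
  · intro g
    exact hfin g (comm_of_cyclic_sylow_two hO P hcyc h2G x g)
  · cases n with
    | zero =>
      have hcyc : IsCyclic (P : Subgroup G) := by
        have h1 : IsCyclic (QuaternionGroup (2 ^ 0)) := by
          rw [pow_zero]; exact QuaternionGroup.quaternionGroup_one_isCyclic
        exact isCyclic_of_surjective e.symm e.symm.surjective
      intro g
      exact hfin g (comm_of_cyclic_sylow_two hO P hcyc h2G x g)
    | succ k =>
      have hcen := Cfsg.Agent.S0201.result P k e hO
      obtain ⟨d, hd⟩ := exists_prime_orderOf_dvd_card' (G := Subgroup.center G) 2 (by rw [hcen])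
      have hd2 : orderOf (d : G) = 2 := by rw [Subgroup.orderOf_coe]; exact hd
      have hdx : (d : G) = x := huniq _ hd2 (Subgroup.mem_center_iff.mp d.2 x)
      intro g
      apply hfin
      have := Subgroup.mem_center_iff.mp d.2 g
      rw [hdx] at this
      exact this.symm

theorem isolated_subgroup {G : Type*} [Group G] {x : G} (hx : Cfsg.IsIsolatedInvolution x)
    (N : Subgroup G) (hxN : x ∈ N) : Cfsg.IsIsolatedInvolution (⟨x, hxN⟩ : N) := by
  refine ⟨by rw [← Subgroup.orderOf_coe]; exact hx.1, ?_⟩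
  intro n hcomm
  apply Subtype.ext
  have h1 : Commute x ((n : G) * x * (n : G)⁻¹) := by
    have := congrArg Subtype.val hcomm.eq
    show x * ((n : G) * x * (n : G)⁻¹) = (n : G) * x * (n : G)⁻¹ * x
    simpa using this
  have := hx.2 (n : G) h1
  simpa using this

/-- the Sylow form of the hypothesis of Z* (as in S0215) implies the isolated form -/
theorem isolated_of_sylow_isolated {G : Type*} [Group G] [Finite G] (P : Sylow 2 G) (u : G)
    (hu : orderOf u = 2) (_huP : u ∈ P) (hiso : ∀ g : G, g * u * g⁻¹ ∈ P → g * u * g⁻¹ = u) :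
    Cfsg.IsIsolatedInvolution u := by
  refine ⟨hu, fun g hcomm => ?_⟩
  have h2u : IsPGroup 2 (Subgroup.zpowers u) :=
    IsPGroup.of_card (n := 1) (by rw [Nat.card_zpowers, hu, pow_one])
  have h2t : IsPGroup 2 (Subgroup.zpowers (g * u * g⁻¹)) :=
    IsPGroup.of_card (n := 1) (by rw [Nat.card_zpowers, orderOf_conj', hu, pow_one])
  have hle : Subgroup.zpowers u ≤ Subgroup.normalizer (Subgroup.zpowers (g * u * g⁻¹) : Set G) := by
    rw [Subgroup.zpowers_le]
    apply Subgroup.centralizer_le_normalizer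
    rw [Subgroup.mem_centralizer_iff]
    intro h hh
    obtain ⟨k, rfl⟩ := Subgroup.mem_zpowers_iff.mp hh
    exact (hcomm.symm.zpow_left k).eq
  have hsup : IsPGroup 2 (Subgroup.zpowers u ⊔ Subgroup.zpowers (g * u * g⁻¹) : Subgroup G) :=
    h2u.to_sup_of_normal_right' h2t hle
  obtain ⟨Q, hQ⟩ := hsup.exists_le_sylow
  obtain ⟨h, hh⟩ := MulAction.exists_smul_eq G P Q
  have huQ : u ∈ h • P := by
    rw [hh]; exact hQ ((le_sup_left : Subgroup.zpowers u ≤ _) (Subgroup.mem_zpowers u))
  have htQ : g * u * g⁻¹ ∈ h • P := by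
    rw [hh]
    exact hQ ((le_sup_right : Subgroup.zpowers (g * u * g⁻¹) ≤ _) (Subgroup.mem_zpowers _))
  have h1 := mem_sylow_smul_iff.mp huQ
  have h2 := mem_sylow_smul_iff.mp htQ
  have e1 := hiso h⁻¹ (by rw [inv_inv]; exact h1)
  have e2 := hiso (h⁻¹ * g) (by
    have e : h⁻¹ * g * u * (h⁻¹ * g)⁻¹ = h⁻¹ * (g * u * g⁻¹) * h := by group
    rw [e]; exact h2)
  rw [inv_inv] at e1
  calc g * u * g⁻¹ = h * ((h⁻¹ * g) * u * (h⁻¹ * g)⁻¹) * h⁻¹ := by group
    _ = h * u * h⁻¹ := by rw [e2]
    _ = h * (h⁻¹ * u * h) * h⁻¹ := by rw [e1]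
    _ = u := by group

/-- **Glauberman's Z\*-theorem**, isolated form, from the two steps. -/
theorem zstar_isolated_of_steps (hG : GStepHyp.{u}) (hCF : CFStepHyp.{u}) :
    ∀ (n : ℕ) (G : Type u) [Group G] [Finite G], Nat.card G = n → ∀ x : G,
      Cfsg.IsIsolatedInvolution x →
      ∃ N : Subgroup G, N.Normal ∧ Odd (Nat.card N) ∧ ∀ g : G, x * g * x⁻¹ * g⁻¹ ∈ N := by
  intro n
  induction n using Nat.strong_induction_on with
  | _ n ih =>
    intro G _ _ hcard x hx
    classical
    have ihB : ZStarBelow.{u} (Nat.card G) := by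
      intro H _ _ hlt y hy
      exact ih (Nat.card H) (by rw [← hcard]; exact hlt) H rfl y hy
    have hx2 : x * x = 1 := invol_mul_self hx.1
    have hxi : x⁻¹ = x := invol_inv hx.1
    by_cases hO : ∀ N : Subgroup G, N.Normal → Odd (Nat.card N) → N = ⊥
    · have hcentral : ∀ g : G, x * g * x⁻¹ * g⁻¹ = 1 := by
        by_cases hZ : ∀ z ∈ Subgroup.center G, orderOf z ≠ 2
        · by_cases hy : ∃ y : G, orderOf y = 2 ∧ Commute x y ∧ y ≠ x
          · obtain ⟨y, hy2, hxy, hne⟩ := hy
            have hy2' : y * y = 1 := invol_mul_self hy2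
            have hxy2 : orderOf (x * y) = 2 := by
              apply orderOf_eq_prime
              · rw [hxy.mul_pow, pow_two, pow_two, hx2, hy2', one_mul]
              · intro h
                exact hne ((eq_inv_of_mul_eq_one_right h).trans hxi)
            have hc' : Commute x (x * y) := (Commute.refl x).mul_right hxy
            have hne' : x * y ≠ x := by
              intro h
              have : y = 1 := by simpa using h
              rw [this, orderOf_one] at hy2; omega
            have h1 := hG G ihB hO hZ x y hx hy2 hxy hne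
            have h2 := hG G ihB hO hZ x (x * y) hx hxy2 hc' hne'
            have e : x * (x * y) = y := by rw [← mul_assoc, hx2, one_mul]
            have h2' : ∀ g : G, ∃ z v : G, g * x * g⁻¹ * (x * y) = z * v ∧ orderOf z = 2 ∧
                IsConj z y ∧ v ∈ Cfsg.centralizerPPrimeCore 2 z := by
              intro g
              have := h2 g
              rwa [e] at this
            obtain ⟨N, hNn, hNtop, hxN⟩ := hCF G x y hx hy2 hxy hne h1 h2'
            have hNlt : Nat.card N < Nat.card G :=
              lt_of_le_of_ne (Subgroup.card_le_card_group N)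
                (fun h => hNtop ((Subgroup.card_eq_iff_eq_top N).mp h))
            obtain ⟨M, hMn, hModd, hM⟩ := ihB N hNlt ⟨x, hxN⟩ (isolated_subgroup hx N hxN)
            have hMle : M ≤ Cfsg.pPrimeCore 2 N :=
              le_sSup ⟨hMn, Nat.coprime_two_right.mpr hModd⟩
            have hOG : Cfsg.pPrimeCore 2 G = ⊥ := by
              apply hO _ (Subgroup.sSup_normal _ (fun _ h => h.1))
              exact Nat.coprime_two_right.mp (Cfsg.Agent.Lib.Helper55.pPrimeCore_card_coprime 2)
            have hM1 : M = ⊥ := by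
              rw [eq_bot_iff]
              intro m hm
              have h3 : ((m : N) : G) ∈ (Cfsg.pPrimeCore 2 N).map N.subtype := ⟨m, hMle hm, rfl⟩
              have h4 := Cfsg.Agent.Lib.Helper49.pPrimeCore_map_subtype_le 2 N h3
              rw [hOG, Subgroup.mem_bot] at h4
              rw [Subgroup.mem_bot]; exact Subtype.ext h4
            intro g
            have hyN : g * x * g⁻¹ ∈ N := hNn.conj_mem x hxN g
            have h5 := hM ⟨g * x * g⁻¹, hyN⟩
            rw [hM1, Subgroup.mem_bot] at h5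
            have h6 : x * (g * x * g⁻¹) * x⁻¹ * (g * x * g⁻¹)⁻¹ = 1 := by
              have := congrArg Subtype.val h5
              simpa using this
            have hcomm : Commute x (g * x * g⁻¹) := by
              have h7 : x * (g * x * g⁻¹) * x⁻¹ = g * x * g⁻¹ := mul_inv_eq_one.mp h6
              show x * (g * x * g⁻¹) = (g * x * g⁻¹) * x
              calc x * (g * x * g⁻¹) = (x * (g * x * g⁻¹) * x⁻¹) * x := by group
                _ = (g * x * g⁻¹) * x := by rw [h7]
            have h8 := hx.2 g hcomm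
            calc x * g * x⁻¹ * g⁻¹ = x * (g * x * g⁻¹) := by rw [hxi]; group
              _ = x * x := by rw [h8]
              _ = 1 := hx2
          · push Not at hy
            exact central_of_unique_involution hO hx (fun y h2 hc => hy y h2 hc)
        · push Not at hZ
          obtain ⟨z, hzc, hz2⟩ := hZ
          exact central_of_central_involution ihB hO hx hz2 hzc
      exact ⟨⊥, inferInstance, by rw [Subgroup.card_bot]; exact odd_one,
        fun g => by rw [hcentral g]; exact Subgroup.one_mem _⟩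
    · push Not at hO
      obtain ⟨M, hMn, hModd, hMne⟩ := hO
      have := hMn
      have hxM : x ∉ M := by
        intro h
        have h1 : orderOf (⟨x, h⟩ : M) ∣ Nat.card M := orderOf_dvd_natCard _
        rw [← Subgroup.orderOf_coe] at h1
        have h2 : orderOf x ∣ Nat.card M := h1
        rw [hx.1] at h2
        exact (Nat.not_even_iff_odd.mpr hModd) (even_iff_two_dvd.mpr h2)
      have hlt : Nat.card (G ⧸ M) < Nat.card G := by
        have h1 := Subgroup.card_eq_card_quotient_mul_card_subgroup M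
        have h2 : 1 < Nat.card M := (Subgroup.one_lt_card_iff_ne_bot M).mpr hMne
        have h3 : 0 < Nat.card (G ⧸ M) := Nat.card_pos
        nlinarith
      have := ih (Nat.card (G ⧸ M)) (by rw [← hcard]; exact hlt) (G ⧸ M) rfl _
        (isolated_quotient hx M hxM)
      exact zconcl_of_quotient M hModd this

/-- **Glauberman's Z\*-theorem** in the form of S0215, from the two steps. -/
theorem zstar_of_steps (hG : GStepHyp.{u}) (hCF : CFStepHyp.{u}) : ZStarHyp.{u} := by
  intro G _ _ P u hu huP hiso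
  exact zstar_isolated_of_steps hG hCF (Nat.card G) G rfl u
    (isolated_of_sylow_isolated P u hu huP hiso)

end Cfsg.Agent.Lib.Helper67
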