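import Mathlib

set_option autoImplicit false

/-!
`π`-numbers and `π`-elements (for a set `π` of natural numbers; `πᶜ` plays the role of `π'`).
-/

namespace Cfsg.Agent.Lib.Helper67

/-- `n` is a `π`-number: all its prime divisors lie in `π`. -/
def PiNat (π : Set ℕ) (n : ℕ) : Prop := ∀ p : ℕ, p.Prime → p ∣ n → p ∈ π

theorem PiNat.of_dvd {π : Set ℕ} {n m : ℕ} (h : PiNat π n) (hd : m ∣ n) : PiNat π m :=
  fun p hp hpm => h p hp (hpm.trans hd)

theorem PiNat.mul {π : Set ℕ} {n m : ℕ} (hn : PiNat π n) (hm : PiNat π m) : PiNat π (n * m) := by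
  intro p hp hpd
  rcases (Nat.Prime.dvd_mul hp).mp hpd with h | h
  · exact hn p hp h
  · exact hm p hp h

theorem piNat_one (π : Set ℕ) : PiNat π 1 := by
  intro p hp hpd
  exact absurd (Nat.dvd_one.mp hpd) hp.one_lt.ne'

theorem PiNat.pow {π : Set ℕ} {n : ℕ} (hn : PiNat π n) (k : ℕ) : PiNat π (n ^ k) := by
  induction k with
  | zero => rw [pow_zero]; exact piNat_one π
  | succ k ih => rw [pow_succ]; exact ih.mul hn

theorem piNat_prime_pow {π : Set ℕ} {q : ℕ} (hqp : q.Prime) (hq : q ∈ π) (k : ℕ) :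
    PiNat π (q ^ k) := by
  intro p hp hpd
  have := (Nat.prime_dvd_prime_iff_eq hp hqp).mp (hp.dvd_of_dvd_pow hpd)
  rw [this]; exact hq

theorem piNat_prime {π : Set ℕ} {q : ℕ} (hqp : q.Prime) (hq : q ∈ π) : PiNat π q := by
  have := piNat_prime_pow hqp hq 1
  rwa [pow_one] at this

/-- Every positive natural number is the product of a `π`-number and a `π'`-number. -/
theorem exists_piNat_mul (π : Set ℕ) (N : ℕ) (hN : N ≠ 0) :
    ∃ a b : ℕ, N = a * b ∧ PiNat π a ∧ PiNat πᶜ b := by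
  classical
  induction N using Nat.recOnMul with
  | zero => exact absurd rfl hN
  | one => exact ⟨1, 1, rfl, piNat_one _, piNat_one _⟩
  | prime p hp =>
    by_cases hpπ : p ∈ π
    · exact ⟨p, 1, (mul_one p).symm, piNat_prime hp hpπ, piNat_one _⟩
    · exact ⟨1, p, (one_mul p).symm, piNat_one _, piNat_prime hp hpπ⟩
  | mul a b iha ihb =>
    have ha : a ≠ 0 := fun h => hN (by rw [h, zero_mul])
    have hb : b ≠ 0 := fun h => hN (by rw [h, mul_zero])
    obtain ⟨x₁, y₁, e₁, hx₁, hy₁⟩ := iha ha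
    obtain ⟨x₂, y₂, e₂, hx₂, hy₂⟩ := ihb hb
    exact ⟨x₁ * x₂, y₁ * y₂, by rw [e₁, e₂]; ring, hx₁.mul hx₂, hy₁.mul hy₂⟩

theorem PiNat.eq_one {π : Set ℕ} {n : ℕ} (h : PiNat π n) (h' : PiNat πᶜ n) : n = 1 := by
  by_contra hn
  obtain ⟨p, hp, hpd⟩ := Nat.exists_prime_and_dvd hn
  exact h' p hp hpd (h p hp hpd)

theorem PiNat.coprime {π : Set ℕ} {n m : ℕ} (h : PiNat π n) (h' : PiNat πᶜ m) : n.Coprime m := by
  have h1 : PiNat π (Nat.gcd n m) := h.of_dvd (Nat.gcd_dvd_left n m)
  have h2 : PiNat πᶜ (Nat.gcd n m) := h'.of_dvd (Nat.gcd_dvd_right n m)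
  exact h1.eq_one h2

section Group

variable {G : Type*} [Group G]

theorem piNat_card_of_forall [Finite G] {π : Set ℕ} (h : ∀ x : G, PiNat π (orderOf x)) :
    PiNat π (Nat.card G) := by
  intro p hp hpd
  have : Fact p.Prime := ⟨hp⟩
  obtain ⟨x, hx⟩ := exists_prime_orderOf_dvd_card' p hpd
  exact h x p hp (hx ▸ dvd_rfl)

theorem piNat_orderOf_of_card {π : Set ℕ} (h : PiNat π (Nat.card G)) (x : G) :
    PiNat π (orderOf x) := h.of_dvd (orderOf_dvd_natCard x)

theorem piNat_orderOf_map {H : Type*} [Group H] {π : Set ℕ} (f : G →* H) {x : G}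
    (h : PiNat π (orderOf x)) : PiNat π (orderOf (f x)) := h.of_dvd (orderOf_map_dvd f x)

theorem piNat_orderOf_pow {π : Set ℕ} {x : G} (h : PiNat π (orderOf x)) (k : ℕ) :
    PiNat π (orderOf (x ^ k)) := h.of_dvd (orderOf_pow_dvd k)

theorem piNat_orderOf_mem {π : Set ℕ} {H : Subgroup G} (h : PiNat π (Nat.card H)) {x : G}
    (hx : x ∈ H) : PiNat π (orderOf x) := by
  have := piNat_orderOf_of_card h (⟨x, hx⟩ : H)
  rwa [Subgroup.orderOf_mk] at this

theorem orderOf_conj_eq (g x : G) : orderOf (g * x * g⁻¹) = orderOf x := by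
  have := orderOf_injective (MulAut.conj g).toMonoidHom (MulAut.conj g).injective x
  simpa using this

/-- An element which is both a `π`-element and a `π'`-element is trivial. -/
theorem eq_one_of_piNat {π : Set ℕ} {x : G} (h : PiNat π (orderOf x)) (h' : PiNat πᶜ (orderOf x)) :
    x = 1 := orderOf_eq_one_iff.mp (h.eq_one h')

/-- An element whose order is coprime to the index of a normal subgroup lies in it. -/
theorem mem_of_orderOf_coprime_index' (H : Subgroup G) [H.Normal] (g : G)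
    (h : (orderOf g).Coprime H.index) : g ∈ H := by
  rw [← QuotientGroup.eq_one_iff (N := H), ← orderOf_eq_one_iff]
  have h1 : orderOf (g : G ⧸ H) ∣ orderOf g := orderOf_map_dvd (QuotientGroup.mk' H) g
  have h2 : orderOf (g : G ⧸ H) ∣ H.index := by
    rw [Subgroup.index_eq_card]; exact orderOf_dvd_natCard _
  have h3 := Nat.dvd_gcd h1 h2
  rw [Nat.Coprime.gcd_eq_one h] at h3
  exact Nat.dvd_one.mp h3

/-- The `π`-part of an element of finite order: a power `n ^ m` which is a `π`-element, where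
`m ≡ 1` modulo every `π`-number dividing the order of `n`. -/
theorem exists_pi_part (π : Set ℕ) (n : G) (hn : orderOf n ≠ 0) :
    ∃ m : ℕ, PiNat π (orderOf (n ^ m)) ∧ ∀ d : ℕ, d ∣ orderOf n → PiNat π d → m ≡ 1 [MOD d] := by
  obtain ⟨a, b, hab, ha, hb⟩ := exists_piNat_mul π (orderOf n) hn
  have hco : a.Coprime b := ha.coprime hb
  obtain ⟨m, hm1, hm0⟩ := Nat.chineseRemainder hco 1 0
  have hbm : b ∣ m := (Nat.modEq_zero_iff_dvd).mp hm0
  refine ⟨m, ?_, ?_⟩
  · apply ha.of_dvd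
    apply orderOf_dvd_of_pow_eq_one
    rw [← pow_mul]
    apply orderOf_dvd_iff_pow_eq_one.mp
    rw [hab, mul_comm m a]
    exact Nat.mul_dvd_mul_left a hbm
  · intro d hd hdπ
    have hdb : d.Coprime b := hdπ.coprime hb
    have hda : d ∣ a := hdb.dvd_of_dvd_mul_right (hab ▸ hd)
    exact hm1.of_dvd hda

/-- The `π`-part has the same image as `n` under any homomorphism sending `n` to a `π`-element. -/
theorem pow_pi_part_map {H : Type*} [Group H] {π : Set ℕ} (f : G →* H) {n : G} {m : ℕ}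
    (hm : ∀ d : ℕ, d ∣ orderOf n → PiNat π d → m ≡ 1 [MOD d])
    (hf : PiNat π (orderOf (f n))) : f (n ^ m) = f n := by
  have h1 := hm (orderOf (f n)) (orderOf_map_dvd f n) hf
  rw [map_pow]
  have := (pow_eq_pow_iff_modEq (x := f n) (n := m) (m := 1)).mpr h1
  rwa [pow_one] at this

end Group

end Cfsg.Agent.Lib.Helper67
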