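import Cfsg.Agent.Lib.Helper4.RuDefs
import Cfsg.Agent.Lib.Helper27.RuALG

/-! RU-CI (by helper67) for helper4's S1628 "Ru" hive: `gI • Bv k ∈ Lspan` for the 56 basis vectors
(certificate `certI`, checked by `decide +kernel`). -/

set_option autoImplicit false
set_option maxRecDepth 100000

namespace Cfsg.Agent.Lib.Helper4.Ru

open Cfsg.Spor

/-- multiplication by `i`, coordinatewise and explicit -/
def ci_mulI (v : RuVec) : RuVec := fun p => ⟨-(v p).im, (v p).re⟩

theorem ci_smul_eq (v : RuVec) : gI • v = ci_mulI v := by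
  funext p
  apply Zsqrtd.ext
  · simp [ci_mulI, gI, Zsqrtd.re_mul]
  · simp [ci_mulI, gI, Zsqrtd.im_mul]

theorem ci_cert : ∀ k ∈ List.range 56, ci_mulI (Bv k) = comb (certI.getD k 0) := by decide +kernel

/-- RU-CI -/
theorem gI_mem : ∀ k < 56, gI • Bv k ∈ Lspan := by
  intro k hk
  rw [ci_smul_eq, ci_cert k (List.mem_range.2 hk)]
  exact comb_mem _

end Cfsg.Agent.Lib.Helper4.Ru
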