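import Mathlib
import Cfsg.Agent.Lib.Helper67.TsDefs
import Cfsg.Agent.Lib.Helper67.TsINVOL
import Cfsg.Agent.Lib.Helper25.TsBRIDGE
import Cfsg.Agent.Lib.Helper37.SpinorNorm
import Cfsg.Agent.Lib.Helper37.CartanDieudonne

/-! # TS hive (S5972, helper67): leaf TS-W2H `exists_ts_half_neg` -/

set_option autoImplicit false

namespace Cfsg.Agent.Lib.Helper67.Ts

open Polynomial Module
open Cfsg.Agent.Lib.Helper2.BG Cfsg.Agent.Lib.Helper99 Cfsg.Agent.Lib.Helper48.Ti

section abstract

variable {F V : Type*} [Field F] [AddCommGroup V] [Module F V] [FiniteDimensional F V]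
variable {B : V →ₗ[F] V →ₗ[F] F}

/-- the pairing step -/
theorem w2h_step (hB : ∀ u v, B u v = B v u) (N : V → F) (hN : ∀ u, B u u = 2 * N u)
    (h2 : (2 : F) ≠ 0) (i : F) (hi : i * i = -1) (a b : V) (S : Submodule F V)
    (hab : B a b = 0) (haS : ∀ u ∈ S, B a u = 0) (hbS : ∀ u ∈ S, B b u = 0)
    (ha : N a ≠ 0) (hb : N b ≠ 0) (hsq : IsSquare (N a * N b))
    (U' : Submodule F V) (hU'S : U' ≤ S) (hU'ti : TI B U') :
    ∃ U : Submodule F V, U ≤ S ⊔ Submodule.span F {a, b} ∧ TI B U ∧
      finrank F U = finrank F U' + 1 := by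
  obtain ⟨s, hs⟩ := hsq
  set t : F := s / N a with ht
  have hNb : N b = N a * t ^ 2 := by
    rw [ht]; field_simp; rw [pow_two, ← hs]; ring
  set w : V := (i * t) • a + b with hw
  have hba : B b a = 0 := by rw [hB]; exact hab
  have hww : B w w = 0 := by
    rw [hw]
    simp only [map_add, map_smul, LinearMap.add_apply, LinearMap.smul_apply, smul_eq_mul, hab, hba,
      hN a, hN b, hNb]
    linear_combination (2 * N a * t ^ 2) * hi
  have hwS : ∀ u ∈ S, B w u = 0 := by
    intro u hu
    rw [hw]
    simp only [map_add, map_smul, LinearMap.add_apply, LinearMap.smul_apply, smul_eq_mul,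
      haS u hu, hbS u hu]
    ring
  have hwb : B w b ≠ 0 := by
    rw [hw]
    simp only [map_add, map_smul, LinearMap.add_apply, LinearMap.smul_apply, smul_eq_mul, hab,
      hN b]
    simpa using mul_ne_zero h2 hb
  have hwU' : w ∉ U' := by
    intro hmem
    apply hwb
    rw [hB]
    exact hbS w (hU'S hmem)
  refine ⟨U' ⊔ Submodule.span F {w}, ?_, ?_, Submodule.finrank_sup_span_singleton hwU'⟩
  · apply sup_le (le_trans hU'S le_sup_left)
    rw [Submodule.span_singleton_le_iff_mem]
    apply Submodule.mem_sup_right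
    rw [hw]
    apply Submodule.add_mem
    · exact Submodule.smul_mem _ _ (Submodule.subset_span (by simp))
    · exact Submodule.subset_span (by simp)
  · intro u hu v hv
    obtain ⟨u1, hu1, u2, hu2, rfl⟩ := Submodule.mem_sup.1 hu
    obtain ⟨v1, hv1, v2, hv2, rfl⟩ := Submodule.mem_sup.1 hv
    obtain ⟨c, rfl⟩ := Submodule.mem_span_singleton.1 hu2
    obtain ⟨e, rfl⟩ := Submodule.mem_span_singleton.1 hv2
    have h1 : B w v1 = 0 := hwS v1 (hU'S hv1)
    have h2' : B u1 w = 0 := by rw [hB]; exact hwS u1 (hU'S hu1)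
    simp only [map_add, map_smul, LinearMap.add_apply, LinearMap.smul_apply, smul_eq_mul,
      hU'ti u1 hu1 v1 hv1, h1, h2', hww]
    ring

/-- squares in a finite field of odd characteristic: the square class group has order two -/
theorem w2h_sq_mul [Fintype F] (_h2 : (2 : F) ≠ 0) (x y : F) (hx : x ≠ 0) (hy : y ≠ 0) :
    IsSquare (x * y) ↔ (IsSquare x ↔ IsSquare y) := by
  classical
  rw [← quadraticChar_one_iff_isSquare (mul_ne_zero hx hy), map_mul,
    ← quadraticChar_one_iff_isSquare hx, ← quadraticChar_one_iff_isSquare hy]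
  rcases quadraticChar_dichotomy hx with h1 | h1 <;> rcases quadraticChar_dichotomy hy with h3 | h3 <;>
    rw [h1, h3] <;> decide

theorem w2h_prod_ne_zero (N : V → F) (l : List V) (h : ∀ v ∈ l, N v ≠ 0) : (l.map N).prod ≠ 0 := by
  apply List.prod_ne_zero
  intro h0
  obtain ⟨v, hv, hv0⟩ := List.mem_map.1 h0
  exact h v hv hv0

/-- a list of pairwise orthogonal anisotropic vectors of even length whose norms multiply to a
square spans a hyperbolic space, if `-1` is a square -/
theorem w2h_pair [Fintype F] (hB : ∀ u v, B u v = B v u) (N : V → F) (hN : ∀ u, B u u = 2 * N u)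
    (h2 : (2 : F) ≠ 0) (i : F) (hi : i * i = -1) :
    ∀ (n : ℕ) (vs : List V), vs.length = n → vs.Pairwise (fun u v => B u v = 0) →
      (∀ v ∈ vs, N v ≠ 0) → Even n → IsSquare (vs.map N).prod →
      ∃ U : Submodule F V, U ≤ Submodule.span F {v | v ∈ vs} ∧ TI B U ∧ 2 * finrank F U = n := by
  intro n
  induction n using Nat.strong_induction_on with
  | _ n ih =>
    intro vs hlen hpw hne hev hsq
    -- a general "pair and recurse" step
    have main : ∀ (a b : V) (l : List V), l.length + 2 = n → B a b = 0 →
        (∀ u ∈ l, B a u = 0) → (∀ u ∈ l, B b u = 0) → l.Pairwise (fun u v => B u v = 0) →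
        N a ≠ 0 → N b ≠ 0 → (∀ v ∈ l, N v ≠ 0) → IsSquare (N a * N b) →
        IsSquare (l.map N).prod → a ∈ vs → b ∈ vs → (∀ v ∈ l, v ∈ vs) →
        ∃ U : Submodule F V, U ≤ Submodule.span F {v | v ∈ vs} ∧ TI B U ∧ 2 * finrank F U = n := by
      intro a b l hl hab hal hbl hlpw ha hb hlne hsqab hsql hamem hbmem hlmem
      have hev' : Even (n - 2) := by
        obtain ⟨k, hk⟩ := hev
        exact ⟨k - 1, by omega⟩
      obtain ⟨U', hU'S, hU'ti, hU'dim⟩ := ih (n - 2) (by omega) l (by omega) hlpw hlne hev' hsql
      have haS : ∀ u ∈ Submodule.span F {v | v ∈ l}, B a u = 0 := by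
        intro u hu
        induction hu using Submodule.span_induction with
        | mem x hx => exact hal x hx
        | zero => simp
        | add x y _ _ hx hy => rw [map_add, hx, hy, add_zero]
        | smul c x _ hx => rw [map_smul, hx, smul_zero]
      have hbS : ∀ u ∈ Submodule.span F {v | v ∈ l}, B b u = 0 := by
        intro u hu
        induction hu using Submodule.span_induction with
        | mem x hx => exact hbl x hx
        | zero => simp
        | add x y _ _ hx hy => rw [map_add, hx, hy, add_zero]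
        | smul c x _ hx => rw [map_smul, hx, smul_zero]
      obtain ⟨U, hU, hUti, hUdim⟩ := w2h_step hB N hN h2 i hi a b _ hab haS hbS ha hb hsqab U' hU'S hU'ti
      refine ⟨U, le_trans hU (sup_le (Submodule.span_mono (fun v hv => hlmem v hv)) ?_), hUti, by omega⟩
      rw [Submodule.span_le]
      intro v hv
      rcases hv with rfl | rfl
      · exact Submodule.subset_span hamem
      · exact Submodule.subset_span hbmem
    rcases vs with _ | ⟨a, _ | ⟨b, rest⟩⟩
    · refine ⟨⊥, bot_le, fun u hu v _ => by rw [(Submodule.mem_bot F).1 hu, map_zero, LinearMap.zero_apply], ?_⟩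
      rw [finrank_bot]
      simpa using hlen
    · exfalso
      simp at hlen
      subst hlen
      exact absurd hev (by decide)
    · have hlen' : rest.length + 2 = n := by simpa using hlen
      rw [List.pairwise_cons, List.pairwise_cons] at hpw
      obtain ⟨hpa, hpb, hprest⟩ := hpw
      have ha : N a ≠ 0 := hne a (by simp)
      have hb : N b ≠ 0 := hne b (by simp)
      have hrestne : ∀ v ∈ rest, N v ≠ 0 := fun v hv => hne v (by simp [hv])
      have hP : (rest.map N).prod ≠ 0 := w2h_prod_ne_zero N rest hrestne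
      rw [List.map_cons, List.map_cons, List.prod_cons, List.prod_cons, ← mul_assoc,
        w2h_sq_mul h2 _ _ (mul_ne_zero ha hb) hP] at hsq
      by_cases hsqab : IsSquare (N a * N b)
      · exact main a b rest hlen' (hpa b (by simp)) (fun u hu => hpa u (by simp [hu])) hpb hprest
          ha hb hrestne hsqab (hsq.1 hsqab) (by simp) (by simp) (fun v hv => by simp [hv])
      · have hPns : ¬ IsSquare (rest.map N).prod := fun h => hsqab (hsq.2 h)
        rcases rest with _ | ⟨c, rest'⟩
        · exfalso
          apply hPns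
          simp
        · have hlen2 : (b :: rest').length + 2 = n := by simpa using hlen'
          have hlen3 : (a :: rest').length + 2 = n := by simpa using hlen'
          rw [List.pairwise_cons] at hprest
          obtain ⟨hpc, hprest'⟩ := hprest
          have hc : N c ≠ 0 := hne c (by simp)
          have hrest'ne : ∀ v ∈ rest', N v ≠ 0 := fun v hv => hne v (by simp [hv])
          have hP' : (rest'.map N).prod ≠ 0 := w2h_prod_ne_zero N rest' hrest'ne
          rw [List.map_cons, List.prod_cons, w2h_sq_mul h2 _ _ hc hP'] at hPns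
          rw [w2h_sq_mul h2 _ _ ha hb] at hsqab
          by_cases hac : IsSquare (N a * N c)
          · -- pair a c, remaining b :: rest'
            refine main a c (b :: rest') hlen2 (hpa c (by simp)) ?_ ?_ ?_ ha hc ?_ hac ?_
              (by simp) (by simp) ?_
            · intro u hu
              exact hpa u (by rcases List.mem_cons.1 hu with rfl | h <;> simp [*])
            · intro u hu
              rcases List.mem_cons.1 hu with rfl | h
              · rw [hB]; exact hpb c (by simp)
              · exact hpc u h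
            · rw [List.pairwise_cons]
              exact ⟨fun u hu => hpb u (by simp [hu]), hprest'⟩
            · intro v hv
              rcases List.mem_cons.1 hv with rfl | h
              · exact hb
              · exact hrest'ne v h
            · rw [List.map_cons, List.prod_cons, w2h_sq_mul h2 _ _ hb hP']
              rw [w2h_sq_mul h2 _ _ ha hc] at hac
              tauto
            · intro v hv
              rcases List.mem_cons.1 hv with rfl | h <;> simp [*]
          · -- pair b c, remaining a :: rest'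
            have hbc : IsSquare (N b * N c) := by
              rw [w2h_sq_mul h2 _ _ hb hc]
              rw [w2h_sq_mul h2 _ _ ha hc] at hac
              tauto
            refine main b c (a :: rest') hlen3 (hpb c (by simp)) ?_ ?_ ?_ hb hc ?_ hbc ?_
              (by simp) (by simp) ?_
            · intro u hu
              rcases List.mem_cons.1 hu with rfl | h
              · rw [hB]; exact hpa b (by simp)
              · exact hpb u (by simp [h])
            · intro u hu
              rcases List.mem_cons.1 hu with rfl | h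
              · rw [hB]; exact hpa c (by simp)
              · exact hpc u h
            · rw [List.pairwise_cons]
              exact ⟨fun u hu => hpa u (by simp [hu]), hprest'⟩
            · intro v hv
              rcases List.mem_cons.1 hv with rfl | h
              · exact ha
              · exact hrest'ne v h
            · rw [List.map_cons, List.prod_cons, w2h_sq_mul h2 _ _ ha hP']
              rw [w2h_sq_mul h2 _ _ hb hc] at hbc
              tauto
            · intro v hv
              rcases List.mem_cons.1 hv with rfl | h <;> simp [*]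

end abstract

section gram

open Cfsg.Agent.Lib.Helper37

variable {κ : Type} [Fintype κ] [DecidableEq κ] {F : Type*} [Field F]
  {Q : (κ → F) → F} {G : Matrix κ κ F}

/-- a product of reflections fixes the vectors orthogonal to all the roots -/
theorem w2h_prod_fix (h : IsGram Q G) (vs : List (κ → F)) (u : κ → F)
    (hu : ∀ w ∈ vs, Matrix.toBilin' G w u = 0) :
    (vs.map (fun v => Cfsg.reflectionMatrix Q v)).prod.mulVec u = u := by
  induction vs with
  | nil => simp
  | cons a l ih =>
    rw [List.map_cons, List.prod_cons, ← Matrix.mulVec_mulVec,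
      ih (fun w hw => hu w (List.mem_cons_of_mem _ hw)), h.refl_fixes a u (hu a List.mem_cons_self)]

/-- a product of reflections in pairwise orthogonal roots negates the roots -/
theorem w2h_prod_neg (h : IsGram Q G) (vs : List (κ → F))
    (hpw : vs.Pairwise (fun u v => Matrix.toBilin' G u v = 0)) (hne : ∀ v ∈ vs, Q v ≠ 0) :
    ∀ w ∈ vs, (vs.map (fun v => Cfsg.reflectionMatrix Q v)).prod.mulVec w = -w := by
  induction vs with
  | nil => simp
  | cons a l ih =>
    intro w hw
    rw [List.pairwise_cons] at hpw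
    rw [List.map_cons, List.prod_cons, ← Matrix.mulVec_mulVec]
    by_cases hwl : w ∈ l
    · rw [ih hpw.2 (fun v hv => hne v (List.mem_cons_of_mem _ hv)) w hwl, Matrix.mulVec_neg,
        h.refl_fixes a w (hpw.1 w hwl)]
    · have hwa : w = a := by
        rcases List.mem_cons.1 hw with h' | h'
        · exact h'
        · exact absurd h' hwl
      subst hwa
      rw [w2h_prod_fix h l w (fun v hv => by rw [h.symmB]; exact hpw.1 v hv)]
      have h3 := h.refl_self_apply w (hne w List.mem_cons_self)
      rw [Matrix.mulVec_neg] at h3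
      exact neg_eq_iff_eq_neg.1 h3

end gram

section concrete

open Cfsg.Agent.Lib.Helper37

variable {F : Type*} [Field F]

/-- the Gram matrix of `quadFormOdd` -/
noncomputable def w2h_G (d : ℕ) : Matrix (Unit ⊕ (Fin d ⊕ Fin d)) (Unit ⊕ (Fin d ⊕ Fin d)) F :=
  Matrix.of fun a b : Unit ⊕ (Fin d ⊕ Fin d) =>
    Cfsg.quadFormOdd d F (Pi.single a 1 + Pi.single b 1) - Cfsg.quadFormOdd d F (Pi.single a 1)
      - Cfsg.quadFormOdd d F (Pi.single b 1)

theorem w2h_toBilin (d : ℕ) : Matrix.toBilin' (w2h_G (F := F) d) = oddB d := rfl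

theorem w2h_isGram (h2 : (2 : F) ≠ 0) (d : ℕ) : IsGram (Cfsg.quadFormOdd d F) (w2h_G d) where
  two_ne := h2
  symm := by
    ext a b
    simp only [w2h_G, Matrix.transpose_apply, Matrix.of_apply]
    rw [add_comm]
    ring
  self := fun u => by rw [w2h_toBilin]; exact oddB_self d u

/-- TS-W2H -/
theorem exists_ts_half_neg [Fintype F] (hq1 : Fintype.card F % 4 = 1) (d : ℕ)
    (x : GL (Unit ⊕ (Fin d ⊕ Fin d)) F) (hx : x ∈ Cfsg.Geo.omegaGL (Cfsg.quadFormOdd d F))
    (hxx : x * x = 1) :
    ∃ U : Submodule F (VO d F),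
      U ≤ LinearMap.ker (Matrix.toLin'
        (x : Matrix (Unit ⊕ (Fin d ⊕ Fin d)) (Unit ⊕ (Fin d ⊕ Fin d)) F) + 1) ∧
      (∀ w ∈ U, Cfsg.quadFormOdd d F w = 0) ∧
      2 * finrank F U = finrank F ↥(LinearMap.ker (Matrix.toLin'
        (x : Matrix (Unit ⊕ (Fin d ⊕ Fin d)) (Unit ⊕ (Fin d ⊕ Fin d)) F) + 1)) := by
  classical
  have h2 : (2 : F) ≠ 0 := by
    intro h0
    have hchar : ringChar F = 2 := by
      have : (ringChar F) ∣ 2 := by
        have h' : ((2 : ℕ) : F) = 0 := by exact_mod_cast h0
        exact (ringChar.spec F 2).1 h'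
      rcases (Nat.dvd_prime Nat.prime_two).1 this with h1 | h1
      · exact absurd h1 (CharP.ringChar_ne_one)
      · exact h1
    obtain ⟨n, hn1, hn2⟩ := FiniteField.card F (ringChar F)
    rw [hchar] at hn2
    rw [hn2] at hq1
    have hn0 : (n : ℕ) ≠ 0 := n.ne_zero
    obtain ⟨k, hk⟩ : ∃ k, (n : ℕ) = k + 1 := ⟨(n : ℕ) - 1, by omega⟩
    rw [hk, pow_succ] at hq1
    omega
  obtain ⟨i, hi⟩ : ∃ i : F, i * i = -1 := by
    have h1 : IsSquare (-1 : F) := FiniteField.isSquare_neg_one_iff.2 (by omega)
    obtain ⟨i, hi⟩ := h1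
    exact ⟨i, hi.symm⟩
  have hGram := w2h_isGram h2 (F := F) d
  set f : Module.End F (VO d F) := Matrix.toLin'
    (x : Matrix (Unit ⊕ (Fin d ⊕ Fin d)) (Unit ⊕ (Fin d ⊕ Fin d)) F) with hf
  have hff : f * f = 1 := by
    rw [hf, Module.End.mul_eq_comp, ← Matrix.toLin'_mul, ← Units.val_mul, hxx, Units.val_one,
      Matrix.toLin'_one]
    rfl
  have hffu : ∀ u, f (f u) = u := fun u => by
    have := congrArg (fun g : Module.End F (VO d F) => g u) hff
    simpa using this
  have hisom : Isom (oddB d) f := (isom_of_mem_omega d x hx).2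
  obtain ⟨hNdp, hNdm, horth, hsum⟩ := invol_split h2 hisom hff (oddB_nd h2 d)
  set Z : Submodule F (VO d F) := LinearMap.ker (f + 1) with hZ
  -- orthogonal basis of Z
  let Bz : LinearMap.BilinForm F Z := (oddB d).compl₁₂ Z.subtype Z.subtype
  have hBz_apply : ∀ a b : Z, Bz a b = oddB d (a : VO d F) (b : VO d F) := fun a b => rfl
  have hBz : LinearMap.IsSymm Bz := ⟨fun a b => by
    rw [hBz_apply, hBz_apply, RingHom.id_apply]; exact oddB_symm d _ _⟩
  let _inst2 : Invertible (2 : F) := invertibleOfNonzero h2
  obtain ⟨v, hv⟩ := LinearMap.BilinForm.exists_orthogonal_basis hBz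
  have hsep : Bz.SeparatingLeft := by
    intro a ha
    have := hNdm (a : VO d F) a.2 (fun w hw => ha ⟨w, hw⟩)
    exact Subtype.ext this
  set vs : List (VO d F) := List.ofFn (fun j => (v j : VO d F)) with hvs
  have hvs_len : vs.length = finrank F Z := by rw [hvs, List.length_ofFn]
  have hvs_pw : vs.Pairwise (fun u w => oddB d u w = 0) := by
    rw [hvs, List.pairwise_ofFn]
    intro a b hab
    exact hv (ne_of_lt hab)
  have hvs_mem : ∀ u ∈ vs, u ∈ Z := by
    intro u hu
    rw [hvs, List.mem_ofFn] at hu
    obtain ⟨j, rfl⟩ := hu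
    exact (v j).2
  have hvs_ne : ∀ u ∈ vs, Cfsg.quadFormOdd d F u ≠ 0 := by
    intro u hu h0
    rw [hvs, List.mem_ofFn] at hu
    obtain ⟨j, rfl⟩ := hu
    apply hv.not_isOrtho_basis_self_of_separatingLeft hsep j
    rw [hBz_apply, oddB_self, h0, mul_zero]
  set P : Matrix (Unit ⊕ (Fin d ⊕ Fin d)) (Unit ⊕ (Fin d ⊕ Fin d)) F :=
    (vs.map (fun v => Cfsg.reflectionMatrix (Cfsg.quadFormOdd d F) v)).prod with hP
  have hPfix : ∀ u ∈ LinearMap.ker (f - 1), P.mulVec u = u := by
    intro u hu
    apply w2h_prod_fix hGram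
    intro w hw
    rw [w2h_toBilin]
    exact (horth u hu w (hvs_mem w hw)).2
  have hPneg : ∀ u ∈ Z, P.mulVec u = -u := by
    intro u hu
    have hker : Z ≤ LinearMap.ker (Matrix.toLin' P + 1) := by
      have h1 : Z = Submodule.map Z.subtype (Submodule.span F (Set.range v)) := by
        rw [v.span_eq, Submodule.map_top, Submodule.range_subtype]
      rw [h1, Submodule.map_span, Submodule.span_le]
      rintro _ ⟨_, ⟨j, rfl⟩, rfl⟩
      rw [SetLike.mem_coe, LinearMap.mem_ker, LinearMap.add_apply, Matrix.toLin'_apply,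
        Module.End.one_apply]
      have := w2h_prod_neg hGram vs (by rw [w2h_toBilin]; exact hvs_pw) hvs_ne (v j : VO d F)
        (by rw [hvs, List.mem_ofFn]; exact ⟨j, rfl⟩)
      rw [← hP] at this
      rw [Submodule.subtype_apply, this]
      exact neg_add_cancel _
    have := hker hu
    rw [LinearMap.mem_ker, LinearMap.add_apply, Matrix.toLin'_apply, Module.End.one_apply] at this
    exact eq_neg_of_add_eq_zero_left this
  have hxP : (x : Matrix (Unit ⊕ (Fin d ⊕ Fin d)) (Unit ⊕ (Fin d ⊕ Fin d)) F) = P := by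
    apply Matrix.toLin'.injective
    apply LinearMap.ext
    intro u
    rw [← hf, Matrix.toLin'_apply]
    have hup : (u + f u) ∈ LinearMap.ker (f - 1) := by
      rw [invol_mem_ker_sub, map_add, hffu, add_comm]
    have hum : (u - f u) ∈ Z := by
      rw [hZ, invol_mem_ker_add, map_sub, hffu]
      abel
    have e1 := hPfix _ hup
    have e2 := hPneg _ hum
    rw [Matrix.mulVec_add] at e1
    rw [Matrix.mulVec_sub] at e2
    have h2u : (2 : F) • (f u) = (2 : F) • (P.mulVec u) := by
      rw [two_smul, two_smul]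
      have : P.mulVec u + P.mulVec u = (P.mulVec u + P.mulVec (f u)) + (P.mulVec u - P.mulVec (f u)) := by abel
      rw [this, e1, e2]
      abel
    exact smul_right_injective _ h2 h2u
  -- the spinor norm criterion
  unfold Cfsg.Geo.omegaGL at hx
  obtain ⟨g, hgΩ, hgx⟩ := Subgroup.mem_map.1 hx
  have hg : toMat (Cfsg.quadFormOdd d F) g = P := by
    rw [toMat_apply, ← hxP, ← hgx]
    rfl
  obtain ⟨hev, hsq⟩ := hGram.even_and_isSquare_of_mem_omega g vs hvs_ne hg hgΩ
  rw [hvs_len] at hev
  obtain ⟨U, hU, hUti, hUdim⟩ := w2h_pair (oddB_symm d) (Cfsg.quadFormOdd d F) (oddB_self d) h2 i hi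
    (finrank F Z) vs hvs_len hvs_pw hvs_ne hev hsq
  refine ⟨U, le_trans hU ?_, (ts_iff_ti h2 d U).2 hUti, hUdim⟩
  rw [Submodule.span_le]
  intro w hw
  exact hvs_mem w hw

end concrete

end Cfsg.Agent.Lib.Helper67.Ts
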