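import Mathlib
import Cfsg.Prelude.Def_ClassicalGeometry
import Cfsg.Prelude.Def_GeometricClasses
import Cfsg.Agent.Lib.Helper59.TqDefs
import Cfsg.Agent.Lib.Helper5.HyDefs
import Cfsg.Agent.Lib.Helper37.SpinorNorm
import Cfsg.Agent.Lib.Helper37.CartanDieudonne
import Cfsg.Agent.Lib.Helper67.TsINVOL
import Cfsg.Agent.Lib.Helper67.TsW2H
import Cfsg.Agent.Lib.Helper55.TsBASE
import Cfsg.Agent.Lib.Helper33.HyT1

/-! # TQ-TWOFIX (helper67; Tq hive of helper59): the involution half (`x² = 1`) -/

set_option autoImplicit false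

namespace Cfsg.Agent.Lib.Helper59.Tq

open Module
open Cfsg.Agent.Lib.Helper2.BG Cfsg.Agent.Lib.Helper99 Cfsg.Agent.Lib.Helper48.Ti
open Cfsg.Agent.Lib.Helper5.Hy Cfsg.Agent.Lib.Helper67.Ts

section twofix_abs

variable {F V : Type*} [Field F] [Fintype F] [AddCommGroup V] [Module F V] [FiniteDimensional F V]
variable {B : V →ₗ[F] V →ₗ[F] F}

/-- glue two totally isotropic subspaces of the two eigenspaces of an involution -/
theorem twofix_glue (h2 : (2 : F) ≠ 0) {f : Module.End F V}
    (horth : ∀ u ∈ LinearMap.ker (f - 1), ∀ v ∈ LinearMap.ker (f + 1), B u v = 0 ∧ B v u = 0)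
    {Up Um : Submodule F V} (hUp : Up ≤ LinearMap.ker (f - 1))
    (hUm : Um ≤ LinearMap.ker (f + 1)) (hUpti : TI B Up) (hUmti : TI B Um) :
    finrank F ↥(Up ⊔ Um) = finrank F Up + finrank F Um ∧ TI B (Up ⊔ Um) ∧ Inv f (Up ⊔ Um) := by
  have hdisj : Disjoint Up Um := by
    rw [Submodule.disjoint_def]
    intro v h1 h3
    have e1 := invol_mem_ker_sub.1 (hUp h1)
    have e3 := invol_mem_ker_add.1 (hUm h3)
    have : (2 : F) • v = 0 := by
      rw [two_smul]
      nth_rewrite 1 [← e1]
      rw [e3]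
      exact neg_add_cancel v
    rcases smul_eq_zero.1 this with h | h
    · exact absurd h h2
    · exact h
  refine ⟨?_, ?_, ?_⟩
  · have h := Submodule.finrank_sup_add_finrank_inf_eq Up Um
    rw [hdisj.eq_bot, finrank_bot, add_zero] at h
    exact h
  · intro u hu v hv
    obtain ⟨a, ha, b, hb, rfl⟩ := Submodule.mem_sup.1 hu
    obtain ⟨a', ha', b', hb', rfl⟩ := Submodule.mem_sup.1 hv
    rw [map_add, map_add, LinearMap.add_apply, LinearMap.add_apply, hUpti a ha a' ha',
      hUmti b hb b' hb', (horth a (hUp ha) b' (hUm hb')).1, (horth a' (hUp ha') b (hUm hb)).2]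
    simp
  · intro v hv
    obtain ⟨a, ha, b, hb, rfl⟩ := Submodule.mem_sup.1 hv
    rw [map_add, invol_mem_ker_sub.1 (hUp ha), invol_mem_ker_add.1 (hUm hb)]
    exact Submodule.add_mem_sup ha (Submodule.neg_mem _ hb)

/-- the involution case, abstractly -/
theorem twofix_invol_abs (h2 : (2 : F) ≠ 0) (hs : ∀ u v, B u v = B v u) (hV : Nd B ⊤)
    {f : Module.End F V} (hf : Isom B f) (hff : f * f = 1) (d m : ℕ)
    (hdim : finrank F V = 2 * d)
    (hp0 : finrank F ↥(LinearMap.ker (f - 1)) ≠ 0) (hm0 : finrank F ↥(LinearMap.ker (f + 1)) ≠ 0)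
    (hev : Even (finrank F ↥(LinearMap.ker (f + 1))))
    (hcase : m + 2 ≤ d ∨ (m + 1 ≤ d ∧ (Plus B (LinearMap.ker (f + 1)) ∨ ¬ Plus B ⊤))) :
    ∃ W : Submodule F V, finrank F W = m ∧ TI B W ∧ Inv f W := by
  classical
  obtain ⟨hNdp, hNdm, horth, hsum⟩ := invol_split h2 hf hff hV
  rw [hdim] at hsum
  set zp := finrank F ↥(LinearMap.ker (f - 1)) with hzp
  set zm := finrank F ↥(LinearMap.ker (f + 1)) with hzm
  obtain ⟨km, hkm⟩ := hev
  have hevp : Even zp := ⟨d - km, by omega⟩
  obtain ⟨kp, hkp⟩ := hevp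
  have capp : ∀ a : ℕ, 2 * a + 2 ≤ zp →
      ∃ Up : Submodule F V, Up ≤ LinearMap.ker (f - 1) ∧ TI B Up ∧ finrank F Up = a :=
    fun a ha => exists_ts_of_nd h2 hs hNdp (by omega)
  have capm : ∀ b : ℕ, 2 * b + 2 ≤ zm →
      ∃ Um : Submodule F V, Um ≤ LinearMap.ker (f + 1) ∧ TI B Um ∧ finrank F Um = b :=
    fun b hb => exists_ts_of_nd h2 hs hNdm (by omega)
  have key : ∃ a b : ℕ, a + b = m ∧
      (∃ Up : Submodule F V, Up ≤ LinearMap.ker (f - 1) ∧ TI B Up ∧ finrank F Up = a) ∧
      (∃ Um : Submodule F V, Um ≤ LinearMap.ker (f + 1) ∧ TI B Um ∧ finrank F Um = b) := by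
    rcases hcase with hmd | ⟨hmd, hpl⟩
    · -- m ≤ d - 2
      refine ⟨min m (kp - 1), m - min m (kp - 1), by omega, capp _ (by omega), capm _ (by omega)⟩
    · -- m ≤ d - 1 and one of the eigenspaces is of plus type
      have hplus : Plus B (LinearMap.ker (f + 1)) ∨ Plus B (LinearMap.ker (f - 1)) := by
        rcases hpl with h | h
        · exact Or.inl h
        · by_contra hcon
          push Not at hcon
          apply h
          have htop : LinearMap.ker (f - 1) ⊔ LinearMap.ker (f + 1) = ⊤ := by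
            apply Submodule.eq_top_of_finrank_eq
            have hdisj : LinearMap.ker (f - 1) ⊓ LinearMap.ker (f + 1) = ⊥ := by
              rw [eq_bot_iff]
              intro v hv
              have e1 := invol_mem_ker_sub.1 hv.1
              have e3 := invol_mem_ker_add.1 hv.2
              have : (2 : F) • v = 0 := by
                rw [two_smul]
                nth_rewrite 1 [← e1]
                rw [e3]
                exact neg_add_cancel v
              rcases smul_eq_zero.1 this with h' | h'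
              · exact absurd h' h2
              · exact h'
            have h3 := Submodule.finrank_sup_add_finrank_inf_eq (LinearMap.ker (f - 1))
              (LinearMap.ker (f + 1))
            rw [hdisj, finrank_bot, add_zero] at h3
            rw [h3, hdim]
            omega
          have hO : Orth B (LinearMap.ker (f - 1)) (LinearMap.ker (f + 1)) :=
            fun u hu v hv => (horth u hu v hv).1
          have := (plus_sup h2 hs hNdp hNdm hO ⟨kp, hkp⟩ ⟨km, hkm⟩).2
            (iff_of_false hcon.2 hcon.1)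
          rw [htop] at this
          exact this
      rcases hplus with ⟨Um, hUm, hUmti, hUmd⟩ | ⟨Up, hUp, hUpti, hUpd⟩
      · -- V₋ of plus type: a = min m (kp - 1), b = m - a ≤ km
        by_cases hb : 2 * (m - min m (kp - 1)) + 2 ≤ zm
        · exact ⟨min m (kp - 1), m - min m (kp - 1), by omega, capp _ (by omega), capm _ hb⟩
        · refine ⟨min m (kp - 1), m - min m (kp - 1), by omega, capp _ (by omega),
            ⟨Um, hUm, hUmti, ?_⟩⟩
          omega
      · by_cases ha : 2 * (m - min m (km - 1)) + 2 ≤ zp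
        · exact ⟨m - min m (km - 1), min m (km - 1), by omega, capp _ ha, capm _ (by omega)⟩
        · refine ⟨m - min m (km - 1), min m (km - 1), by omega, ⟨Up, hUp, hUpti, ?_⟩,
            capm _ (by omega)⟩
          omega
  obtain ⟨a, b, hab, ⟨Up, hUp, hUpti, hUpa⟩, ⟨Um, hUm, hUmti, hUmb⟩⟩ := key
  obtain ⟨g1, g2, g3⟩ := twofix_glue h2 horth hUp hUm hUpti hUmti
  exact ⟨Up ⊔ Um, by rw [g1, hUpa, hUmb, hab], g2, g3⟩

end twofix_abs

section twofix_gram

open Cfsg.Agent.Lib.Helper37

variable {κ : Type} [Fintype κ] [DecidableEq κ] {F : Type*} [Field F] [Fintype F]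
  {Q : (κ → F) → F} {G : Matrix κ κ F}

/-- the polar identity for a Gram matrix -/
theorem twofix_polar (h : IsGram Q G) (u v : κ → F) :
    Matrix.toBilin' G u v = Q (u + v) - Q u - Q v := by
  rw [h.Q_add]; ring

/-- isometries of `Q` are isometries of the Gram form -/
theorem twofix_isom (h : IsGram Q G) (g : ↥(Cfsg.isometryGroup F Q)) :
    Isom (Matrix.toBilin' G) (Matrix.toLin' (toMat Q g)) := by
  intro u v
  rw [twofix_polar h, twofix_polar h, ← map_add]
  simp only [Matrix.toLin'_apply]
  rw [IsGram.toMat_isometry (Q := Q) g (u + v), IsGram.toMat_isometry (Q := Q) g u,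
    IsGram.toMat_isometry (Q := Q) g v]

/-- totally singular = totally isotropic -/
theorem twofix_ts_iff_ti (h : IsGram Q G) (W : Submodule F (κ → F)) :
    (∀ w ∈ W, Q w = 0) ↔ TI (Matrix.toBilin' G) W := by
  constructor
  · intro hW u hu v hv
    rw [twofix_polar h, hW _ (W.add_mem hu hv), hW u hu, hW v hv]
    ring
  · intro hW w hw
    have h1 := hW w hw w hw
    rw [h.self] at h1
    rcases mul_eq_zero.1 h1 with h' | h'
    · exact absurd h' h.two_ne
    · exact h'

/-- the spinor norm of an involution of `Ω`: the `(-1)`-eigenspace has even dimension, and is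
hyperbolic if `q ≡ 1 (mod 4)` -/
theorem twofix_invol_spin (h : IsGram Q G) (hV : Nd (Matrix.toBilin' G) ⊤)
    (g : ↥(Cfsg.isometryGroup F Q)) (hgΩ : g ∈ Cfsg.Omega F Q)
    (hgg : toMat Q g * toMat Q g = 1) :
    Even (finrank F ↥(LinearMap.ker (Matrix.toLin' (toMat Q g) + 1))) ∧
      (Fintype.card F % 4 = 1 →
        Plus (Matrix.toBilin' G) (LinearMap.ker (Matrix.toLin' (toMat Q g) + 1))) := by
  classical
  have h2 : (2 : F) ≠ 0 := h.two_ne
  set B : (κ → F) →ₗ[F] (κ → F) →ₗ[F] F := Matrix.toBilin' G with hBdef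
  have hsymm : ∀ u v, B u v = B v u := h.symmB
  set f : Module.End F (κ → F) := Matrix.toLin' (toMat Q g) with hf
  have hff : f * f = 1 := by
    rw [hf, Module.End.mul_eq_comp, ← Matrix.toLin'_mul, hgg, Matrix.toLin'_one]
    rfl
  have hffu : ∀ u, f (f u) = u := fun u => by
    have := congrArg (fun g : Module.End F (κ → F) => g u) hff
    simpa using this
  have hisom : Isom B f := twofix_isom h g
  obtain ⟨hNdp, hNdm, horth, hsum⟩ := invol_split h2 hisom hff hV
  set Z : Submodule F (κ → F) := LinearMap.ker (f + 1) with hZ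
  let Bz : LinearMap.BilinForm F Z := B.compl₁₂ Z.subtype Z.subtype
  have hBz_apply : ∀ a b : Z, Bz a b = B (a : κ → F) (b : κ → F) := fun a b => rfl
  have hBz : LinearMap.IsSymm Bz := ⟨fun a b => by
    rw [hBz_apply, hBz_apply, RingHom.id_apply]; exact hsymm _ _⟩
  let _inst2 : Invertible (2 : F) := invertibleOfNonzero h2
  obtain ⟨v, hv⟩ := LinearMap.BilinForm.exists_orthogonal_basis hBz
  have hsep : Bz.SeparatingLeft := by
    intro a ha
    have := hNdm (a : κ → F) a.2 (fun w hw => ha ⟨w, hw⟩)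
    exact Subtype.ext this
  set vs : List (κ → F) := List.ofFn (fun j => (v j : κ → F)) with hvs
  have hvs_len : vs.length = finrank F Z := by rw [hvs, List.length_ofFn]
  have hvs_pw : vs.Pairwise (fun u w => B u w = 0) := by
    rw [hvs, List.pairwise_ofFn]
    intro a b hab
    exact hv (ne_of_lt hab)
  have hvs_mem : ∀ u ∈ vs, u ∈ Z := by
    intro u hu
    rw [hvs, List.mem_ofFn] at hu
    obtain ⟨j, rfl⟩ := hu
    exact (v j).2
  have hvs_ne : ∀ u ∈ vs, Q u ≠ 0 := by
    intro u hu h0
    rw [hvs, List.mem_ofFn] at hu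
    obtain ⟨j, rfl⟩ := hu
    apply hv.not_isOrtho_basis_self_of_separatingLeft hsep j
    rw [hBz_apply, hBdef, h.self, h0, mul_zero]
  set P : Matrix κ κ F := (vs.map (fun v => Cfsg.reflectionMatrix Q v)).prod with hP
  have hPfix : ∀ u ∈ LinearMap.ker (f - 1), P.mulVec u = u := by
    intro u hu
    apply w2h_prod_fix h
    intro w hw
    exact (horth u hu w (hvs_mem w hw)).2
  have hPneg : ∀ u ∈ Z, P.mulVec u = -u := by
    intro u hu
    have hker : Z ≤ LinearMap.ker (Matrix.toLin' P + 1) := by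
      have h1 : Z = Submodule.map Z.subtype (Submodule.span F (Set.range v)) := by
        rw [v.span_eq, Submodule.map_top, Submodule.range_subtype]
      rw [h1, Submodule.map_span, Submodule.span_le]
      rintro _ ⟨_, ⟨j, rfl⟩, rfl⟩
      rw [SetLike.mem_coe, LinearMap.mem_ker, LinearMap.add_apply, Matrix.toLin'_apply,
        Module.End.one_apply]
      have := w2h_prod_neg h vs hvs_pw hvs_ne (v j : κ → F)
        (by rw [hvs, List.mem_ofFn]; exact ⟨j, rfl⟩)
      rw [← hP] at this
      rw [Submodule.subtype_apply, this]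
      exact neg_add_cancel _
    have := hker hu
    rw [LinearMap.mem_ker, LinearMap.add_apply, Matrix.toLin'_apply, Module.End.one_apply] at this
    exact eq_neg_of_add_eq_zero_left this
  have hxP : toMat Q g = P := by
    apply Matrix.toLin'.injective
    apply LinearMap.ext
    intro u
    rw [← hf, Matrix.toLin'_apply]
    have hup : (u + f u) ∈ LinearMap.ker (f - 1) := by
      rw [invol_mem_ker_sub, map_add, hffu, add_comm]
    have hum : (u - f u) ∈ Z := by
      rw [hZ, invol_mem_ker_add, map_sub, hffu]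
      abel
    have e1 := hPfix _ hup
    have e2 := hPneg _ hum
    rw [Matrix.mulVec_add] at e1
    rw [Matrix.mulVec_sub] at e2
    have h2u : (2 : F) • (f u) = (2 : F) • (P.mulVec u) := by
      rw [two_smul, two_smul]
      have : P.mulVec u + P.mulVec u = (P.mulVec u + P.mulVec (f u)) + (P.mulVec u - P.mulVec (f u)) := by abel
      rw [this, e1, e2]
      abel
    exact smul_right_injective _ h2 h2u
  obtain ⟨hev, hsq⟩ := h.even_and_isSquare_of_mem_omega g vs hvs_ne hxP hgΩ
  rw [hvs_len] at hev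
  refine ⟨hev, fun hq1 => ?_⟩
  obtain ⟨i, hi⟩ : ∃ i : F, i * i = -1 := by
    have h1 : IsSquare (-1 : F) := FiniteField.isSquare_neg_one_iff.2 (by omega)
    obtain ⟨i, hi⟩ := h1
    exact ⟨i, hi.symm⟩
  obtain ⟨U, hU, hUti, hUdim⟩ := w2h_pair hsymm Q h.self h2 i hi
    (finrank F Z) vs hvs_len hvs_pw hvs_ne hev hsq
  refine ⟨U, le_trans hU ?_, hUti, hUdim⟩
  rw [Submodule.span_le]
  intro w hw
  exact hvs_mem w hw

end twofix_gram

end Cfsg.Agent.Lib.Helper59.Tq
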