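import Mathlib
import Cfsg.Agent.Lib.Helper59.TqDefs
import Cfsg.Agent.Lib.Helper5.HyDefs
import Cfsg.Agent.Lib.Helper67.TsINVOL
import Cfsg.Agent.Lib.Helper48.TiInd

/-! # TQ-TWOFIX (helper67; Tq hive of helper59): the case `x² = -1`, existence of invariant
totally isotropic subspaces (own copies of TWOFIX-SPLIT / TWOFIX-IRR under different names) -/

set_option autoImplicit false

namespace Cfsg.Agent.Lib.Helper59.Tq

open Module Polynomial
open Cfsg.Agent.Lib.Helper2.BG Cfsg.Agent.Lib.Helper99 Cfsg.Agent.Lib.Helper48.Ti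
open Cfsg.Agent.Lib.Helper5.Hy

section twofix_abs

variable {F V : Type*} [Field F] [Fintype F] [AddCommGroup V] [Module F V] [FiniteDimensional F V]
variable {B : V →ₗ[F] V →ₗ[F] F}

/-- `q ≡ 1 (mod 4)`: the eigenspace of `f` for a square root of `-1` -/
theorem twofix_bk_neg_split (hq1 : Fintype.card F % 4 = 1) (hs : ∀ u v, B u v = B v u)
    (hV : Nd B ⊤) {f : Module.End F V} (hf : Isom B f) (hff : f * f = -1) (m : ℕ)
    (hm : 2 * m ≤ finrank F V) :
    ∃ W : Submodule F V, finrank F W = m ∧ TI B W ∧ Inv f W := by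
  classical
  obtain ⟨i, hi⟩ : ∃ i : F, i * i = -1 := by
    have h1 : IsSquare (-1 : F) := FiniteField.isSquare_neg_one_iff.2 (by omega)
    obtain ⟨i, hi⟩ := h1
    exact ⟨i, hi.symm⟩
  have h2 : (2 : F) ≠ 0 := by
    intro h0
    have hchar : ringChar F = 2 := by
      have : (ringChar F) ∣ 2 := by
        have h' : ((2 : ℕ) : F) = 0 := by exact_mod_cast h0
        exact (ringChar.spec F 2).1 h'
      rcases (Nat.dvd_prime Nat.prime_two).1 this with h1 | h1
      · exact absurd h1 (CharP.ringChar_ne_one)
      · exact h1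
    obtain ⟨n, hn1, hn2⟩ := FiniteField.card F (ringChar F)
    rw [hchar] at hn2
    rw [hn2] at hq1
    obtain ⟨k, hk⟩ : ∃ k, (n : ℕ) = k + 1 := ⟨(n : ℕ) - 1, by have := n.pos; omega⟩
    rw [hk, pow_succ] at hq1
    omega
  have hi0 : i ≠ 0 := by
    rintro rfl
    simp at hi
  have hffu : ∀ u, f (f u) = -u := fun u => by
    have := congrArg (fun g : Module.End F V => g u) hff
    simpa using this
  -- eigenspaces
  set E : Submodule F V := LinearMap.ker (f - i • (1 : Module.End F V)) with hE
  set E' : Submodule F V := LinearMap.ker (f + i • (1 : Module.End F V)) with hE'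
  have memE : ∀ v, v ∈ E ↔ f v = i • v := by
    intro v
    rw [hE, LinearMap.mem_ker, LinearMap.sub_apply, LinearMap.smul_apply, Module.End.one_apply,
      sub_eq_zero]
  have memE' : ∀ v, v ∈ E' ↔ f v = -(i • v) := by
    intro v
    rw [hE', LinearMap.mem_ker, LinearMap.add_apply, LinearMap.smul_apply, Module.End.one_apply,
      add_eq_zero_iff_eq_neg]
  have tiE : TI B E := by
    intro u hu v hv
    have h1 := hf u v
    rw [(memE u).1 hu, (memE v).1 hv, map_smul, map_smul, LinearMap.smul_apply, smul_eq_mul,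
      smul_eq_mul, ← mul_assoc, hi] at h1
    have : (2 : F) * B u v = 0 := by linear_combination -h1
    rcases mul_eq_zero.1 this with h | h
    · exact absurd h h2
    · exact h
  have tiE' : TI B E' := by
    intro u hu v hv
    have h1 := hf u v
    rw [(memE' u).1 hu, (memE' v).1 hv, map_neg, map_neg, LinearMap.neg_apply, neg_neg, map_smul,
      map_smul, LinearMap.smul_apply, smul_eq_mul, smul_eq_mul, ← mul_assoc, hi] at h1
    have : (2 : F) * B u v = 0 := by linear_combination -h1
    rcases mul_eq_zero.1 this with h | h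
    · exact absurd h h2
    · exact h
  have hsup : E ⊔ E' = ⊤ := by
    rw [eq_top_iff]
    intro v _
    -- v = (1/2i)((f v + i v)) - (1/2i)(f v - i v)
    have h2i : (2 * i : F) ≠ 0 := mul_ne_zero h2 hi0
    have e1 : f v + i • v ∈ E := by
      rw [memE, map_add, hffu, map_smul, smul_add, smul_smul, hi]
      rw [neg_one_smul]; abel
    have e2 : f v - i • v ∈ E' := by
      rw [memE', map_sub, hffu, map_smul, smul_sub, smul_smul, hi]
      rw [neg_one_smul]; abel
    have h3 : (2 * i) • v = (f v + i • v) - (f v - i • v) := by module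
    have : v = (2 * i)⁻¹ • (f v + i • v) + (-(2 * i)⁻¹) • (f v - i • v) := by
      rw [neg_smul, ← sub_eq_add_neg, ← smul_sub, ← h3, inv_smul_smul₀ h2i]
    rw [this]
    exact Submodule.add_mem_sup (E.smul_mem _ e1) (E'.smul_mem _ e2)
  have hb1 := Cfsg.Agent.Lib.Helper67.Ts.ts_bound hs hV le_top tiE
  have hb2 := Cfsg.Agent.Lib.Helper67.Ts.ts_bound hs hV le_top tiE'
  rw [finrank_top] at hb1 hb2
  have hle : finrank F V ≤ finrank F E + finrank F E' := by
    have := Submodule.finrank_add_le_finrank_add_finrank E E'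
    rw [hsup, finrank_top] at this
    exact this
  have hEm : m ≤ finrank F E := by omega
  -- a subspace of E of dimension m
  obtain ⟨W, hWE, hWm⟩ : ∃ N : Submodule F V, N ≤ E ∧ finrank F N = m := by
    let b := Module.finBasis F E
    let v : Fin m → V := fun j => (b (Fin.castLE hEm j) : V)
    have hli : LinearIndependent F v := by
      have h1 : LinearIndependent F (fun j : Fin (finrank F E) => (b j : V)) :=
        b.linearIndependent.map' E.subtype (Submodule.ker_subtype E)
      exact h1.comp _ (Fin.castLE_injective hEm)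
    refine ⟨Submodule.span F (Set.range v), ?_, ?_⟩
    · rw [Submodule.span_le]
      rintro _ ⟨j, rfl⟩
      exact (b _).2
    · rw [finrank_span_eq_card hli]
      simp
  refine ⟨W, hWm, fun u hu v hv => tiE u (hWE hu) v (hWE hv), ?_⟩
  intro w hw
  rw [(memE w).1 (hWE hw)]
  exact W.smul_mem _ hw

/-- `q ≡ 3 (mod 4)`, `m` even -/
theorem twofix_bk_neg_even (hq3 : Fintype.card F % 4 = 3) (hs : ∀ u v, B u v = B v u)
    (hV : Nd B ⊤) {f : Module.End F V} (hf : Isom B f) (hff : f * f = -1) (m : ℕ)
    (hme : Even m) (hm : 2 * m ≤ finrank F V) :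
    ∃ W : Submodule F V, finrank F W = m ∧ TI B W ∧ Inv f W := by
  classical
  have h2 : (2 : F) ≠ 0 := by
    intro h0
    have hchar : ringChar F = 2 := by
      have : (ringChar F) ∣ 2 := by
        have h' : ((2 : ℕ) : F) = 0 := by exact_mod_cast h0
        exact (ringChar.spec F 2).1 h'
      rcases (Nat.dvd_prime Nat.prime_two).1 this with h1 | h1
      · exact absurd h1 (CharP.ringChar_ne_one)
      · exact h1
    obtain ⟨n, hn1, hn2⟩ := FiniteField.card F (ringChar F)
    rw [hchar] at hn2
    rw [hn2] at hq3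
    obtain ⟨k, hk⟩ : ∃ k, (n : ℕ) = k + 1 := ⟨(n : ℕ) - 1, by have := n.pos; omega⟩
    rw [hk, pow_succ] at hq3
    omega
  have hnsq : ¬ IsSquare (-1 : F) := by
    rw [FiniteField.isSquare_neg_one_iff]
    omega
  have hffu : ∀ u, f (f u) = -u := fun u => by
    have := congrArg (fun g : Module.End F V => g u) hff
    simpa using this
  -- the alternating form
  set β : V →ₗ[F] V →ₗ[F] F := B.compl₂ f with hβ
  have hβa : ∀ u v, β u v = B u (f v) := fun u v => rfl
  have horth : ∀ v, B v (f v) = 0 := by
    intro v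
    have h1 := hf v (f v)
    rw [hffu, map_neg, hs (f v) v] at h1
    have : (2 : F) * B v (f v) = 0 := by linear_combination -h1
    rcases mul_eq_zero.1 this with h | h
    · exact absurd h h2
    · exact h
  have hβalt : ∀ v, β v v = 0 := fun v => by rw [hβa]; exact horth v
  have hβisom : Isom β f := by
    intro u v
    rw [hβa, hβa]
    exact hf u (f v)
  have hinj : Function.Injective f := by
    intro u v huv
    have := congrArg f huv
    rw [hffu, hffu] at this
    exact neg_injective this
  -- the polynomial X² + 1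
  set φ : F[X] := X ^ 2 + C 1 with hφ
  have hφdeg : φ.natDegree = 2 := natDegree_X_pow_add_C
  have hφirr : Irreducible φ := by
    apply irreducible_of_degree_le_three_of_not_isRoot
    · rw [hφdeg]; decide
    · intro x hx
      apply hnsq
      refine ⟨x, ?_⟩
      rw [IsRoot, hφ] at hx
      simp only [eval_add, eval_pow, eval_X, eval_C] at hx
      linear_combination -hx
  have hkill : aeval f φ = 0 := by
    rw [hφ]
    simp only [map_add, map_pow, aeval_X, map_one]
    rw [pow_two, hff]
    simp
  have hss : f.IsSemisimple :=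
    Module.End.isSemisimple_of_squarefree_aeval_eq_zero hφirr.squarefree hkill
  have hβnd : Nd β ⊤ := by
    intro u _ hu
    apply hV u Submodule.mem_top
    intro w _
    have := hu (-(f w)) Submodule.mem_top
    rw [hβa, map_neg, hffu, neg_neg] at this
    exact this
  obtain ⟨k, hk⟩ := hme
  have hgood := exists_ti_irred hβalt hβisom hinj hss hφirr hkill k ⊤ hβnd
    (fun v _ => Submodule.mem_top) (by rw [hφdeg, finrank_top]; omega)
  obtain ⟨U, -, hUinv, hUti, hUdim⟩ := hgood
  refine ⟨U, by rw [hUdim, hφdeg]; omega, ?_, hUinv⟩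
  intro u hu v hv
  have h1 := hUti u hu (-(f v)) (U.neg_mem (hUinv v hv))
  rw [hβa, map_neg, hffu, neg_neg] at h1
  exact h1

end twofix_abs

end Cfsg.Agent.Lib.Helper59.Tq
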