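import Mathlib
import Cfsg.Agent.Lib.Helper67.TqTWOFIXa
import Cfsg.Agent.Lib.Helper23.TqSCAL
import Cfsg.Agent.Lib.Helper67.TqTWOFIXb
import Cfsg.Agent.Lib.Helper10.TqTwofixTYPEfin
import Cfsg.Agent.Lib.Helper9.TqTwofixSPIN

/-! # TQ-TWOFIX (helper67; Tq hive of helper59): assembly of `two_fix` -/

set_option autoImplicit false

namespace Cfsg.Agent.Lib.Helper59.Tq

open Module
open Cfsg.Agent.Lib.Helper2.BG Cfsg.Agent.Lib.Helper99 Cfsg.Agent.Lib.Helper48.Ti
open Cfsg.Agent.Lib.Helper5.Hy Cfsg.Agent.Lib.Helper67.Ts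



section generic

open Cfsg.Agent.Lib.Helper37

variable {ι : Type} [Fintype ι] [DecidableEq ι] {F : Type*} [Field F] [Fintype F]

/-- TQ-TWOFIX (`r = 2`, `⟸`) -/
theorem two_fix {p : ℕ} [Fact p.Prime] [CharP F p] (hp2 : p ≠ 2) (Q : (ι → F) → F) (d e m : ℕ)
    (hS : Std Q d) (he : TypeE Q e) (hd : 4 ≤ d) (hm : 1 ≤ m) (hmd : m + 1 ≤ d)
    (hcond : (e = 0 ∧ (Fintype.card F % 4 = 1 ∨
        (Fintype.card F % 4 = 3 ∧ m + 2 ≤ d ∧ (Even m ∨ Odd d)))) ∨
      (e = 1 ∧ (Even d ∨ Even m ∨ Fintype.card F % 8 ≠ 7)))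
    (x : GL ι F) (hx : x ∈ Cfsg.Geo.omegaGL Q)
    (hx2 : ∃ z : F, ((x ^ 2 : GL ι F) : Matrix ι ι F) = z • 1) (hns : NonScalar x) :
    FixTS Q m x := by
  classical
  have _hm := hm
  have hpP : p.Prime := Fact.out
  -- 2 ≠ 0 and q odd
  have h2 : (2 : F) ≠ 0 := by
    intro h0
    have h' : ((2 : ℕ) : F) = 0 := by exact_mod_cast h0
    have hdvd : p ∣ 2 := (CharP.cast_eq_zero_iff F p 2).1 h'
    rcases (Nat.dvd_prime Nat.prime_two).1 hdvd with h1 | h1
    · exact hpP.one_lt.ne' h1
    · exact hp2 h1
  have hqodd : Fintype.card F % 2 = 1 := by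
    obtain ⟨n, hn⟩ := FiniteField.card F p
    have hpodd : p % 2 = 1 := by
      rcases hpP.eq_two_or_odd with h | h
      · exact absurd h hp2
      · exact h
    rw [hn.2, Nat.pow_mod, hpodd, one_pow]; rfl
  -- the quadratic form and its Gram matrix
  obtain ⟨QF, hQF, hnd⟩ := hS.exists_form
  subst hQF
  have hcard : Fintype.card ι = 2 * d := hS.card
  set G : Matrix ι ι F := Matrix.of (fun i j : ι =>
    QuadraticMap.polar ⇑QF (Pi.single i 1) (Pi.single j 1)) with hG
  have hGram : IsGram (⇑QF) G := isGram_of_quadraticForm h2 QF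
  set B : (ι → F) →ₗ[F] (ι → F) →ₗ[F] F := Matrix.toBilin' G with hBdef
  have hBpolar : ∀ u v, B u v = QuadraticMap.polar ⇑QF u v := by
    intro u v
    rw [hBdef, twofix_polar hGram]
    rfl
  have hs : ∀ u v, B u v = B v u := hGram.symmB
  have hV : Nd B ⊤ := by
    intro u _ hu
    apply hnd.1 u
    intro v
    rw [QuadraticMap.polarBilin_apply_apply, ← hBpolar]
    exact hu v Submodule.mem_top
  have hdimV : finrank F (ι → F) = 2 * d := by
    rw [Module.finrank_fintype_fun_eq_card, hcard]
  -- the element of Ω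
  unfold Cfsg.Geo.omegaGL at hx
  obtain ⟨g, hgΩ, hgx⟩ := Subgroup.mem_map.1 hx
  have hgmat : toMat (⇑QF) g = (x : Matrix ι ι F) := by
    rw [toMat_apply, ← hgx]
    rfl
  set f : Module.End F (ι → F) := Matrix.toLin' (x : Matrix ι ι F) with hf
  have hfg : f = Matrix.toLin' (toMat (⇑QF) g) := by rw [hf, hgmat]
  have hisom : Isom B f := by
    rw [hfg]
    exact twofix_isom hGram g
  -- conversion of the goal
  have hgoal : (∃ W : Submodule F (ι → F), finrank F W = m ∧ TI B W ∧ Inv f W) →
      FixTS (⇑QF) m x := by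
    rintro ⟨W, hWm, hWti, hWinv⟩
    refine ⟨W, hWm, (twofix_ts_iff_ti hGram W).2 hWti, ?_⟩
    rintro _ ⟨w, hw, rfl⟩
    exact hWinv w hw
  -- bridge for the type
  have hplus : IsPlus (⇑QF) ↔ Plus B ⊤ := by
    constructor
    · rintro ⟨U, hU, hUd⟩
      refine ⟨U, le_top, (twofix_ts_iff_ti hGram U).1 hU, ?_⟩
      rw [hUd, finrank_top, Module.finrank_fintype_fun_eq_card]
    · rintro ⟨U, -, hU, hUd⟩
      refine ⟨U, (twofix_ts_iff_ti hGram U).2 hU, ?_⟩
      rw [hUd, finrank_top, Module.finrank_fintype_fun_eq_card]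
  -- the scalar z
  obtain ⟨z, hz⟩ := hx2
  have hx2mem : x ^ 2 ∈ Cfsg.isometryGroup F (⇑QF) := by
    apply Subgroup.pow_mem
    rw [← hgx]
    exact g.2
  have hzz : z * z = 1 := scalar_sq_eq_one (⇑QF) d (by omega) hS (x ^ 2) hx2mem z hz
  have hz1 : z = 1 ∨ z = -1 := by
    have : (z - 1) * (z + 1) = 0 := by linear_combination hzz
    rcases mul_eq_zero.1 this with h | h
    · exact Or.inl (sub_eq_zero.1 h)
    · exact Or.inr (eq_neg_of_add_eq_zero_left h)
  have hffz : f * f = z • (1 : Module.End F (ι → F)) := by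
    rw [hf, Module.End.mul_eq_comp, ← Matrix.toLin'_mul, ← pow_two, ← Units.val_pow_eq_pow_val, hz,
      map_smul, Matrix.toLin'_one]
    rfl
  have hq4 : Fintype.card F % 4 = 1 ∨ Fintype.card F % 4 = 3 := by omega
  apply hgoal
  rcases hz1 with rfl | rfl
  · -- the involution case
    have hff : f * f = 1 := by rw [hffz, one_smul]
    have hgg : toMat (⇑QF) g * toMat (⇑QF) g = 1 := by
      rw [hgmat, ← pow_two, ← Units.val_pow_eq_pow_val, hz, one_smul]
    obtain ⟨hev, hpl⟩ := twofix_invol_spin hGram hV g hgΩ hgg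
    rw [← hfg] at hev hpl
    have hffu : ∀ u, f (f u) = u := fun u => by
      have := congrArg (fun g : Module.End F (ι → F) => g u) hff
      simpa using this
    have hm0 : finrank F ↥(LinearMap.ker (f + 1)) ≠ 0 := by
      intro h0
      have hbot : LinearMap.ker (f + 1) = ⊥ := Submodule.finrank_eq_zero.1 h0
      apply hns 1
      apply Matrix.toLin'.injective
      apply LinearMap.ext
      intro u
      have hmem : u - f u ∈ LinearMap.ker (f + 1) := by
        rw [invol_mem_ker_add, map_sub, hffu]; abel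
      rw [hbot, Submodule.mem_bot, sub_eq_zero] at hmem
      rw [← hf, one_smul, Matrix.toLin'_one, LinearMap.id_apply]
      exact hmem.symm
    have hp0 : finrank F ↥(LinearMap.ker (f - 1)) ≠ 0 := by
      intro h0
      have hbot : LinearMap.ker (f - 1) = ⊥ := Submodule.finrank_eq_zero.1 h0
      apply hns (-1)
      apply Matrix.toLin'.injective
      apply LinearMap.ext
      intro u
      have hmem : u + f u ∈ LinearMap.ker (f - 1) := by
        rw [invol_mem_ker_sub, map_add, hffu, add_comm]
      rw [hbot, Submodule.mem_bot] at hmem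
      rw [← hf, map_smul, Matrix.toLin'_one, LinearMap.smul_apply, LinearMap.id_apply, neg_smul,
        one_smul]
      exact eq_neg_of_add_eq_zero_right hmem
    apply twofix_invol_abs h2 hs hV hisom hff d m hdimV hp0 hm0 hev
    by_cases hmd2 : m + 2 ≤ d
    · exact Or.inl hmd2
    · right
      refine ⟨hmd, ?_⟩
      rcases hcond with ⟨he0, hc⟩ | ⟨he1, -⟩
      · rcases hc with hq1 | ⟨-, h, -⟩
        · exact Or.inl (hpl hq1)
        · exact absurd h hmd2
      · right
        rcases he with ⟨he0, -⟩ | ⟨-, hnp⟩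
        · omega
        · exact fun h => hnp (hplus.2 h)
  · -- x² = -1
    have hff : f * f = -1 := by
      rw [hffz]
      apply LinearMap.ext
      intro v
      simp
    rcases hq4 with hq1 | hq3
    · exact twofix_bk_neg_split hq1 hs hV hisom hff m (by rw [hdimV]; omega)
    · rcases Nat.even_or_odd m with hme | hmo
      · exact twofix_bk_neg_even hq3 hs hV hisom hff m hme (by rw [hdimV]; omega)
      · exfalso
        have hmne : ¬ Even m := Nat.not_even_iff_odd.2 hmo
        have htype := twofix_type hq3 hs hV hisom hff d hdimV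
        rcases hcond with ⟨he0, hc⟩ | ⟨he1, hc⟩
        · rcases hc with hq1 | ⟨-, -, hc'⟩
          · omega
          · have hdodd : Odd d := hc'.resolve_left hmne
            rcases he with ⟨-, hip⟩ | ⟨he1, -⟩
            · exact (Nat.not_even_iff_odd.2 hdodd) (htype.1 (hplus.1 hip))
            · omega
        · rcases he with ⟨he0, -⟩ | ⟨-, hnp⟩
          · omega
          · rcases hc with hde | hme | hq8
            · exact hnp (hplus.2 (htype.2 hde))
            · exact hmne hme
            · by_cases hde : Even d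
              · exact hnp (hplus.2 (htype.2 hde))
              · have hdodd : Odd d := Nat.not_even_iff_odd.1 hde
                have hgg : toMat (⇑QF) g * toMat (⇑QF) g = -1 := by
                  rw [hgmat, ← pow_two, ← Units.val_pow_eq_pow_val, hz]
                  ext a b
                  simp
                have hsq := twofix_spin hGram hV g hgΩ hgg d hcard
                obtain ⟨t, ht⟩ := hdodd
                have hsq2 : IsSquare (2 : F) := by
                  obtain ⟨s, hs'⟩ := hsq
                  refine ⟨s / 2 ^ t, ?_⟩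
                  have h2t : (2 : F) ^ t ≠ 0 := pow_ne_zero _ h2
                  field_simp
                  rw [pow_two s, ← hs', ht]
                  ring
                have := FiniteField.isSquare_two_iff.1 hsq2
                omega

end generic

end Cfsg.Agent.Lib.Helper59.Tq
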