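import Mathlib

set_option autoImplicit false

/-! Elements inverted by conjugation: parity of powers, `2`-parts, involutions. -/

namespace Cfsg.Agent.Lib.Helper67.Amb

variable {G : Type*} [Group G]

/-- If `g` inverts `x`, then `g * g` centralizes `x`. -/
theorem sq_commute {g x : G} (h : g * x * g⁻¹ = x⁻¹) : Commute (g * g) x := by
  have h2 : g * x⁻¹ * g⁻¹ = x := by
    have := congrArg (fun y => y⁻¹) h
    simpa [mul_assoc] using this
  have : g * g * x * (g * g)⁻¹ = x := by
    calc g * g * x * (g * g)⁻¹ = g * (g * x * g⁻¹) * g⁻¹ := by group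
      _ = g * x⁻¹ * g⁻¹ := by rw [h]
      _ = x := h2
  unfold Commute SemiconjBy
  calc g * g * x = (g * g * x * (g * g)⁻¹) * (g * g) := by group
    _ = x * (g * g) := by rw [this]

/-- Even powers of an inverting element centralize. -/
theorem pow_even_commute {g x : G} (h : g * x * g⁻¹ = x⁻¹) (k : ℕ) : Commute (g ^ (2 * k)) x := by
  have := (sq_commute h).pow_left k
  rwa [← pow_two, ← pow_mul] at this

/-- Odd powers of an inverting element invert. -/
theorem pow_odd_inverts {g x : G} (h : g * x * g⁻¹ = x⁻¹) (k : ℕ) :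
    g ^ (2 * k + 1) * x * (g ^ (2 * k + 1))⁻¹ = x⁻¹ := by
  have hc := pow_even_commute h k
  have hc' : g ^ (2 * k) * x * (g ^ (2 * k))⁻¹ = x := by
    rw [hc.eq]; group
  calc g ^ (2 * k + 1) * x * (g ^ (2 * k + 1))⁻¹
      = g ^ (2 * k) * (g * x * g⁻¹) * (g ^ (2 * k))⁻¹ := by
        rw [pow_succ]; group
    _ = g ^ (2 * k) * x⁻¹ * (g ^ (2 * k))⁻¹ := by rw [h]
    _ = (g ^ (2 * k) * x * (g ^ (2 * k))⁻¹)⁻¹ := by group
    _ = x⁻¹ := by rw [hc']

/-- An element inverted by an element of odd order is its own inverse. -/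
theorem sq_eq_one_of_odd_inverts {g x : G} (h : g * x * g⁻¹ = x⁻¹) (hodd : Odd (orderOf g)) :
    x * x = 1 := by
  obtain ⟨k, hk⟩ := hodd
  have := pow_odd_inverts h k
  rw [← hk, pow_orderOf_eq_one] at this
  have h1 : x = x⁻¹ := by simpa using this
  calc x * x = x * x⁻¹ := by rw [← h1]
    _ = 1 := mul_inv_cancel x

/-- An element of odd order with `x * x = 1` is trivial. -/
theorem eq_one_of_sq_of_odd {x : G} (h : x * x = 1) (hodd : Odd (orderOf x)) : x = 1 := by
  have h2 : orderOf x ∣ 2 := orderOf_dvd_of_pow_eq_one (by rw [pow_two]; exact h)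
  have h1 : orderOf x = 1 := by
    rcases (Nat.dvd_prime Nat.prime_two).mp h2 with h1 | h1
    · exact h1
    · rw [h1] at hodd; exact absurd hodd (by decide)
  exact orderOf_eq_one_iff.mp h1

/-- In a finite group, an inverted element is inverted by a `2`-element. -/
theorem exists_two_elt_inverts [Finite G] {g x : G} (h : g * x * g⁻¹ = x⁻¹) :
    ∃ g' : G, (∃ k : ℕ, g' ^ 2 ^ k = 1) ∧ g' * x * g'⁻¹ = x⁻¹ := by
  have hpos : 0 < orderOf g := orderOf_pos g
  set n := orderOf g with hn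
  have hm : ¬ 2 ∣ ordCompl[2] n := Nat.not_dvd_ordCompl Nat.prime_two hpos.ne'
  have hm' : Odd (ordCompl[2] n) := Nat.odd_iff.mpr (by omega)
  obtain ⟨k, hk⟩ := hm'
  refine ⟨g ^ (ordCompl[2] n), ⟨n.factorization 2, ?_⟩, ?_⟩
  · rw [← pow_mul, mul_comm, Nat.ordProj_mul_ordCompl_eq_self, hn, pow_orderOf_eq_one]
  · rw [hk]; exact pow_odd_inverts h k

/-- In a finite group, if `x` is inverted and `x * x ≠ 1`, there is an involution which either
centralizes or inverts `x`. -/
theorem exists_involution_of_inverts [Finite G] {g x : G} (h : g * x * g⁻¹ = x⁻¹)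
    (hx : x * x ≠ 1) :
    ∃ t : G, orderOf t = 2 ∧ (Commute t x ∨ t * x * t⁻¹ = x⁻¹) := by
  have hpos : 0 < orderOf g := orderOf_pos g
  have heven : Even (orderOf g) := by
    by_contra hne
    exact hx (sq_eq_one_of_odd_inverts h (Nat.not_even_iff_odd.mp hne))
  obtain ⟨m, hm⟩ := heven
  have hm0 : 0 < m := by omega
  have ht2 : (g ^ m) ^ 2 = 1 := by
    rw [← pow_mul, mul_two, ← hm, pow_orderOf_eq_one]
  have ht1 : g ^ m ≠ 1 := by
    intro h1
    have := orderOf_dvd_of_pow_eq_one h1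
    have := Nat.le_of_dvd hm0 this
    omega
  have : Fact (Nat.Prime 2) := ⟨Nat.prime_two⟩
  refine ⟨g ^ m, orderOf_eq_prime ht2 ht1, ?_⟩
  rcases Nat.even_or_odd' m with ⟨k, hk | hk⟩
  · left; rw [hk]; exact pow_even_commute h k
  · right; rw [hk]; exact pow_odd_inverts h k

end Cfsg.Agent.Lib.Helper67.Amb
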