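import Mathlib

set_option autoImplicit false

namespace Cfsg.Agent.Lib.Helper67

variable {G : Type*} [Group G]

theorem exists_odd_pow_two_power [Finite G] (c : G) :
    ∃ m k : ℕ, Odd m ∧ orderOf (c ^ m) = 2 ^ k := by
  have h0 : orderOf c ≠ 0 := (orderOf_pos c).ne'
  obtain ⟨k, m, hm, h⟩ := Nat.exists_eq_two_pow_mul_odd h0
  refine ⟨m, k, hm, ?_⟩
  have hm0 : m ≠ 0 := by rintro rfl; simp at hm
  rw [orderOf_pow_of_dvd hm0 ⟨2 ^ k, by rw [h, mul_comm]⟩, h]
  exact Nat.mul_div_cancel _ (Nat.pos_of_ne_zero hm0)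

theorem mulAut_pow_inv_aux (φ : MulAut G) {x : G} (h : φ x = x⁻¹) (m : ℕ) :
    (Even m → (φ ^ m) x = x) ∧ (Odd m → (φ ^ m) x = x⁻¹) := by
  induction m with
  | zero => simp
  | succ m ih =>
    constructor
    · intro he
      have ho : Odd m := by
        rcases Nat.even_or_odd m with h' | h'
        · exact absurd he (by simpa [Nat.even_add_one] using h')
        · exact h'
      rw [pow_succ', MulAut.mul_apply, ih.2 ho, map_inv, h, inv_inv]
    · intro ho
      have he : Even m := by
        rcases Nat.even_or_odd m with h' | h'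
        · exact h'
        · exact absurd ho (by simpa [Nat.odd_add_one] using h')
      rw [pow_succ', MulAut.mul_apply, ih.1 he, h]

theorem conj_pow_odd_inv {c x : G} (h : c * x * c⁻¹ = x⁻¹) {m : ℕ} (hm : Odd m) :
    c ^ m * x * (c ^ m)⁻¹ = x⁻¹ := by
  have := (mulAut_pow_inv_aux (MulAut.conj c) (x := x) (by simpa using h) m).2 hm
  have h2 : (MulAut.conj c ^ m) = MulAut.conj (c ^ m) := (map_pow MulAut.conj c m).symm
  rw [h2, MulAut.conj_apply] at this
  exact this

/-- A `p`-element normalizing a Sylow `p`-subgroup lies in it. -/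
theorem mem_sylow_of_mem_normalizer {p : ℕ} [Fact p.Prime] (S : Sylow p G) {h : G} {k : ℕ}
    (hord : orderOf h = p ^ k) (hn : h ∈ Subgroup.normalizer ((S : Subgroup G) : Set G)) :
    h ∈ (S : Subgroup G) := by
  have hp : IsPGroup p (Subgroup.zpowers h) := by
    apply IsPGroup.of_card (n := k)
    rw [Nat.card_zpowers, hord]
  have := hp.inf_normalizer_sylow S
  have hm : h ∈ Subgroup.zpowers h ⊓ Subgroup.normalizer (S : Set G) :=
    ⟨Subgroup.mem_zpowers h, hn⟩
  rw [this] at hm
  exact hm.2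

end Cfsg.Agent.Lib.Helper67
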