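import Cfsg.Agent.Lib.Helper75.C2gB2BIG
import Cfsg.Agent.Lib.Helper33.C2gB2THREE
import Cfsg.Agent.Lib.Helper36.C2gG2A
import Cfsg.Agent.Lib.Helper99.C2gG2B
import Cfsg.Agent.Lib.Helper72.C2gG2C

/-! # S2405, rank-2 part (helper67): assembly of the leaves, `B2(q)` and `G2(q)`, `q > 2`, are two-generated -/

set_option autoImplicit false

namespace Cfsg.Agent.Lib.Helper67.C2g

open Cfsg Cfsg.Lie Cfsg.Agent.Lib.Helper36 Cfsg.Agent.Lib.Helper40.C2g

/-- a field with an element other than `0`, `1` has at least three elements -/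
theorem rank2_card_ge_three (F : Type*) [Field F] [Fintype F] (h : ∃ x : F, x ≠ 0 ∧ x ≠ 1) :
    3 ≤ Fintype.card F := by
  classical
  obtain ⟨x, hx0, hx1⟩ := h
  have hc : ({0, 1, x} : Finset F).card = 3 := by
    rw [Finset.card_insert_of_notMem, Finset.card_insert_of_notMem, Finset.card_singleton]
    · simpa using hx1.symm
    · simp only [Finset.mem_insert, Finset.mem_singleton, not_or]
      exact ⟨zero_ne_one, hx0.symm⟩
  calc 3 = ({0, 1, x} : Finset F).card := hc.symm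
    _ ≤ Fintype.card F := Finset.card_le_univ _

theorem two_gen_B2 (F : Type*) [Field F] [Finite F] (h : ∃ x : F, x ≠ 0 ∧ x ≠ 1) :
    ∃ x y : ↥(chevB2.group F), Subgroup.closure ({x, y} : Set ↥(chevB2.group F)) = ⊤ := by
  have := Fintype.ofFinite F
  have h3 := rank2_card_ge_three F h
  rcases Nat.lt_or_ge 3 (Fintype.card F) with hgt | hle
  · exact two_gen_B2_big F hgt
  · exact two_gen_B2_three F (le_antisymm hle h3)

theorem two_gen_G2 (F : Type*) [Field F] [Finite F] (h : ∃ x : F, x ≠ 0 ∧ x ≠ 1) :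
    ∃ x y : ↥(chevG2.group F), Subgroup.closure ({x, y} : Set ↥(chevG2.group F)) = ⊤ := by
  have := Fintype.ofFinite F
  have h3 : 2 < Fintype.card F := rank2_card_ge_three F h
  obtain ⟨k, hk0, hgen⟩ := exists_field_generator (F := F)
  obtain ⟨hshort, hg1'⟩ := g2_short F h3 k hk0 hgen
  have hn : coxN chevG2 hG2 F ∈ Subgroup.closure
      ({hGL chevG2 hG2 F 11 k * xGL chevG2 hG2 F 7 1 * xGL chevG2 hG2 F 10 1, coxN chevG2 hG2 F} :
        Set (GL chevG2.Idx F)) := Subgroup.subset_closure (by simp)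
  refine two_gen_of_le chevG2 F (hGL chevG2 hG2 F 11 k * xGL chevG2 hG2 F 7 1 * xGL chevG2 hG2 F 10 1)
    (coxN chevG2 hG2 F) ?_ (coxN_mem_group chevG2 hG2 F) ?_
  · exact mul_mem (mul_mem (hGL_mem_group chevG2 hG2 F 11 k) (xGL_mem_group chevG2 hG2 F 7 1))
      (xGL_mem_group chevG2 hG2 F 10 1)
  · by_cases h30 : (3 : F) = 0
    · exact g2_finish_char3 F h30 k hk0 _ hn hshort hg1'
    · exact g2_finish_ne3 F h30 _ hn hshort

end Cfsg.Agent.Lib.Helper67.C2g
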