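import Mathlib
import Cfsg.Agent.Lib.Helper67.ZGroupConj

set_option autoImplicit false

/-!
Groups all of whose Sylow `q`-subgroups are cyclic for `q ≠ r`; conjugacy of `r'`-subgroups of the
same order in solvable groups of this kind.
-/

universe u

namespace Cfsg.Agent.Lib.Helper67

open Subgroup
open Cfsg.Agent.Lib.Helper33

/-- All Sylow `q`-subgroups are cyclic for the primes `q ≠ r`. -/
def CycExc (r : ℕ) (G : Type*) [Group G] : Prop :=
  ∀ q : ℕ, q.Prime → q ≠ r → ∀ P : Sylow q G, IsCyclic P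

section

variable {G : Type u} [Group G] {G' : Type*} [Group G'] {r : ℕ}

theorem CycExc.of_injective (f : G →* G') (hf : Function.Injective f) (h : CycExc r G') :
    CycExc r G := by
  intro q hq hqr P
  obtain ⟨Q, hQ⟩ := P.exists_comap_eq_of_injective hf
  have hc := h q hq hqr Q
  have hle : Subgroup.map f P ≤ Q := hQ ▸ Subgroup.map_comap_le f ↑Q
  have := isCyclic_of_surjective _ (Subgroup.subgroupOfEquivOfLe hle).surjective
  exact isCyclic_of_surjective _ (Subgroup.equivMapOfInjective P f hf).symm.surjective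

theorem CycExc.of_surjective [Finite G] (f : G →* G') (hf : Function.Surjective f)
    (h : CycExc r G) : CycExc r G' := by
  intro q hq hqr P
  have := Fact.mk hq
  obtain ⟨Q, rfl⟩ := Sylow.mapSurjective_surjective hf q P
  have hc := h q hq hqr Q
  exact isCyclic_of_surjective _ (f.subgroupMap_surjective Q)

theorem CycExc.subgroup (h : CycExc r G) (T : Subgroup G) : CycExc r T :=
  h.of_injective T.subtype T.subtype_injective

theorem CycExc.isCyclic_of_isPGroup (h : CycExc r G) {q : ℕ} (hq : q.Prime) (hqr : q ≠ r)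
    (X : Subgroup G) (hX : IsPGroup q X) : IsCyclic X := by
  have := Fact.mk hq
  obtain ⟨Q, hQ⟩ := hX.exists_le_sylow
  have := h q hq hqr Q
  exact Subgroup.isCyclic_of_le hQ

theorem CycExc.isZGroup_of_not_prime (h : CycExc r G) (hr : ¬ r.Prime) : IsZGroup G :=
  ⟨fun q hq P => h q hq (by rintro rfl; exact hr hq) P⟩

theorem CycExc.isZGroup_of_coprime [Finite G] (h : CycExc r G) (hr : (Nat.card G).Coprime r) :
    IsZGroup G := by
  refine ⟨fun q hq P => ?_⟩
  by_cases hqr : q = r
  · subst hqr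
    have := Fact.mk hq
    obtain ⟨k, hk⟩ := P.2.exists_card_eq
    have h1 : Nat.card P ∣ Nat.card G := P.card_subgroup_dvd_card
    have h2 : (Nat.card P).Coprime q := Nat.Coprime.coprime_dvd_left h1 hr
    have h3 : Nat.card P = 1 := by
      rcases Nat.eq_zero_or_pos k with hk0 | hk0
      · rw [hk, hk0, pow_zero]
      · exfalso
        rw [hk] at h2
        have : q ∣ Nat.gcd (q ^ k) q := Nat.dvd_gcd (dvd_pow_self q hk0.ne') dvd_rfl
        rw [h2] at this
        exact hq.one_lt.ne' (Nat.dvd_one.mp this)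
    have : Subsingleton P := (Nat.card_eq_one_iff_unique.mp h3).1
    exact isCyclic_of_subsingleton
  · exact h q hq hqr P

/-- In a finite solvable group whose Sylow `q`-subgroups are cyclic for `q ≠ r`, two subgroups of the
same order prime to `r` are conjugate. -/
theorem CycExc.conj_of_coprime [Finite G] (h : CycExc r G) (hs : Group.IsSolvable G)
    (hr : r.Prime) (X Y : Subgroup G) (hXY : Nat.card X = Nat.card Y)
    (hXr : (Nat.card X).Coprime r) : ∃ t : G, cj t X = Y := by
  have hpos : Nat.card G ≠ 0 := Nat.card_pos.ne'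
  set n := r ^ (Nat.card G).factorization r with hn
  set m := Nat.card G / n with hm
  have hG : Nat.card G = m * n := by
    rw [hm, hn, mul_comm]; exact (Nat.ordProj_mul_ordCompl_eq_self (Nat.card G) r).symm
  have hmr : m.Coprime r := (Nat.coprime_ordCompl hr hpos).symm
  have hmn : m.Coprime n := Nat.Coprime.pow_right _ hmr
  have hXn : (Nat.card X).Coprime n := Nat.Coprime.pow_right _ hXr
  have hYn : (Nat.card Y).Coprime n := hXY ▸ hXn
  obtain ⟨B1, hB1c, hXB1⟩ := Cfsg.Agent.Lib.Helper1.hallDom_all G hs m n hG hmn X hXn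
  obtain ⟨B2, hB2c, hYB2⟩ := Cfsg.Agent.Lib.Helper1.hallDom_all G hs m n hG hmn Y hYn
  obtain ⟨g, hg⟩ := Cfsg.Agent.Lib.Helper1.hallConj_all G hs m n hG hmn B1 B2 hB1c hB2c
  rw [← cj_eq_smul] at hg
  have : IsZGroup B2 := (h.subgroup B2).isZGroup_of_coprime (by rw [hB2c]; exact hmr)
  have hle : cj g X ≤ B2 := hg ▸ cj_mono hXB1
  obtain ⟨t, -, ht⟩ := zgroup_conj_rel B2 (cj g X) Y hle hYB2 (by rw [card_cj, hXY])
  exact ⟨t * g, by rw [cj_mul, ht]⟩

/-- Relative version inside a subgroup `T`. -/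
theorem CycExc.conj_of_coprime_rel [Finite G] (h : CycExc r G) (T : Subgroup G)
    (hs : Group.IsSolvable T) (hr : r.Prime) (X Y : Subgroup G) (hX : X ≤ T) (hY : Y ≤ T)
    (hXY : Nat.card X = Nat.card Y) (hXr : (Nat.card X).Coprime r) :
    ∃ t ∈ T, cj t X = Y := by
  have h1 : Nat.card (X.subgroupOf T) = Nat.card (Y.subgroupOf T) := by
    rw [Nat.card_congr (subgroupOfEquivOfLe hX).toEquiv,
      Nat.card_congr (subgroupOfEquivOfLe hY).toEquiv, hXY]
  have h2 : (Nat.card (X.subgroupOf T)).Coprime r := by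
    rw [Nat.card_congr (subgroupOfEquivOfLe hX).toEquiv]; exact hXr
  obtain ⟨t, ht⟩ := (h.subgroup T).conj_of_coprime hs hr (X.subgroupOf T) (Y.subgroupOf T) h1 h2
  exact ⟨(t : G), t.2, Cfsg.Agent.Lib.Helper24.cj_subgroupOf_eq hX hY t ht⟩

end

end Cfsg.Agent.Lib.Helper67
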