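import Mathlib
import Cfsg.Agent.Lib.Helper33.ZJControl
import Cfsg.Agent.Lib.Helper88.ZJLemmas

set_option autoImplicit false
set_option linter.unusedSectionVars false
set_option linter.unusedVariables false

/-!
# The preimage of `Z(J(T Z / Z))` in a subgroup `C` with a normal subgroup `Z`
-/

namespace Cfsg.Agent.Lib.Helper67.LiftZJ

open Cfsg Subgroup
open scoped commutatorElement

universe u

variable {G : Type u} [Group G]

/-- conjugation by `n` as an automorphism of a subgroup `C` normalized by `n` -/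
def conjAut (C : Subgroup G) (n : G) (hn : n ∈ normalizer (C : Set G)) : ↥C ≃* ↥C where
  toFun c := ⟨n * c * n⁻¹, (Subgroup.mem_normalizer_iff.mp hn c).mp c.2⟩
  invFun c := ⟨n⁻¹ * c * n, by
    have := (Subgroup.mem_normalizer_iff.mp (Subgroup.inv_mem _ hn) c).mp c.2
    simpa using this⟩
  left_inv c := Subtype.ext (by simp [mul_assoc])
  right_inv c := Subtype.ext (by simp [mul_assoc])
  map_mul' a b := Subtype.ext (by simp [mul_assoc])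

theorem conjAut_coe (C : Subgroup G) (n : G) (hn : n ∈ normalizer (C : Set G)) (c : ↥C) :
    ((conjAut C n hn c : ↥C) : G) = n * c * n⁻¹ := rfl

/-- the preimage in `C` (viewed in `G`) of `Z(J(T̄))`, `T̄` the image of `T ∩ C` in `C / Zc` -/
def liftZJ (C : Subgroup G) (Zc : Subgroup ↥C) [Zc.Normal] (T : Subgroup G) : Subgroup G :=
  ((centerThompsonAOf ((T.subgroupOf C).map (QuotientGroup.mk' Zc))).comap
    (QuotientGroup.mk' Zc)).map C.subtype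

variable {C : Subgroup G} {Zc : Subgroup ↥C} [Zc.Normal] {T : Subgroup G}

theorem mem_liftZJ {x : G} : x ∈ liftZJ C Zc T ↔ ∃ h : x ∈ C,
    (QuotientGroup.mk' Zc ⟨x, h⟩) ∈
      centerThompsonAOf ((T.subgroupOf C).map (QuotientGroup.mk' Zc)) := by
  unfold liftZJ
  constructor
  · rintro ⟨c, hc, rfl⟩
    exact ⟨c.2, hc⟩
  · rintro ⟨h, hx⟩
    exact ⟨⟨x, h⟩, hx, rfl⟩

theorem liftZJ_le_C : liftZJ C Zc T ≤ C := by
  intro x hx
  obtain ⟨h, -⟩ := mem_liftZJ.mp hx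
  exact h

theorem liftZJ_le (hZT : Zc ≤ T.subgroupOf C) : liftZJ C Zc T ≤ T := by
  intro x hx
  obtain ⟨h, hx⟩ := mem_liftZJ.mp hx
  have h1 := Cfsg.Agent.Lib.Helper88.centerThompsonAOf_le _ hx
  obtain ⟨t, ht, hte⟩ := h1
  have h2 : t⁻¹ * ⟨x, h⟩ ∈ Zc := by
    rw [← QuotientGroup.eq]
    exact hte
  have h3 : t⁻¹ * ⟨x, h⟩ ∈ T.subgroupOf C := hZT h2
  have h4 : (⟨x, h⟩ : ↥C) ∈ T.subgroupOf C := by
    have := Subgroup.mul_mem _ ht h3
    simpa using this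
  exact h4

theorem le_liftZJ : Zc.map C.subtype ≤ liftZJ C Zc T := by
  rintro _ ⟨z, hz, rfl⟩
  rw [mem_liftZJ]
  refine ⟨z.2, ?_⟩
  have : QuotientGroup.mk' Zc ⟨(C.subtype z), z.2⟩ = 1 := by
    rw [QuotientGroup.mk'_apply, QuotientGroup.eq_one_iff]
    exact hz
  rw [this]
  exact Subgroup.one_mem _

theorem comm_mem {a b : G} (ha : a ∈ liftZJ C Zc T) (hb : b ∈ liftZJ C Zc T) :
    ⁅a, b⁆ ∈ Zc.map C.subtype := by
  obtain ⟨ha1, ha2⟩ := mem_liftZJ.mp ha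
  obtain ⟨hb1, hb2⟩ := mem_liftZJ.mp hb
  refine ⟨⁅(⟨a, ha1⟩ : ↥C), ⟨b, hb1⟩⁆, ?_, rfl⟩
  rw [SetLike.mem_coe, ← QuotientGroup.eq_one_iff]
  change QuotientGroup.mk' Zc ⁅(⟨a, ha1⟩ : ↥C), ⟨b, hb1⟩⁆ = 1
  rw [map_commutatorElement, commutatorElement_eq_one_iff_mul_comm]
  rw [Cfsg.Agent.Lib.Helper88.centerThompsonAOf_eq_zIn, Cfsg.Agent.Lib.Helper51.mem_zIn] at ha2 hb2
  exact (ha2.2 _ hb2.1).symm

theorem liftZJ_commutator_le : ⁅liftZJ C Zc T, liftZJ C Zc T⁆ ≤ Zc.map C.subtype :=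
  Subgroup.commutator_le.mpr (fun a ha b hb => comm_mem ha hb)

variable {p : ℕ} [Fact p.Prime]

theorem liftZJ_not_le [Finite G] (hTp : IsPGroup p (T.subgroupOf C))
    (hne : ¬ T.subgroupOf C ≤ Zc) : ¬ liftZJ C Zc T ≤ Zc.map C.subtype := by
  intro hle
  have hTb : (T.subgroupOf C).map (QuotientGroup.mk' Zc) ≠ ⊥ := by
    intro h
    apply hne
    intro t ht
    have : QuotientGroup.mk' Zc t ∈ (T.subgroupOf C).map (QuotientGroup.mk' Zc) := ⟨t, ht, rfl⟩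
    rw [h, Subgroup.mem_bot, QuotientGroup.mk'_apply, QuotientGroup.eq_one_iff] at this
    exact this
  have hTbp : IsPGroup p ((T.subgroupOf C).map (QuotientGroup.mk' Zc)) := hTp.map _
  have hZJ := Cfsg.Agent.Lib.Helper88.centerThompsonAOf_ne_bot hTbp hTb
  apply hZJ
  rw [eq_bot_iff]
  intro y hy
  obtain ⟨c, rfl⟩ := QuotientGroup.mk'_surjective Zc y
  have h1 : (c : G) ∈ liftZJ C Zc T := mem_liftZJ.mpr ⟨c.2, hy⟩
  obtain ⟨z, hz, hzc⟩ := hle h1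
  have : z = c := Subtype.ext hzc
  rw [Subgroup.mem_bot, QuotientGroup.mk'_apply, QuotientGroup.eq_one_iff, ← this]
  exact hz

/-- invariance of `liftZJ` under elements normalizing `C`, `Zc` and `T` -/
theorem conj_mem_liftZJ [Finite G] {n : G} (hnC : n ∈ normalizer (C : Set G))
    (hnZ : ∀ z : ↥C, z ∈ Zc → conjAut C n hnC z ∈ Zc)
    (hnT : n ∈ normalizer (T : Set G)) {w : G} (hw : w ∈ liftZJ C Zc T) :
    n * w * n⁻¹ ∈ liftZJ C Zc T := by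
  classical
  obtain ⟨α, hα⟩ : ∃ α : ↥C ≃* ↥C, α = conjAut C n hnC := ⟨_, rfl⟩
  have hαZ : Zc.map (α : ↥C →* ↥C) = Zc := by
    apply Subgroup.eq_of_le_of_card_ge
    · rintro _ ⟨z, hz, rfl⟩
      rw [hα]
      exact hnZ z hz
    · rw [Subgroup.card_map_of_injective (f := (α : ↥C →* ↥C)) α.injective]
  obtain ⟨αb, hαb⟩ : ∃ αb : (↥C ⧸ Zc) ≃* (↥C ⧸ Zc),
      ∀ c : ↥C, αb (QuotientGroup.mk' Zc c) = QuotientGroup.mk' Zc (α c) :=
    ⟨QuotientGroup.congr Zc Zc α hαZ, fun c => rfl⟩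
  obtain ⟨Tb, hTbdef⟩ : ∃ Tb, Tb = (T.subgroupOf C).map (QuotientGroup.mk' Zc) := ⟨_, rfl⟩
  have hTb : Tb.map αb.toMonoidHom = Tb := by
    apply Subgroup.eq_of_le_of_card_ge
    · rw [hTbdef]
      rintro _ ⟨_, ⟨t, ht, rfl⟩, rfl⟩
      refine ⟨α t, ?_, (hαb t).symm⟩
      rw [SetLike.mem_coe, Subgroup.mem_subgroupOf] at ht ⊢
      rw [hα, conjAut_coe]
      exact (Subgroup.mem_normalizer_iff.mp hnT _).mp ht
    · rw [Subgroup.card_map_of_injective (f := αb.toMonoidHom) αb.injective]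
  obtain ⟨hwC, hw2⟩ := mem_liftZJ.mp hw
  rw [mem_liftZJ]
  refine ⟨(Subgroup.mem_normalizer_iff.mp hnC w).mp hwC, ?_⟩
  rw [← hTbdef] at hw2 ⊢
  have h1 : αb.toMonoidHom (QuotientGroup.mk' Zc ⟨w, hwC⟩) ∈
      (centerThompsonAOf Tb).map αb.toMonoidHom := ⟨_, hw2, rfl⟩
  rw [Cfsg.Agent.Lib.Helper88.centerThompsonAOf_map _ αb.injective, hTb] at h1
  have h2 : αb.toMonoidHom (QuotientGroup.mk' Zc ⟨w, hwC⟩) =
      QuotientGroup.mk' Zc ⟨n * w * n⁻¹, (Subgroup.mem_normalizer_iff.mp hnC w).mp hwC⟩ := by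
    change αb (QuotientGroup.mk' Zc ⟨w, hwC⟩) = _
    rw [hαb, hα]
    rfl
  rw [h2] at h1
  exact h1

/-- `liftZJ` is strongly closed in `T` with respect to `C` when `C / Zc` is `p`-stable -/
theorem conj_mem_liftZJ_of_mem [Finite G] (hp2 : p ≠ 2)
    (hstD : IsNormalizerPStable p (↥C ⧸ Zc)) (Tsyl : Sylow p (↥C ⧸ Zc))
    (hT : (Tsyl : Subgroup (↥C ⧸ Zc)) = (T.subgroupOf C).map (QuotientGroup.mk' Zc))
    {w : G} (hw : w ∈ liftZJ C Zc T) {c : G} (hc : c ∈ C) (hcw : c * w * c⁻¹ ∈ T) :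
    c * w * c⁻¹ ∈ liftZJ C Zc T := by
  obtain ⟨hwC, hw2⟩ := mem_liftZJ.mp hw
  rw [mem_liftZJ]
  have hcwC : c * w * c⁻¹ ∈ C := C.mul_mem (C.mul_mem hc hwC) (C.inv_mem hc)
  refine ⟨hcwC, ?_⟩
  rw [← hT] at hw2 ⊢
  have hctl := Cfsg.Agent.Lib.Helper33.zj_controls_strong_fusion hp2 hstD Tsyl
    {QuotientGroup.mk' Zc ⟨w, hwC⟩} (by
      intro y hy
      rw [Set.mem_singleton_iff] at hy
      rw [hy]
      exact Cfsg.Agent.Lib.Helper88.centerThompsonAOf_le _ hw2)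
  obtain ⟨-, h⟩ := hctl
  obtain ⟨x, hx, hxa⟩ := h (QuotientGroup.mk' Zc ⟨c, hc⟩) (by
    rintro _ ⟨a, ha, rfl⟩
    rw [Set.mem_singleton_iff] at ha
    rw [ha, SetLike.mem_coe, hT]
    refine ⟨⟨c * w * c⁻¹, hcwC⟩, ?_, ?_⟩
    · rw [SetLike.mem_coe, Subgroup.mem_subgroupOf]
      exact hcw
    · change _ = QuotientGroup.mk' Zc ⟨c, hc⟩ * QuotientGroup.mk' Zc ⟨w, hwC⟩ *
        (QuotientGroup.mk' Zc ⟨c, hc⟩)⁻¹
      rw [← map_inv, ← map_mul, ← map_mul]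
      rfl)
  have h1 := hxa _ (Set.mem_singleton _)
  have h2 : QuotientGroup.mk' Zc ⟨c * w * c⁻¹, hcwC⟩ =
      x * QuotientGroup.mk' Zc ⟨w, hwC⟩ * x⁻¹ := by
    rw [← h1, ← map_inv, ← map_mul, ← map_mul]
    rfl
  rw [h2]
  exact (Subgroup.mem_normalizer_iff.mp hx _).mp hw2

end Cfsg.Agent.Lib.Helper67.LiftZJ
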