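import Mathlib

set_option autoImplicit false

namespace Cfsg.Agent.Lib.Helper67

variable {G : Type*} [Group G]

theorem mem_normalizer_zpowers_iff {g x : G} :
    g ∈ Subgroup.normalizer ((Subgroup.zpowers x : Subgroup G) : Set G) ↔
      g * x * g⁻¹ ∈ Subgroup.zpowers x ∧ g⁻¹ * x * g ∈ Subgroup.zpowers x := by
  constructor
  · intro hg
    refine ⟨(hg x).mp (Subgroup.mem_zpowers x), ?_⟩
    have := (inv_mem hg : g⁻¹ ∈ _)
    have h2 := (this x).mp (Subgroup.mem_zpowers x)
    simpa using h2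
  · rintro ⟨h1, h2⟩ h
    constructor
    · intro hh
      obtain ⟨k, rfl⟩ := Subgroup.mem_zpowers_iff.mp hh
      have : g * x ^ k * g⁻¹ = (g * x * g⁻¹) ^ k := by
        rw [conj_zpow]
      rw [SetLike.mem_coe, this]
      exact zpow_mem h1 k
    · intro hh
      obtain ⟨k, hk⟩ := Subgroup.mem_zpowers_iff.mp hh
      have : h = (g⁻¹ * x * g) ^ k := by
        have e : g⁻¹ * x * g = g⁻¹ * x * g⁻¹⁻¹ := by rw [inv_inv]
        rw [e, conj_zpow, hk]
        group
      rw [SetLike.mem_coe, this]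
      exact zpow_mem h2 k

theorem conj_pow_eq_pow_pow {g x : G} {j : ℕ} (h : g * x * g⁻¹ = x ^ j) (k : ℕ) :
    g ^ k * x * (g ^ k)⁻¹ = x ^ (j ^ k) := by
  induction k with
  | zero => simp
  | succ k ih =>
    have : g ^ (k + 1) * x * (g ^ (k + 1))⁻¹ = g * (g ^ k * x * (g ^ k)⁻¹) * g⁻¹ := by
      rw [pow_succ']
      group
    rw [this, ih, ← conj_pow, h, ← pow_mul, pow_succ']

/-- If `g` normalizes `⟨x⟩`, and `g ^ m` centralizes `x` with `m` coprime to `φ (orderOf x)`,
then `g` centralizes `x`. -/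
theorem commute_of_pow_commute_of_coprime [Finite G] {x g : G}
    (hg : g ∈ Subgroup.normalizer ((Subgroup.zpowers x : Subgroup G) : Set G))
    {m : ℕ} (hm : Commute (g ^ m) x) (hcop : Nat.Coprime m (Nat.totient (orderOf x))) :
    Commute g x := by
  have h1 : g * x * g⁻¹ ∈ Subgroup.zpowers x := (hg x).mp (Subgroup.mem_zpowers x)
  obtain ⟨j, hj⟩ : ∃ j : ℕ, x ^ j = g * x * g⁻¹ :=
    (mem_powers_iff_mem_zpowers (x := x)).mpr h1
  have hpow := conj_pow_eq_pow_pow hj.symm m
  have hx1 : x ^ (j ^ m) = x ^ 1 := by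
    rw [← hpow, hm.eq, mul_inv_cancel_right, pow_one]
  have hmod : j ^ m ≡ 1 [MOD orderOf x] := pow_eq_pow_iff_modEq.mp hx1
  have hn0 : 0 < orderOf x := orderOf_pos x
  have hjcop : Nat.Coprime j (orderOf x) := by
    have ho : orderOf (x ^ j) = orderOf x := by
      rw [hj]
      have : g * x * g⁻¹ = MulAut.conj g x := by simp
      rw [this, MulEquiv.orderOf_eq]
    by_cases hj0 : j = 0
    · subst hj0
      rw [pow_zero, orderOf_one] at ho
      rw [← ho]
      exact Nat.coprime_one_right 0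
    · rw [orderOf_pow' x hj0] at ho
      have hg1 : Nat.gcd (orderOf x) j = 1 := by
        rcases Nat.div_eq_self.mp ho with h0 | h0
        · omega
        · exact h0
      rw [Nat.coprime_comm]
      exact hg1
  set U : (ZMod (orderOf x))ˣ := ZMod.unitOfCoprime j hjcop with hU
  have hUm : U ^ m = 1 := by
    apply Units.ext
    rw [Units.val_pow_eq_pow_val, ZMod.coe_unitOfCoprime, Units.val_one]
    have := (ZMod.natCast_eq_natCast_iff _ _ _).mpr hmod
    push_cast at this
    exact this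
  have hUphi : U ^ (Nat.totient (orderOf x)) = 1 := ZMod.pow_totient U
  have hU1 : U = 1 := by
    have := (pow_gcd_eq_one (a := U)).mpr ⟨hUm, hUphi⟩
    rw [hcop.gcd_eq_one, pow_one] at this
    exact this
  have hj1 : j ≡ 1 [MOD orderOf x] := by
    apply (ZMod.natCast_eq_natCast_iff _ _ _).mp
    have := congrArg Units.val hU1
    rw [ZMod.coe_unitOfCoprime, Units.val_one] at this
    push_cast
    exact this
  have hxj : x ^ j = x ^ 1 := pow_eq_pow_iff_modEq.mpr hj1
  rw [pow_one] at hxj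
  show g * x = x * g
  have : g * x * g⁻¹ = x := by rw [← hj, hxj]
  calc g * x = g * x * g⁻¹ * g := by group
    _ = x * g := by rw [this]

end Cfsg.Agent.Lib.Helper67
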