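import Mathlib
import Cfsg.Agent.Lib.Helper67.OgDefs
import Cfsg.Agent.Lib.Helper67.OgFam
import Cfsg.Agent.Lib.Helper37.OrthMinus
import Cfsg.Agent.Lib.Helper43.OrthCardMinus
import Cfsg.Agent.Lib.Helper39.SLPerfect
import Cfsg.Agent.Lib.Helper2.OgLOM
import Cfsg.Agent.Lib.Helper27.OgPERF
import Cfsg.Agent.Lib.Helper39.OgSIDE
import Cfsg.Agent.Lib.Helper40.OgSLGEN
import Cfsg.Agent.Lib.Helper78.OgCOPRIME
import Cfsg.Agent.Lib.Helper78.OgFIN
import Cfsg.Agent.Lib.Helper85.OgSWAP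
import Cfsg.Agent.Lib.Helper99.OgCOMM

/-!
# Og hive: the generation criterion `og_main`, the abstract two-generation theorem
`two_gen_abstract` and the glue `exists_rho_minus_small` (helper67)
-/

set_option autoImplicit false
set_option linter.unusedSectionVars false
set_option linter.unusedVariables false

namespace Cfsg.Agent.Lib.Helper67.Og

open Matrix Module QuadraticMap
open Cfsg.Agent.Lib.Helper37 Cfsg.Agent.Lib.Helper8 Cfsg.Agent.Lib.Helper43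
open Cfsg.Agent.Lib.Helper37.OrthField
open scoped commutatorElement

section abstract

variable {ι : Type} [Fintype ι] [DecidableEq ι] {F : Type*} [Field F]
variable (Q : QuadraticForm F (ι → F)) (hQ : (QuadraticMap.polarBilin Q).Nondegenerate)
variable {k : ℕ} {e f : Fin k → ι → F}
variable {L : Matrix.SpecialLinearGroup (Fin k) F →* ↥(Cfsg.isometryGroup F ⇑Q)}

include hQ in
theorem og_main [Fintype F] (D : LeviData Q k e f L) (hk : 3 ≤ k)
    (hn : 5 ≤ finrank F (ι → F)) (hn2 : (2 : F) = 0 → 7 ≤ finrank F (ι → F))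
    (H : Subgroup ↥(Cfsg.isometryGroup F ⇑Q)) (hLH : ∀ A, L A ∈ H)
    (i0 i2 : Fin k) (h02 : i0 ≠ i2) (T : Set ↥(Cfsg.isometryGroup F ⇑Q))
    (hT : ∀ t ∈ T, t ∈ H ∧ act Q t (e i0) = e i0 ∧ act Q t (f i0) = f i0)
    (hWe : ∀ w, InW Q e f w →
      w ∈ Submodule.span F {y | ∃ t ∈ T, y = Wpart Q e f (act Q t (f i2))})
    (hWf : ∀ w, InW Q e f w →
      w ∈ Submodule.span F {y | ∃ t ∈ T, y = Wpart Q e f (act Q t (e i2))})
    (hLe : (∃ t ∈ T, ∃ j, polar ⇑Q (f j) (act Q t (f i2)) ≠ 0) ∨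
      (∃ w w', InW Q e f w ∧ InW Q e f w' ∧ polar ⇑Q w w' ≠ 0))
    (hLf : (∃ t ∈ T, ∃ j, polar ⇑Q (e j) (act Q t (e i2)) ≠ 0) ∨
      (∃ w w', InW Q e f w ∧ InW Q e f w' ∧ polar ⇑Q w w' ≠ 0)) :
    commutator ↥(Cfsg.isometryGroup F ⇑Q) ≤ H := by
  have hside_e : rootFull Q hQ H (e i0) := side Q hQ D hk H hLH i0 i2 h02 T hT hWe hLe
  obtain ⟨L', D', hL'⟩ := exists_swap Q D
  have hLH' : ∀ A, L' A ∈ H := fun A => by
    obtain ⟨A', h⟩ := hL' A
    rw [h]; exact hLH A'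
  have hside_f : rootFull Q hQ H (f i0) := by
    refine side Q hQ D' hk H hLH' i0 i2 h02 T
      (fun t ht => ⟨(hT t ht).1, (hT t ht).2.2, (hT t ht).2.1⟩) ?_ ?_
    · intro w hw
      have h1 := hWf w (inW_swap Q hw)
      have h2 : {y | ∃ t ∈ T, y = Wpart Q f e (act Q t (e i2))}
          = {y | ∃ t ∈ T, y = Wpart Q e f (act Q t (e i2))} := by
        ext y
        constructor
        · rintro ⟨t, ht, rfl⟩; exact ⟨t, ht, wpart_swap Q _⟩
        · rintro ⟨t, ht, rfl⟩; exact ⟨t, ht, (wpart_swap Q _).symm⟩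
      rw [h2]; exact h1
    · rcases hLf with ⟨t, ht, j, hj⟩ | ⟨w, w', hw, hw', hne⟩
      · exact Or.inl ⟨t, ht, j, hj⟩
      · exact Or.inr ⟨w, w', inW_swap Q hw, inW_swap Q hw', hne⟩
  apply omega_le_of_rootFull Q hQ hn hn2 H
  intro y hy
  refine rootFull_all Q hQ H (e i0) (f i0) (D.fam.qe i0) (D.fam.qf i0) hside_e hside_f ?_ y hy
  rw [D.fam.ef, if_pos rfl]
  exact one_ne_zero

end abstract

section assembly

variable {ι : Type} [Fintype ι] [DecidableEq ι] {F : Type*} [Field F]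

theorem two_gen_abstract [Fintype F] (Q : QuadraticForm F (ι → F))
    (hQ : (QuadraticMap.polarBilin Q).Nondegenerate) {n : ℕ} (hn : 2 ≤ n)
    {e f : Fin (n + 1) → ι → F}
    {L : Matrix.SpecialLinearGroup (Fin (n + 1)) F →* ↥(Cfsg.isometryGroup F ⇑Q)}
    (D : LeviData Q (n + 1) e f L)
    (hdim : 5 ≤ finrank F (ι → F)) (hdim2 : (2 : F) = 0 → 7 ≤ finrank F (ι → F))
    (ρ σ : ↥(Cfsg.isometryGroup F ⇑Q)) (N : ℕ)
    (hρΩ : ρ ∈ commutator ↥(Cfsg.isometryGroup F ⇑Q))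
    (hσΩ : σ ∈ commutator ↥(Cfsg.isometryGroup F ⇑Q))
    (hρN : ρ ^ N = 1)
    (hN : (3 < Fintype.card F → Nat.Coprime (Fintype.card F - 1) N) ∧
      (Fintype.card F ≤ 3 → Nat.Coprime (ringChar F) N))
    (hρfix : ∀ i : Fin (n + 1), i.val < 2 → act Q ρ (e i) = e i ∧ act Q ρ (f i) = f i)
    (hσfix : ∀ i : Fin (n + 1), act Q σ (e i) = e i ∧ act Q σ (f i) = f i)
    (i0 i2 : Fin (n + 1)) (h02 : i0 ≠ i2) (T : Set ↥(Cfsg.isometryGroup F ⇑Q))
    (hT : ∀ t ∈ T, t ∈ Subgroup.closure ({ρ, σ} : Set ↥(Cfsg.isometryGroup F ⇑Q)) ∧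
      act Q t (e i0) = e i0 ∧ act Q t (f i0) = f i0)
    (hWe : ∀ w, InW Q e f w →
      w ∈ Submodule.span F {y | ∃ t ∈ T, y = Wpart Q e f (act Q t (f i2))})
    (hWf : ∀ w, InW Q e f w →
      w ∈ Submodule.span F {y | ∃ t ∈ T, y = Wpart Q e f (act Q t (e i2))})
    (hLe : (∃ t ∈ T, ∃ j, polar ⇑Q (f j) (act Q t (f i2)) ≠ 0) ∨
      (∃ w w', InW Q e f w ∧ InW Q e f w' ∧ polar ⇑Q w w' ≠ 0))
    (hLf : (∃ t ∈ T, ∃ j, polar ⇑Q (e j) (act Q t (e i2)) ≠ 0) ∨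
      (∃ w w', InW Q e f w ∧ InW Q e f w' ∧ polar ⇑Q w w' ≠ 0)) :
    ∃ a b : Cfsg.POmega F ⇑Q, Subgroup.closure ({a, b} : Set (Cfsg.POmega F ⇑Q)) = ⊤ := by
  classical
  obtain ⟨a, b, hab, hbsupp, hbord⟩ := exists_sl_gens (F := F) n hn
  have hk : 3 ≤ n + 1 := by omega
  have hXΩ : L a * σ ∈ commutator ↥(Cfsg.isometryGroup F ⇑Q) :=
    Subgroup.mul_mem _ (levi_mem_omega Q hk a) hσΩ
  have hYΩ : L b * ρ ∈ commutator ↥(Cfsg.isometryGroup F ⇑Q) :=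
    Subgroup.mul_mem _ (levi_mem_omega Q hk b) hρΩ
  apply two_gen_of (⇑Q) (L a * σ) (L b * ρ) hXΩ hYΩ
  have hXH : L a * σ ∈ Subgroup.closure ({L a * σ, L b * ρ} : Set ↥(Cfsg.isometryGroup F ⇑Q)) :=
    Subgroup.subset_closure (by simp)
  have hYH : L b * ρ ∈ Subgroup.closure ({L a * σ, L b * ρ} : Set ↥(Cfsg.isometryGroup F ⇑Q)) :=
    Subgroup.subset_closure (by simp)
  generalize Subgroup.closure ({L a * σ, L b * ρ} : Set ↥(Cfsg.isometryGroup F ⇑Q)) = H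
    at hXH hYH ⊢
  -- `L b` and `ρ` are powers of `Y`
  have hcomm : Commute (L b) ρ :=
    levi_commute Q D b hbsupp ρ (fun i hi => (hρfix i hi).1) (fun i hi => (hρfix i hi).2)
  obtain ⟨M, hbM, hMN⟩ : ∃ M, b ^ M = 1 ∧ Nat.Coprime M N := by
    rcases hbord with ⟨h3, hb⟩ | ⟨h3, hb⟩
    · exact ⟨_, hb, hN.1 h3⟩
    · exact ⟨_, hb, hN.2 h3⟩
  have hLbM : (L b) ^ M = 1 := by rw [← map_pow, hbM, map_one]
  obtain ⟨h1, h2⟩ := mem_zpowers_of_coprime (L b) ρ hcomm M N hLbM hρN hMN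
  have hzp : Subgroup.zpowers (L b * ρ) ≤ H := by
    rw [Subgroup.zpowers_le]; exact hYH
  have hLbH : L b ∈ H := hzp h1
  have hρH : ρ ∈ H := hzp h2
  -- the Levi image lies in `H`
  have hσcomm : ∀ A, Commute σ (L A) := fun A =>
    levi_commute_W Q D σ (fun i => (hσfix i).1) (fun i => (hσfix i).2) A
  have hperf : commutator (Matrix.SpecialLinearGroup (Fin (n + 1)) F) = ⊤ :=
    Cfsg.Agent.Lib.Helper39.SLPerfect.commutator_SL_eq_top (by simp; omega)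
  have hLH : ∀ A, L A ∈ H := le_of_twisted_gens hperf L σ hσcomm a b hab H hXH hLbH
  have hσH : σ ∈ H := by
    have h : σ = (L a)⁻¹ * (L a * σ) := by group
    rw [h]; exact H.mul_mem (H.inv_mem (hLH a)) hXH
  have hTH : ∀ t ∈ T, t ∈ H ∧ act Q t (e i0) = e i0 ∧ act Q t (f i0) = f i0 := fun t ht =>
    ⟨(Subgroup.closure_le H).2 (by
        rintro x hx
        rcases hx with rfl | rfl
        · exact hρH
        · exact hσH) (hT t ht).1, (hT t ht).2⟩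
  exact og_main Q hQ D hk hdim hdim2 H hLH i0 i2 h02 T hTH hWe hWf hLe hLf

end assembly

end Cfsg.Agent.Lib.Helper67.Og
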