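import Mathlib
import Cfsg.Agent.Lib.Helper67.OgMain

/-!
# Og hive: common arithmetic for the assemblies (helper67)
-/

set_option autoImplicit false
set_option linter.unusedSectionVars false
set_option linter.unusedVariables false

namespace Cfsg.Agent.Lib.Helper67.Og

open Matrix Module QuadraticMap
open Cfsg.Agent.Lib.Helper37 Cfsg.Agent.Lib.Helper8 Cfsg.Agent.Lib.Helper43
open Cfsg.Agent.Lib.Helper37.OrthField
open scoped commutatorElement

theorem asm_coprime_card_sub_one (F : Type*) [Field F] [Fintype F] :
    Nat.Coprime (Fintype.card F - 1) (ringChar F) := by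
  haveI : Fact (ringChar F).Prime := ⟨CharP.char_is_prime F (ringChar F)⟩
  have hp : (ringChar F).Prime := Fact.out
  rw [Nat.coprime_comm, Nat.Prime.coprime_iff_not_dvd hp]
  intro hdvd
  obtain ⟨r, hr⟩ := FiniteField.card F (ringChar F)
  have h1 : ringChar F ∣ Fintype.card F := by
    rw [hr.2]
    exact dvd_pow_self _ (by exact_mod_cast r.ne_zero)
  have hpos : 0 < Fintype.card F := Fintype.card_pos
  have h2 : ringChar F ∣ 1 := by
    have := Nat.dvd_sub h1 hdvd
    rwa [show Fintype.card F - (Fintype.card F - 1) = 1 by omega] at this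
  exact hp.one_lt.ne' (Nat.dvd_one.mp h2)

theorem asm_ringChar_of_card_prime (F : Type*) [Field F] [Fintype F] (p : ℕ) (hp : p.Prime)
    (hF : Fintype.card F = p) : ringChar F = p := by
  haveI : Fact (ringChar F).Prime := ⟨CharP.char_is_prime F (ringChar F)⟩
  obtain ⟨r, hr⟩ := FiniteField.card F (ringChar F)
  rw [hF] at hr
  have h := hr.2
  have hq : (ringChar F).Prime := Fact.out
  have hdvd : ringChar F ∣ p := by
    rw [h]; exact dvd_pow_self _ (by exact_mod_cast r.ne_zero)
  exact ((Nat.prime_dvd_prime_iff_eq hq hp).mp hdvd)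

theorem asm_card_two_or_three (F : Type*) [Field F] [Fintype F] (hF : Fintype.card F ≤ 3) :
    Fintype.card F = 2 ∨ Fintype.card F = 3 := by
  have h1 : 1 < Fintype.card F := Fintype.one_lt_card
  omega


end Cfsg.Agent.Lib.Helper67.Og
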