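import Mathlib
import Cfsg.Agent.Lib.Helper67.OgAsmC
import Cfsg.Agent.Lib.Helper2.OgMLEVI
import Cfsg.Agent.Lib.Helper25.OgMRHO2
import Cfsg.Agent.Lib.Helper38.OgMSIGMA
import Cfsg.Agent.Lib.Helper61.OgRHOU
import Cfsg.Agent.Lib.Helper61.OgW
import Cfsg.Agent.Lib.Helper82.OgDEC
import Cfsg.Agent.Lib.Helper86.OgMRHO3

/-!
# Og hive: assembly `two_gen_minus` (helper67)
-/

set_option autoImplicit false
set_option linter.unusedSectionVars false
set_option linter.unusedVariables false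

namespace Cfsg.Agent.Lib.Helper67.Og

open Matrix Module QuadraticMap
open Cfsg.Agent.Lib.Helper37 Cfsg.Agent.Lib.Helper8 Cfsg.Agent.Lib.Helper43
open Cfsg.Agent.Lib.Helper37.OrthField
open scoped commutatorElement

theorem exists_rho_minus_small (F : Type*) [Field F] [Fintype F] (hF : Fintype.card F ≤ 3)
    (m : ℕ) (hm : 3 ≤ m) (a b : F)
    (hab : ∀ z₁ z₂ : F, z₁ ^ 2 + a * z₁ * z₂ + b * z₂ ^ 2 = 0 → z₁ = 0 ∧ z₂ = 0)
    (i2 : Fin m) :
    ∃ (ρ : ↥(Cfsg.isometryGroup F ⇑(minusForm m F a b))) (N : ℕ),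
      ρ ∈ commutator ↥(Cfsg.isometryGroup F ⇑(minusForm m F a b)) ∧ ρ ^ N = 1 ∧
      Nat.Coprime (ringChar F) N ∧
      (∀ i, i ≠ i2 → act (minusForm m F a b) ρ (eM F m i) = eM F m i ∧
        act (minusForm m F a b) ρ (fM F m i) = fM F m i) ∧
      (∀ w, InW (minusForm m F a b) (eM F m) (fM F m) w →
        w ∈ Submodule.span F {y | ∃ i : ℕ, y = Wpart (minusForm m F a b) (eM F m) (fM F m)
          (act (minusForm m F a b) (ρ ^ i) (fM F m i2))}) ∧
      (∀ w, InW (minusForm m F a b) (eM F m) (fM F m) w →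
        w ∈ Submodule.span F {y | ∃ i : ℕ, y = Wpart (minusForm m F a b) (eM F m) (fM F m)
          (act (minusForm m F a b) (ρ ^ i) (eM F m i2))}) := by
  rcases asm_card_two_or_three F hF with h | h
  · exact exists_rho_minus_two F h m hm a b hab i2
  · exact exists_rho_minus_three F h m hm a b hab i2

theorem asm_act_pow_fix {ι : Type} [Fintype ι] [DecidableEq ι] {F : Type*} [Field F]
    (Q : QuadraticForm F (ι → F)) (g : ↥(Cfsg.isometryGroup F ⇑Q)) (x : ι → F)
    (h : act Q g x = x) (i : ℕ) : act Q (g ^ i) x = x := by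
  induction i with
  | zero => rw [pow_zero, act_one]
  | succ i ih => rw [pow_succ, act_mul, h, ih]

theorem two_gen_minus (F : Type*) [Field F] [Fintype F] (m : ℕ) (hm : 3 ≤ m) (a b : F)
    (hab : ∀ z₁ z₂ : F, z₁ ^ 2 + a * z₁ * z₂ + b * z₂ ^ 2 = 0 → z₁ = 0 ∧ z₂ = 0) :
    ∃ g h : Cfsg.POmega F ⇑(minusForm m F a b),
      Subgroup.closure ({g, h} : Set (Cfsg.POmega F ⇑(minusForm m F a b))) = ⊤ := by
  classical
  obtain ⟨n, rfl⟩ : ∃ n, m = n + 1 := ⟨m - 1, by omega⟩
  obtain ⟨L, D⟩ := exists_levi_minus F (n + 1) a b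
  have hQ : (QuadraticMap.polarBilin (minusForm (n + 1) F a b)).Nondegenerate :=
    (minus_family (n + 1) F a b).nondegenerate (minusForm_zero_nondegenerate F a b hab)
  set i0 : Fin (n + 1) := ⟨0, by omega⟩ with hi0
  set i2 : Fin (n + 1) := ⟨2, by omega⟩ with hi2
  have h02 : i0 ≠ i2 := by
    intro h; have := congrArg Fin.val h; simp [hi0, hi2] at this
  have hlt2 : ∀ i : Fin (n + 1), i.val < 2 → i ≠ i2 := by
    intro i hi h; rw [h, hi2] at hi; simp at hi
  have hdim : finrank F ((Fin (n + 1) ⊕ Fin (n + 1)) ⊕ Fin 2 → F) = 2 * (n + 1) + 2 := by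
    rw [Module.finrank_fintype_fun_eq_card, Fintype.card_sum, Fintype.card_sum, Fintype.card_fin,
      Fintype.card_fin]; ring
  have hpol := exists_polar_ne_minus F (n + 1) a b hab
  by_cases h3 : 3 < Fintype.card F
  · -- unipotent `ρ` and the rotation `σ`
    obtain ⟨ρ, hρΩ, hρN, hρfix, hce, hcf⟩ := exists_rho_minus_unip F h3 (n + 1) hm a b hab i2
    obtain ⟨σ, hσΩ, hσfix, hσeig⟩ := exists_sigma_minus F h3 (n + 1) hm a b hab
    have hσe : ∀ i, act (minusForm (n + 1) F a b) σ (eM F (n + 1) i) = eM F (n + 1) i :=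
      fun i => (hσfix i).1
    have hσf : ∀ i, act (minusForm (n + 1) F a b) σ (fM F (n + 1) i) = fM F (n + 1) i :=
      fun i => (hσfix i).2
    -- the key span statement
    have hspan : ∀ x : (Fin (n + 1) ⊕ Fin (n + 1)) ⊕ Fin 2 → F,
        Wpart (minusForm (n + 1) F a b) (eM F (n + 1)) (fM F (n + 1))
          (act (minusForm (n + 1) F a b) ρ x) ≠ 0 →
        ∀ w, InW (minusForm (n + 1) F a b) (eM F (n + 1)) (fM F (n + 1)) w →
          w ∈ Submodule.span F {y | ∃ t ∈ ({ρ, σ * ρ} : Set _),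
            y = Wpart (minusForm (n + 1) F a b) (eM F (n + 1)) (fM F (n + 1))
              (act (minusForm (n + 1) F a b) t x)} := by
      intro x hx w hw
      set v1 := Wpart (minusForm (n + 1) F a b) (eM F (n + 1)) (fM F (n + 1))
        (act (minusForm (n + 1) F a b) ρ x) with hv1
      have hv1W : InW (minusForm (n + 1) F a b) (eM F (n + 1)) (fM F (n + 1)) v1 :=
        wpart_inW _ D.fam _
      have hv2 : Wpart (minusForm (n + 1) F a b) (eM F (n + 1)) (fM F (n + 1))
          (act (minusForm (n + 1) F a b) (σ * ρ) x) = act (minusForm (n + 1) F a b) σ v1 := by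
        rw [act_mul, wpart_act _ D.fam σ hσe hσf]
      have hv2W : InW (minusForm (n + 1) F a b) (eM F (n + 1)) (fM F (n + 1))
          (act (minusForm (n + 1) F a b) σ v1) := by
        rw [← hv2]; exact wpart_inW _ D.fam _
      have h := span_minus F (n + 1) a b v1 (act (minusForm (n + 1) F a b) σ v1) hv1W hv2W hx
        (hσeig v1 hv1W hx) w hw
      refine Submodule.span_mono ?_ h
      rintro y hy
      rcases hy with rfl | hy
      · exact ⟨ρ, by simp, rfl⟩
      · rw [Set.mem_singleton_iff] at hy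
        exact ⟨σ * ρ, by simp, by rw [hy, hv2]⟩
    refine two_gen_abstract (minusForm (n + 1) F a b) hQ (by omega) D (by rw [hdim]; omega)
      (fun _ => by rw [hdim]; omega) ρ σ (ringChar F) hρΩ hσΩ hρN
      ⟨fun _ => asm_coprime_card_sub_one F, fun h => by omega⟩ (fun i hi => hρfix i (hlt2 i hi))
      hσfix i0 i2 h02 {ρ, σ * ρ} ?_ (hspan _ hce) (hspan _ hcf) (Or.inr hpol) (Or.inr hpol)
    intro t ht
    rcases ht with rfl | ht
    · exact ⟨Subgroup.subset_closure (by simp), hρfix i0 h02⟩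
    · rw [Set.mem_singleton_iff] at ht
      subst ht
      refine ⟨Subgroup.mul_mem _ (Subgroup.subset_closure (by simp))
        (Subgroup.subset_closure (by simp)), ?_, ?_⟩
      · rw [act_mul, (hρfix i0 h02).1, hσe]
      · rw [act_mul, (hρfix i0 h02).2, hσf]
  · -- small fields: `T` = the powers of `ρ`
    obtain ⟨ρ, N, hρΩ, hρN, hN, hρfix, hWe, hWf⟩ :=
      exists_rho_minus_small F (by omega) (n + 1) hm a b hab i2
    have hconv : ∀ x : (Fin (n + 1) ⊕ Fin (n + 1)) ⊕ Fin 2 → F,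
        {y | ∃ i : ℕ, y = Wpart (minusForm (n + 1) F a b) (eM F (n + 1)) (fM F (n + 1))
          (act (minusForm (n + 1) F a b) (ρ ^ i) x)}
        = {y | ∃ t ∈ Set.range (fun i : ℕ => ρ ^ i),
            y = Wpart (minusForm (n + 1) F a b) (eM F (n + 1)) (fM F (n + 1))
              (act (minusForm (n + 1) F a b) t x)} := by
      intro x
      ext y
      constructor
      · rintro ⟨i, rfl⟩; exact ⟨ρ ^ i, ⟨i, rfl⟩, rfl⟩
      · rintro ⟨t, ⟨i, rfl⟩, rfl⟩; exact ⟨i, rfl⟩
    refine two_gen_abstract (minusForm (n + 1) F a b) hQ (by omega) D (by rw [hdim]; omega)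
      (fun _ => by rw [hdim]; omega) ρ 1 N hρΩ (Subgroup.one_mem _) hρN
      ⟨fun h => absurd h h3, fun _ => hN⟩ (fun i hi => hρfix i (hlt2 i hi))
      (fun i => ⟨act_one _ _, act_one _ _⟩) i0 i2 h02 (Set.range (fun i : ℕ => ρ ^ i)) ?_ ?_ ?_
      (Or.inr hpol) (Or.inr hpol)
    · rintro t ⟨i, rfl⟩
      exact ⟨Subgroup.pow_mem _ (Subgroup.subset_closure (by simp)) i,
        asm_act_pow_fix _ ρ _ (hρfix i0 h02).1 i, asm_act_pow_fix _ ρ _ (hρfix i0 h02).2 i⟩
    · intro w hw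
      rw [← hconv]; exact hWe w hw
    · intro w hw
      rw [← hconv]; exact hWf w hw


end Cfsg.Agent.Lib.Helper67.Og
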