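import Mathlib
import Cfsg.Agent.Lib.Helper67.OgAsmC
import Cfsg.Agent.Lib.Helper3.OgORHO3
import Cfsg.Agent.Lib.Helper61.OgRHOU
import Cfsg.Agent.Lib.Helper61.OgW
import Cfsg.Agent.Lib.Helper80.OgOLEVI
import Cfsg.Agent.Lib.Helper82.OgDEC

/-!
# Og hive: assembly `two_gen_odd` (helper67)
-/

set_option autoImplicit false
set_option linter.unusedSectionVars false
set_option linter.unusedVariables false

namespace Cfsg.Agent.Lib.Helper67.Og

open Matrix Module QuadraticMap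
open Cfsg.Agent.Lib.Helper37 Cfsg.Agent.Lib.Helper8 Cfsg.Agent.Lib.Helper43
open Cfsg.Agent.Lib.Helper37.OrthField
open scoped commutatorElement

/-- a uniform choice of `ρ` for the odd type -/
theorem asm_rho_odd (F : Type*) [Field F] [Fintype F] (hodd : Odd (Fintype.card F)) (m : ℕ)
    (hm : 3 ≤ m) (i2 : Fin m) :
    ∃ (ρ : ↥(Cfsg.isometryGroup F ⇑(oddForm m F))) (N : ℕ),
      ρ ∈ commutator ↥(Cfsg.isometryGroup F ⇑(oddForm m F)) ∧ ρ ^ N = 1 ∧
      ((3 < Fintype.card F → Nat.Coprime (Fintype.card F - 1) N) ∧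
        (Fintype.card F ≤ 3 → Nat.Coprime (ringChar F) N)) ∧
      (∀ i, i ≠ i2 → act (oddForm m F) ρ (eO F m i) = eO F m i ∧
        act (oddForm m F) ρ (fO F m i) = fO F m i) ∧
      Wpart (oddForm m F) (eO F m) (fO F m) (act (oddForm m F) ρ (fO F m i2)) ≠ 0 ∧
      Wpart (oddForm m F) (eO F m) (fO F m) (act (oddForm m F) ρ (eO F m i2)) ≠ 0 := by
  have h2 : (2 : F) ≠ 0 := by
    intro h
    have hev : Even (Fintype.card F) := two_eq_zero_iff_even_card.mp h
    exact (Nat.not_even_iff_odd.mpr hodd) hev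
  by_cases h3 : 3 < Fintype.card F
  · obtain ⟨ρ, h1, h4, h5, h6, h7⟩ := exists_rho_odd_unip F h2 h3 m hm i2
    exact ⟨ρ, ringChar F, h1, h4, ⟨fun _ => asm_coprime_card_sub_one F, fun h => by omega⟩,
      h5, h6, h7⟩
  · have hc : Fintype.card F = 3 := by
      rcases asm_card_two_or_three F (by omega) with h | h
      · exfalso; rw [h] at hodd; exact absurd hodd (by decide)
      · exact h
    obtain ⟨ρ, h1, h4, h5, h6, h7⟩ := exists_rho_odd_three F hc m hm i2
    refine ⟨ρ, 2, h1, h4, ⟨fun h' => by omega, fun _ => ?_⟩, h5, h6, h7⟩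
    rw [asm_ringChar_of_card_prime F 3 Nat.prime_three hc]; decide

theorem two_gen_odd (F : Type*) [Field F] [Fintype F] (hodd : Odd (Fintype.card F)) (m : ℕ)
    (hm : 3 ≤ m) :
    ∃ a b : Cfsg.POmega F ⇑(oddForm m F),
      Subgroup.closure ({a, b} : Set (Cfsg.POmega F ⇑(oddForm m F))) = ⊤ := by
  classical
  obtain ⟨n, rfl⟩ : ∃ n, m = n + 1 := ⟨m - 1, by omega⟩
  have h2 : (2 : F) ≠ 0 := by
    intro h
    have hev : Even (Fintype.card F) := two_eq_zero_iff_even_card.mp h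
    exact (Nat.not_even_iff_odd.mpr hodd) hev
  obtain ⟨L, D⟩ := exists_levi_odd F (n + 1)
  have hQ : (QuadraticMap.polarBilin (oddForm (n + 1) F)).Nondegenerate :=
    (odd_family (n + 1) F).nondegenerate (sq_nondegenerate F h2)
  set i0 : Fin (n + 1) := ⟨0, by omega⟩ with hi0
  set i2 : Fin (n + 1) := ⟨2, by omega⟩ with hi2
  have h02 : i0 ≠ i2 := by
    intro h; have := congrArg Fin.val h; simp [hi0, hi2] at this
  obtain ⟨ρ, N, hρΩ, hρN, hN, hρfix, hce, hcf⟩ := asm_rho_odd F hodd (n + 1) hm i2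
  have hdim : finrank F (Unit ⊕ (Fin (n + 1) ⊕ Fin (n + 1)) → F) = 2 * (n + 1) + 1 := by
    rw [Module.finrank_fintype_fun_eq_card, Fintype.card_sum, Fintype.card_sum, Fintype.card_fin,
      Fintype.card_unit]; ring
  have hpol := exists_polar_ne_odd F h2 (n + 1)
  -- a nonzero vector of `W` spans `W`
  have hspan : ∀ v : Unit ⊕ (Fin (n + 1) ⊕ Fin (n + 1)) → F,
      InW (oddForm (n + 1) F) (eO F (n + 1)) (fO F (n + 1)) v → v ≠ 0 →
      ∀ w, InW (oddForm (n + 1) F) (eO F (n + 1)) (fO F (n + 1)) w →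
        w ∈ Submodule.span F ({v} : Set (Unit ⊕ (Fin (n + 1) ⊕ Fin (n + 1)) → F)) := by
    intro v hv hv0 w hw
    have hv' := (inW_odd_iff F (n + 1) v).mp hv
    have hw' := (inW_odd_iff F (n + 1) w).mp hw
    have hc : v (Sum.inl ()) ≠ 0 := by
      intro h0
      apply hv0
      rw [hv', h0, zero_smul]
    rw [Submodule.mem_span_singleton]
    refine ⟨w (Sum.inl ()) / v (Sum.inl ()), ?_⟩
    calc (w (Sum.inl ()) / v (Sum.inl ())) • v
        = (w (Sum.inl ()) / v (Sum.inl ())) •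
            (v (Sum.inl ()) • (Pi.single (Sum.inl ()) 1 : Unit ⊕ (Fin (n + 1) ⊕ Fin (n + 1)) → F)) := by
          rw [← hv']
      _ = w (Sum.inl ()) • (Pi.single (Sum.inl ()) 1 : Unit ⊕ (Fin (n + 1) ⊕ Fin (n + 1)) → F) := by
          rw [smul_smul, div_mul_cancel₀ _ hc]
      _ = w := hw'.symm
  refine two_gen_abstract (oddForm (n + 1) F) hQ (by omega) D (by rw [hdim]; omega)
    (fun h => absurd h h2) ρ 1 N hρΩ (Subgroup.one_mem _) hρN hN ?_ ?_ i0 i2 h02 {ρ}
    ?_ ?_ ?_ (Or.inr hpol) (Or.inr hpol)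
  · intro i hi
    refine hρfix i ?_
    intro h; rw [h, hi2] at hi; simp at hi
  · intro i
    exact ⟨act_one _ _, act_one _ _⟩
  · intro t ht
    rw [Set.mem_singleton_iff] at ht
    subst ht
    exact ⟨Subgroup.subset_closure (by simp), hρfix i0 h02⟩
  · intro w hw
    have h := hspan _ (wpart_inW (oddForm (n + 1) F) D.fam _) hce w hw
    refine Submodule.span_mono ?_ h
    rintro y hy
    rw [Set.mem_singleton_iff] at hy
    exact ⟨ρ, rfl, hy⟩
  · intro w hw
    have h := hspan _ (wpart_inW (oddForm (n + 1) F) D.fam _) hcf w hw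
    refine Submodule.span_mono ?_ h
    rintro y hy
    rw [Set.mem_singleton_iff] at hy
    exact ⟨ρ, rfl, hy⟩



end Cfsg.Agent.Lib.Helper67.Og
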