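import Mathlib
import Cfsg.Agent.Lib.Helper67.OgAsmC
import Cfsg.Agent.Lib.Helper2.OgPRHO2
import Cfsg.Agent.Lib.Helper43.OgPLEVI
import Cfsg.Agent.Lib.Helper53.OgPRHO3
import Cfsg.Agent.Lib.Helper61.OgW
import Cfsg.Agent.Lib.Helper69.OgPRHOU

/-!
# Og hive: assembly `two_gen_plus` (helper67)
-/

set_option autoImplicit false
set_option linter.unusedSectionVars false
set_option linter.unusedVariables false

namespace Cfsg.Agent.Lib.Helper67.Og

open Matrix Module QuadraticMap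
open Cfsg.Agent.Lib.Helper37 Cfsg.Agent.Lib.Helper8 Cfsg.Agent.Lib.Helper43
open Cfsg.Agent.Lib.Helper37.OrthField
open scoped commutatorElement

/-- a uniform choice of `ρ` for the plus type -/
theorem asm_rho_plus (F : Type*) [Field F] [Fintype F] (m : ℕ) (hm : 4 ≤ m) (i2 i3 : Fin m)
    (h23 : i2 ≠ i3) :
    ∃ (ρ : ↥(Cfsg.isometryGroup F ⇑(plusForm m F))) (N : ℕ),
      ρ ∈ commutator ↥(Cfsg.isometryGroup F ⇑(plusForm m F)) ∧ ρ ^ N = 1 ∧
      ((3 < Fintype.card F → Nat.Coprime (Fintype.card F - 1) N) ∧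
        (Fintype.card F ≤ 3 → Nat.Coprime (ringChar F) N)) ∧
      (∀ i, i ≠ i2 → i ≠ i3 → act (plusForm m F) ρ (eP F m i) = eP F m i ∧
        act (plusForm m F) ρ (fP F m i) = fP F m i) ∧
      (∃ j, polar ⇑(plusForm m F) (fP F m j) (act (plusForm m F) ρ (fP F m i2)) ≠ 0) ∧
      (∃ j, polar ⇑(plusForm m F) (eP F m j) (act (plusForm m F) ρ (eP F m i2)) ≠ 0) := by
  by_cases h3 : 3 < Fintype.card F
  · obtain ⟨ρ, h1, h2, h4, h5, h6⟩ := exists_rho_plus_unip F m hm i2 i3 h23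
    exact ⟨ρ, ringChar F, h1, h2, ⟨fun _ => asm_coprime_card_sub_one F, fun h => by omega⟩,
      h4, h5, h6⟩
  · rcases asm_card_two_or_three F (by omega) with h | h
    · obtain ⟨ρ, h1, h2, h4, h5, h6⟩ := exists_rho_plus_two F h m hm i2 i3 h23
      refine ⟨ρ, 3, h1, h2, ⟨fun h' => by omega, fun _ => ?_⟩, h4, h5, h6⟩
      rw [asm_ringChar_of_card_prime F 2 Nat.prime_two h]; decide
    · obtain ⟨ρ, h1, h2, h4, h5, h6⟩ := exists_rho_plus_three F h m hm i2 i3 h23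
      refine ⟨ρ, 4, h1, h2, ⟨fun h' => by omega, fun _ => ?_⟩, h4, h5, h6⟩
      rw [asm_ringChar_of_card_prime F 3 Nat.prime_three h]; decide

theorem two_gen_plus (F : Type*) [Field F] [Fintype F] (m : ℕ) (hm : 4 ≤ m) :
    ∃ a b : Cfsg.POmega F ⇑(plusForm m F),
      Subgroup.closure ({a, b} : Set (Cfsg.POmega F ⇑(plusForm m F))) = ⊤ := by
  classical
  obtain ⟨n, rfl⟩ : ∃ n, m = n + 1 := ⟨m - 1, by omega⟩
  obtain ⟨L, D⟩ := exists_levi_plus F (n + 1)
  have hQ := plusForm_nondegenerate (n + 1) F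
  set i0 : Fin (n + 1) := ⟨0, by omega⟩ with hi0
  set i2 : Fin (n + 1) := ⟨2, by omega⟩ with hi2
  set i3 : Fin (n + 1) := ⟨3, by omega⟩ with hi3
  have h23 : i2 ≠ i3 := by
    intro h; have := congrArg Fin.val h; simp [hi2, hi3] at this
  have h02 : i0 ≠ i2 := by
    intro h; have := congrArg Fin.val h; simp [hi0, hi2] at this
  have h03 : i0 ≠ i3 := by
    intro h; have := congrArg Fin.val h; simp [hi0, hi3] at this
  obtain ⟨ρ, N, hρΩ, hρN, hN, hρfix, hce, hcf⟩ := asm_rho_plus F (n + 1) hm i2 i3 h23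
  have hdim : finrank F (Fin (n + 1) ⊕ Fin (n + 1) → F) = 2 * (n + 1) := by
    rw [Module.finrank_fintype_fun_eq_card, Fintype.card_sum, Fintype.card_fin]; ring
  refine two_gen_abstract (plusForm (n + 1) F) hQ (by omega) D (by rw [hdim]; omega)
    (fun _ => by rw [hdim]; omega) ρ 1 N hρΩ (Subgroup.one_mem _) hρN hN ?_ ?_ i0 i2 h02 {ρ}
    ?_ ?_ ?_ ?_ ?_
  · intro i hi
    refine hρfix i ?_ ?_
    · intro h; rw [h, hi2] at hi; simp at hi
    · intro h; rw [h, hi3] at hi; simp at hi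
  · intro i
    exact ⟨act_one _ _, act_one _ _⟩
  · intro t ht
    rw [Set.mem_singleton_iff] at ht
    subst ht
    exact ⟨Subgroup.subset_closure (by simp), hρfix i0 h02 h03⟩
  · intro w hw
    rw [inW_plus F (n + 1) w hw]
    exact Submodule.zero_mem _
  · intro w hw
    rw [inW_plus F (n + 1) w hw]
    exact Submodule.zero_mem _
  · obtain ⟨j, hj⟩ := hce
    exact Or.inl ⟨ρ, rfl, j, hj⟩
  · obtain ⟨j, hj⟩ := hcf
    exact Or.inl ⟨ρ, rfl, j, hj⟩



end Cfsg.Agent.Lib.Helper67.Og
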