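import Mathlib
import Cfsg.Agent.Lib.Helper67.LiftZJ
import Cfsg.Agent.Lib.Helper33.FusStable
import Cfsg.Agent.Lib.Helper85.Saturated
import Cfsg.Agent.Lib.Helper88.NormalTransport
import Cfsg.Agent.S5088

set_option autoImplicit false
set_option linter.unusedSectionVars false
set_option linter.unusedVariables false

/-!
# Normalizer-`p`-stable groups have constrained fusion systems (`p` odd)
-/

namespace Cfsg.Agent.Lib.Helper67.PStabConstr

open Cfsg Subgroup
open scoped commutatorElement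
open Cfsg.Agent.Lib.Helper85 (cj SylIn)

universe u

variable {G : Type u} [Group G]

theorem mem_normalizer_of_map_cj_le [Finite G] {H : Subgroup G} {m : G}
    (h : H.map (cj m) ≤ H) : m ∈ normalizer (H : Set G) := by
  have heq : H.map (cj m) = H := by
    apply Subgroup.eq_of_le_of_card_ge h
    rw [Cfsg.Agent.Lib.Helper85.card_map_cj]
  rw [Subgroup.mem_normalizer_iff]
  intro x
  constructor
  · intro hx
    rw [← heq]
    exact ⟨x, hx, rfl⟩
  · intro hx
    rw [← heq] at hx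
    obtain ⟨t, ht, hte⟩ := hx
    have : t = x := by
      have h1 : m * t * m⁻¹ = m * x * m⁻¹ := hte
      exact mul_left_cancel (mul_right_cancel h1)
    rw [← this]
    exact ht

theorem mem_normalizer_of_forall {H : Subgroup G} {s : G}
    (h1 : ∀ r ∈ H, s * r * s⁻¹ ∈ H) (h2 : ∀ r ∈ H, s⁻¹ * r * s ∈ H) :
    s ∈ normalizer (H : Set G) := by
  rw [Subgroup.mem_normalizer_iff]
  intro x
  constructor
  · exact h1 x
  · intro hx
    have := h2 _ hx
    have e : s⁻¹ * (s * x * s⁻¹) * s = x := by group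
    rwa [e] at this

/-- a strongly closed criterion for the fusion system of a group -/
theorem stronglyClosed_of_conj (P W : Subgroup G) (hWP : W ≤ P)
    (h : ∀ w ∈ W, ∀ g : G, g * w * g⁻¹ ∈ P → g * w * g⁻¹ ∈ W) :
    (groupFusionSystem P).StronglyClosed W := by
  refine ⟨hWP, fun R' hR' φ hφ x => ?_⟩
  obtain ⟨-, hφP, g, hg⟩ := hφ
  have := hφP x
  rw [hg] at this ⊢
  exact h _ (hR' x.2) g this

/-- a subgroup normal in the fusion system of the group is normalized by `P` -/
theorem le_normalizer_of_isNormal (P R : Subgroup G)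
    (hN : (groupFusionSystem P).IsNormal R) : P ≤ normalizer (R : Set G) := by
  have hsc := Cfsg.Agent.Lib.Helper87.stronglyClosed_of_isNormal _ hN
  have key : ∀ s ∈ P, ∀ r ∈ R, s * r * s⁻¹ ∈ R := by
    intro s hs r hr
    have hφ : conjHom R s ∈ (groupFusionSystem P).Hom R :=
      (groupFusionSystem P).conj_mem hsc.1 hs
    exact hsc.2 R le_rfl _ hφ ⟨r, hr⟩
  intro s hs
  apply mem_normalizer_of_forall (key s hs)
  intro r hr
  have := key s⁻¹ (P.inv_mem hs) r hr
  rwa [inv_inv] at this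

/-- the normalizer of a subgroup normal in the fusion system controls fusion of elements -/
theorem controls_of_isNormal (P R : Subgroup G) (hN : (groupFusionSystem P).IsNormal R)
    {a g : G} (ha : a ∈ P) (hag : g * a * g⁻¹ ∈ P) :
    ∃ x ∈ normalizer (R : Set G), g * a * g⁻¹ = x * a * x⁻¹ := by
  obtain ⟨hRP, hext⟩ := hN
  have hle : zpowers a ≤ P := (Subgroup.zpowers_le).mpr ha
  have hφ : conjHom (zpowers a) g ∈ (groupFusionSystem P).Hom (zpowers a) := by
    refine ⟨hle, ?_, g, fun x => rfl⟩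
    rintro ⟨x, hx⟩
    obtain ⟨k, rfl⟩ := Subgroup.mem_zpowers_iff.mp hx
    change g * a ^ k * g⁻¹ ∈ P
    have : g * a ^ k * g⁻¹ = (g * a * g⁻¹) ^ k := by rw [conj_zpow]
    rw [this]
    exact P.zpow_mem hag k
  obtain ⟨ψ, hψ, hψ1, hψ2⟩ := hext _ _ hφ
  obtain ⟨-, -, x, hx⟩ := hψ
  refine ⟨x, ?_, ?_⟩
  · rw [Subgroup.mem_normalizer_iff]
    intro h
    constructor
    · intro hh
      have h1 : ψ ⟨h, (le_sup_right : R ≤ zpowers a ⊔ R) hh⟩ ∈
          (R.subgroupOf (zpowers a ⊔ R)).map ψ := ⟨_, Subgroup.mem_subgroupOf.mpr hh, rfl⟩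
      rw [hψ2, hx] at h1
      exact h1
    · intro hh
      have h1 : x * h * x⁻¹ ∈ (R.subgroupOf (zpowers a ⊔ R)).map ψ := by
        rw [hψ2]; exact hh
      obtain ⟨r, hr, hre⟩ := h1
      rw [hx] at hre
      have : (r : G) = h := mul_left_cancel (mul_right_cancel hre)
      rw [← this]
      exact Subgroup.mem_subgroupOf.mp hr
  · have := hψ1 ⟨a, Subgroup.mem_zpowers a⟩
    rw [hx] at this
    exact this.symm

variable [Finite G] {p : ℕ} [Fact p.Prime]

/-- **Key step**: in a normalizer-`p`-stable group (`p` odd), a subgroup `R` normal in the fusion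
system that does not contain its centralizer in `P` is not the largest such subgroup. -/
theorem exists_normal_not_le (hp2 : p ≠ 2) (hst : IsNormalizerPStable p G) (P : Sylow p G)
    (R : Subgroup G) (hN : (groupFusionSystem (P : Subgroup G)).IsNormal R)
    (hnc : ¬ (P : Subgroup G) ⊓ centralizer (R : Set G) ≤ R) :
    ∃ W : Subgroup G, (groupFusionSystem (P : Subgroup G)).IsNormal W ∧ ¬ W ≤ R := by
  classical
  have hRP : R ≤ P := hN.1
  have hPN : (P : Subgroup G) ≤ normalizer (R : Set G) := le_normalizer_of_isNormal _ _ hN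
  obtain ⟨C, hC⟩ : ∃ C : Subgroup G, C = centralizer (R : Set G) := ⟨_, rfl⟩
  have hNC : normalizer (R : Set G) ≤ normalizer (C : Set G) := by
    rw [hC]; exact Cfsg.Agent.Lib.Helper85.normalizer_le_normalizer_centralizer _
  have hCN : C ≤ normalizer (R : Set G) := by
    rw [hC]; exact Subgroup.centralizer_le_normalizer _
  have hcomm : ∀ c ∈ C, ∀ r ∈ R, r * c = c * r := by
    intro c hc r hr
    rw [hC, Subgroup.mem_centralizer_iff] at hc
    exact hc r hr
  obtain ⟨Zc, hZc⟩ : ∃ Zc : Subgroup ↥C, Zc = R.subgroupOf C := ⟨_, rfl⟩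
  have hmemZc : ∀ z : ↥C, z ∈ Zc ↔ (z : G) ∈ R := by
    intro z; rw [hZc, Subgroup.mem_subgroupOf]
  have hZcen : ∀ z ∈ Zc, ∀ c : ↥C, z * c = c * z := by
    intro z hz c
    apply Subtype.ext
    exact hcomm c c.2 z ((hmemZc z).mp hz)
  have hZn : Zc.Normal := by
    constructor
    intro z hz c
    have : c * z * c⁻¹ = z := by rw [← hZcen z hz c]; group
    rw [this]; exact hz
  have hZp : IsPGroup p Zc := by
    rw [hZc]
    exact (P.isPGroup'.to_le hRP).comap_of_injective C.subtype C.subtype_injective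
  have hstC : IsNormalizerPStable p ↥C :=
    Cfsg.Agent.Lib.Helper11.isNormalizerPStable_subgroup C hst
  have hstD : IsNormalizerPStable p (↥C ⧸ Zc) :=
    Cfsg.Agent.Lib.Helper33.isNormalizerPStable_quot hp2 hstC Zc hZp (fun b _ => by
      rw [Subgroup.mem_centralizer_iff]
      intro z hz
      exact hZcen z hz b)
  -- the Sylow subgroup
  obtain ⟨T, hT⟩ : ∃ T : Subgroup G, T = (P : Subgroup G) ⊓ C := ⟨_, rfl⟩
  have hTP : T ≤ P := by rw [hT]; exact inf_le_left
  have hTC : T ≤ C := by rw [hT]; exact inf_le_right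
  have hsyl : SylIn p T C := by
    have h1 : SylIn p (P : Subgroup G) (normalizer (R : Set G)) :=
      (Cfsg.Agent.Lib.Helper85.sylIn_top P).of_le hPN le_top
    have h2 : FusionSystem.normalizerIn (P : Subgroup G) R = P := inf_eq_left.mpr hPN
    have h3 := Cfsg.Agent.Lib.Helper85.SylIn.centralizerIn (S := (P : Subgroup G)) (Q := R)
      (by rw [h2]; exact h1)
    rw [hT, hC]; exact h3
  obtain ⟨Tc, hTc⟩ := hsyl
  obtain ⟨Tsyl, hTsyl⟩ : ∃ Tsyl : Sylow p (↥C ⧸ Zc),
      (Tsyl : Subgroup (↥C ⧸ Zc)) = (T.subgroupOf C).map (QuotientGroup.mk' Zc) :=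
    ⟨Tc.mapSurjective (QuotientGroup.mk'_surjective Zc), by
      rw [Sylow.coe_mapSurjective, hTc]⟩
  have hTp : IsPGroup p (T.subgroupOf C) := by rw [← hTc]; exact Tc.isPGroup'
  have hZT : Zc ≤ T.subgroupOf C := by
    intro z hz
    rw [Subgroup.mem_subgroupOf, hT]
    exact ⟨hRP ((hmemZc z).mp hz), z.2⟩
  have hZmap : Zc.map C.subtype = R ⊓ C := by
    rw [hZc]; exact Subgroup.subgroupOf_map_subtype R C
  -- the subgroup `W`
  obtain ⟨W, hW⟩ : ∃ W : Subgroup G, W = LiftZJ.liftZJ C Zc T := ⟨_, rfl⟩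
  have hWT : W ≤ T := by rw [hW]; exact LiftZJ.liftZJ_le hZT
  have hWC : W ≤ C := hWT.trans hTC
  have hWP : W ≤ P := hWT.trans hTP
  have hZW : R ⊓ C ≤ W := by rw [hW, ← hZmap]; exact LiftZJ.le_liftZJ
  have hWnotle : ¬ W ≤ R := by
    intro hle
    have hne : ¬ T.subgroupOf C ≤ Zc := by
      intro h
      apply hnc
      intro x hx
      have hxC : x ∈ C := by rw [hC]; exact hx.2
      have : (⟨x, hxC⟩ : ↥C) ∈ T.subgroupOf C := by
        rw [Subgroup.mem_subgroupOf, hT]; exact ⟨hx.1, hxC⟩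
      exact (hmemZc _).mp (h this)
    apply LiftZJ.liftZJ_not_le (p := p) (T := T) (C := C) (Zc := Zc) hTp hne
    rw [hZmap, ← hW]
    exact le_inf hle hWC
  refine ⟨W, ?_, hWnotle⟩
  -- strongly closed subgroups
  have hscZ : (groupFusionSystem (P : Subgroup G)).StronglyClosed (R ⊓ C) := by
    apply stronglyClosed_of_conj _ _ (inf_le_left.trans hRP)
    intro w hw g hg
    obtain ⟨n, hn, hnw⟩ := controls_of_isNormal _ R hN (hRP hw.1) hg
    rw [hnw]
    exact ⟨(Subgroup.mem_normalizer_iff.mp hn w).mp hw.1,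
      (Subgroup.mem_normalizer_iff.mp (hNC hn) w).mp hw.2⟩
  have hscW : (groupFusionSystem (P : Subgroup G)).StronglyClosed W := by
    apply stronglyClosed_of_conj _ _ hWP
    intro w hw g hg
    obtain ⟨n, hn, hnw⟩ := controls_of_isNormal _ R hN (hWP hw) hg
    rw [hnw] at hg ⊢
    -- Frattini
    have hnT : T.map (cj n) ≤ C := by
      rintro _ ⟨t, ht, rfl⟩
      exact (Subgroup.mem_normalizer_iff.mp (hNC hn) t).mp (hTC ht)
    obtain ⟨c, hc, hcn⟩ := Cfsg.Agent.Lib.Helper85.SylIn.exists_conj_le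
      (⟨Tc, hTc⟩ : SylIn p T C) hnT ((P.isPGroup'.to_le hTP).map _)
    rw [Cfsg.Agent.Lib.Helper85.map_cj_map_cj] at hcn
    have hmT : c * n ∈ normalizer (T : Set G) := mem_normalizer_of_map_cj_le hcn
    have hmR : c * n ∈ normalizer (R : Set G) := Subgroup.mul_mem _ (hCN hc) hn
    have hmC : c * n ∈ normalizer (C : Set G) := hNC hmR
    have h1 : (c * n) * w * (c * n)⁻¹ ∈ W := by
      rw [hW] at hw ⊢
      apply LiftZJ.conj_mem_liftZJ hmC ?_ hmT hw
      intro z hz
      rw [hmemZc] at hz ⊢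
      rw [LiftZJ.conjAut_coe]
      exact (Subgroup.mem_normalizer_iff.mp hmR _).mp hz
    have h2 : n * w * n⁻¹ = c⁻¹ * ((c * n) * w * (c * n)⁻¹) * c⁻¹⁻¹ := by group
    rw [h2]
    rw [hW] at h1 ⊢
    apply LiftZJ.conj_mem_liftZJ_of_mem hp2 hstD Tsyl hTsyl h1 (C.inv_mem hc)
    rw [← h2, hT]
    exact ⟨hg, (Subgroup.mem_normalizer_iff.mp (hNC hn) w).mp (hWC (hW ▸ hw))⟩
  -- the chain criterion
  have hF_sat := Cfsg.Agent.Lib.Helper85.groupFusionSystem_isSaturated P
  rw [Cfsg.Agent.S5088.result p P.isPGroup' _ hF_sat W]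
  refine ⟨2, ![⊥, R ⊓ C, W], rfl, rfl, ?_, ?_⟩
  · rw [Fin.monotone_iff_le_succ]
    intro i
    fin_cases i
    · exact bot_le
    · exact hZW
  · intro i
    fin_cases i
    · refine ⟨hscZ, ?_⟩
      change ⁅W, R ⊓ C⁆ ≤ ⊥
      rw [Subgroup.commutator_le]
      intro a ha b hb
      rw [Subgroup.mem_bot, commutatorElement_eq_one_iff_mul_comm]
      exact (hcomm a (hWC ha) b hb.1).symm
    · refine ⟨hscW, ?_⟩
      change ⁅W, W⁆ ≤ R ⊓ C
      rw [← hZmap, hW]
      exact LiftZJ.liftZJ_commutator_le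

end Cfsg.Agent.Lib.Helper67.PStabConstr
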