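import Cfsg.Agent.Lib.Helper67.PiNat
import Cfsg.Agent.Lib.Helper24.RelSZ

set_option autoImplicit false

/-!
`π`-closed groups (the `π`-elements form a subgroup) under `π'`-homogeneity
(`N_G(H)/C_G(H)` is a `π'`-group for every nontrivial `π'`-subgroup `H`).
-/

namespace Cfsg.Agent.Lib.Helper67

open Subgroup
open scoped Pointwise
open Cfsg.Agent.Lib.Helper33 Cfsg.Agent.Lib.Helper24

/-- `π'`-homogeneity: `N_G(H)/C_G(H)` is a `π'`-group for every nontrivial `π'`-subgroup `H`. -/
def PiHomog (π : Set ℕ) (G : Type*) [Group G] : Prop :=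
  ∀ H : Subgroup G, H ≠ ⊥ → PiNat πᶜ (Nat.card H) →
    PiNat πᶜ ((centralizer (H : Set G)).relIndex (normalizer (H : Set G)))

variable {G : Type*} [Group G]

/-- Under homogeneity, a `π`-element normalizing a nontrivial `π'`-subgroup centralizes it. -/
theorem mem_centralizer_of_piHomog {π : Set ℕ} (hh : PiHomog π G) (H : Subgroup G)
    (hH : H ≠ ⊥) (hHπ : PiNat πᶜ (Nat.card H)) {y : G} (hy : y ∈ normalizer (H : Set G))
    (hyπ : PiNat π (orderOf y)) : y ∈ centralizer (H : Set G) := by
  have h1 := hh H hH hHπ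
  have h2 : (orderOf (⟨y, hy⟩ : normalizer (H : Set G))).Coprime
      ((centralizer (H : Set G)).subgroupOf (normalizer (H : Set G))).index := by
    rw [Subgroup.orderOf_mk]
    exact hyπ.coprime h1
  have h3 := mem_of_orderOf_coprime_index' _ _ h2
  rwa [mem_subgroupOf] at h3

/-- If `a` and `b` are `π`-elements congruent modulo a normal `π'`-subgroup, they have the same
order. -/
theorem orderOf_eq_of_mul_mem [Finite G] {π : Set ℕ} (Kb : Subgroup G) [Kb.Normal]
    (hKb : PiNat πᶜ (Nat.card Kb)) {a b : G} (hab : a⁻¹ * b ∈ Kb)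
    (ha : PiNat π (orderOf a)) (hb : PiNat π (orderOf b)) : orderOf a = orderOf b := by
  have key : ∀ {a b : G}, a⁻¹ * b ∈ Kb → PiNat π (orderOf b) → orderOf b ∣ orderOf a := by
    intro a b hab hb
    apply orderOf_dvd_of_pow_eq_one
    have h1 : QuotientGroup.mk' Kb a = QuotientGroup.mk' Kb b := by
      show (a : G ⧸ Kb) = (b : G ⧸ Kb)
      exact QuotientGroup.eq.mpr hab
    have h2 : b ^ orderOf a ∈ Kb := by
      rw [← QuotientGroup.eq_one_iff, ← QuotientGroup.mk'_apply, map_pow, ← h1, ← map_pow,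
        pow_orderOf_eq_one, map_one]
    exact eq_one_of_piNat (piNat_orderOf_pow hb _) (piNat_orderOf_mem hKb h2)
  apply Nat.dvd_antisymm
  · apply key (a := b) (b := a) _ ha
    have : b⁻¹ * a = (a⁻¹ * b)⁻¹ := by group
    rw [this]; exact inv_mem hab
  · exact key hab hb

/-- **Key claim.** `L ≤ K` normal subgroups of the homogeneous group `G`, `L` a `π`-group and
`K/L` a `π'`-group. Then every `π`-element of `G` centralizes `K/L`. -/
theorem map_le_centralizer_of_piHomog [Finite G] {π : Set ℕ} (hh : PiHomog π G)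
    (K L : Subgroup G) [hKn : K.Normal] [hLn : L.Normal]
    (hL : PiNat π (Nat.card L)) (hKL : PiNat πᶜ (L.relIndex K)) (x : G)
    (hx : PiNat π (orderOf x)) :
    K.map (QuotientGroup.mk' L) ≤ centralizer {QuotientGroup.mk' L x} := by
  classical
  set q := QuotientGroup.mk' L with hq
  have hker : q.ker = L := QuotientGroup.ker_mk' L
  set Kb := K.map q with hKb
  have hKbn : Kb.Normal := Subgroup.Normal.map hKn q (QuotientGroup.mk'_surjective L)
  have hKbtop : normalizer (Kb : Set (G ⧸ L)) = ⊤ := normalizer_eq_top_iff.mpr hKbn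
  have hKbcard : Nat.card Kb = L.relIndex K := by
    rw [← relIndex_ker K q, hker]
  have hKbπ : PiNat πᶜ (Nat.card Kb) := by rw [hKbcard]; exact hKL
  set C := Kb ⊓ centralizer {q x} with hC
  suffices h : Nat.card Kb ∣ Nat.card C by
    have h1 : C = Kb :=
      Subgroup.eq_of_le_of_card_ge inf_le_left (Nat.le_of_dvd Nat.card_pos h)
    rw [← h1]; exact inf_le_right
  rw [← Nat.factorization_prime_le_iff_dvd Nat.card_pos.ne' Nat.card_pos.ne']
  intro r hr
  by_cases hrπ : r ∈ π
  · have h1 : ¬ r ∣ Nat.card Kb := fun hd => hKbπ r hr hd hrπ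
    rw [Nat.factorization_eq_zero_of_not_dvd h1]; exact Nat.zero_le _
  · have : Fact r.Prime := ⟨hr⟩
    obtain ⟨Q'⟩ : Nonempty (Sylow r K) := inferInstance
    set Q := (Q' : Subgroup K).map K.subtype with hQ
    have hQK : Q ≤ K := map_subtype_le _
    have hQcard : Nat.card Q = r ^ (Nat.card K).factorization r := by
      rw [hQ, card_map_of_injective K.subtype_injective]; exact Q'.card_eq_multiplicity
    have h1 : (Nat.card Kb).factorization r ≤ (Nat.card K).factorization r :=
      (Nat.factorization_le_iff_dvd Nat.card_pos.ne' Nat.card_pos.ne').mpr (card_map_dvd K q) r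
    refine h1.trans ?_
    by_cases hQbot : Q = ⊥
    · have h2 : Nat.card Q = 1 := by rw [hQbot]; exact card_bot
      rw [hQcard] at h2
      have he : (Nat.card K).factorization r = 0 := by
        by_contra h0
        exact (Nat.one_lt_pow h0 hr.one_lt).ne' h2
      rw [he]; exact Nat.zero_le _
    have hQπ : PiNat πᶜ (Nat.card Q) := by rw [hQcard]; exact piNat_prime_pow hr hrπ _
    -- Frattini argument
    have hfrat : normalizer (Q : Set G) ⊔ K = ⊤ := Sylow.normalizer_sup_eq_top Q'
    have hxmul : x ∈ ((normalizer (Q : Set G) : Subgroup G) : Set G) * (K : Set G) := by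
      rw [← mul_normal, hfrat]; exact mem_top x
    obtain ⟨n, hn, k, hk, hnk⟩ := Set.mem_mul.mp hxmul
    obtain ⟨m, hmπ, hm⟩ := exists_pi_part π n (orderOf_pos n).ne'
    have hyN : n ^ m ∈ normalizer (Q : Set G) := pow_mem hn m
    have hnK : QuotientGroup.mk' K n = QuotientGroup.mk' K x := by
      have hk1 : QuotientGroup.mk' K k = 1 := (QuotientGroup.eq_one_iff k).mpr hk
      rw [← hnk, map_mul, hk1, mul_one]
    have hyK : QuotientGroup.mk' K (n ^ m) = QuotientGroup.mk' K x := by
      rw [pow_pi_part_map (QuotientGroup.mk' K) hm (by rw [hnK]; exact piNat_orderOf_map _ hx), hnK]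
    have hyC : n ^ m ∈ centralizer (Q : Set G) :=
      mem_centralizer_of_piHomog hh Q hQbot hQπ hyN hmπ
    set y := n ^ m with hy
    -- in the quotient by `L`
    have hxy : x⁻¹ * y ∈ K := by
      have : (x : G ⧸ K) = (y : G ⧸ K) := hyK.symm
      exact QuotientGroup.eq.mp this
    have hxyb : (q x)⁻¹ * q y ∈ Kb := by
      rw [← map_inv, ← map_mul]; exact mem_map_of_mem q hxy
    have hxπ : PiNat π (orderOf (q x)) := piNat_orderOf_map q hx
    have hyπ : PiNat π (orderOf (q y)) := piNat_orderOf_map q hmπ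
    have hord : orderOf (q x) = orderOf (q y) := orderOf_eq_of_mul_mem Kb hKbπ hxyb hxπ hyπ
    have hY : zpowers (q y) ≤ zpowers (q x) ⊔ Kb := by
      rw [zpowers_le]
      have : q y = q x * ((q x)⁻¹ * q y) := by group
      rw [this]
      exact mul_mem (mem_sup_left (mem_zpowers _)) (mem_sup_right hxyb)
    have hsolv : Group.IsSolvable (zpowers (q x)) :=
      Group.isSolvable_of_comm (fun a b => mul_comm' a b)
    obtain ⟨g, hg, hgXY⟩ := rel_sz_conj Kb (zpowers (q x)) (zpowers (q y))
      (hKbtop ▸ le_top)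
      (by rw [Nat.card_zpowers]; exact hxπ.coprime hKbπ) (Or.inr hsolv) hY
      (by rw [Nat.card_zpowers, Nat.card_zpowers, hord])
    -- `g (q x) g⁻¹` centralizes the image of `Q`
    set Qb := Q.map q with hQb
    have hycent : zpowers (q y) ≤ centralizer (Qb : Set (G ⧸ L)) := by
      rw [zpowers_le, mem_centralizer_iff]
      rintro _ ⟨z, hz, rfl⟩
      rw [← map_mul, ← map_mul, (mem_centralizer_iff.mp hyC) z hz]
    have hgx : g * q x * g⁻¹ ∈ centralizer (Qb : Set (G ⧸ L)) := by
      apply hycent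
      rw [← hgXY]
      exact conj_mem_cj (mem_zpowers _)
    have hQb'C : cj g⁻¹ Qb ≤ C := by
      intro z hz
      obtain ⟨w, hw, rfl⟩ := mem_cj'.mp hz
      refine ⟨?_, ?_⟩
      · have hwK : w ∈ Kb := map_mono hQK hw
        exact hKbn.conj_mem w hwK g⁻¹
      · show g⁻¹ * w * g⁻¹⁻¹ ∈ centralizer {q x}
        rw [mem_centralizer_iff]
        intro t ht
        rw [Set.mem_singleton_iff] at ht
        subst ht
        have := (mem_centralizer_iff.mp hgx) w hw
        calc q x * (g⁻¹ * w * g⁻¹⁻¹) = g⁻¹ * ((g * q x * g⁻¹) * w) * g := by group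
          _ = g⁻¹ * (w * (g * q x * g⁻¹)) * g := by rw [this]
          _ = g⁻¹ * w * g⁻¹⁻¹ * q x := by group
    have hQbcard : Nat.card (cj g⁻¹ Qb) = r ^ (Nat.card K).factorization r := by
      rw [card_cj, hQb, ← relIndex_ker Q q, hker, ← inf_relIndex_right,
        (disjoint_of_coprime_natCard (hL.coprime hQπ)).eq_bot, relIndex_bot_left, hQcard]
    have hdvd : r ^ (Nat.card K).factorization r ∣ Nat.card C := by
      rw [← hQbcard]; exact card_dvd_of_le hQb'C
    exact (Nat.Prime.pow_dvd_iff_le_factorization hr Nat.card_pos.ne').mp hdvd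

/-- **Assembly.** `L ≤ K ≤ M` with `L`, `K` normal in the homogeneous group `G`; `L` a `π`-group,
`K/L` a `π'`-group, `M/K` a `π`-group, and `M` contains all `π`-elements of `G`. Then the
`π`-elements of `G` form a subgroup. -/
theorem exists_pi_subgroup_of_series [Finite G] {π : Set ℕ} (hh : PiHomog π G)
    (K L M : Subgroup G) [hKn : K.Normal] [hLn : L.Normal] (hLK : L ≤ K) (hKM : K ≤ M)
    (hL : PiNat π (Nat.card L)) (hKL : PiNat πᶜ (L.relIndex K)) (hMK : PiNat π (K.relIndex M))
    (hM : ∀ x : G, PiNat π (orderOf x) → x ∈ M) :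
    ∃ T : Subgroup G, ∀ x : G, x ∈ T ↔ PiNat π (orderOf x) := by
  classical
  set q := QuotientGroup.mk' L with hq
  have hker : q.ker = L := QuotientGroup.ker_mk' L
  set Kb := K.map q with hKb
  set Mb := M.map q with hMb
  have hKbn : Kb.Normal := Subgroup.Normal.map hKn q (QuotientGroup.mk'_surjective L)
  have hKbtop : normalizer (Kb : Set (G ⧸ L)) = ⊤ := normalizer_eq_top_iff.mpr hKbn
  have hKbcard : Nat.card Kb = L.relIndex K := by rw [← relIndex_ker K q, hker]
  have hKbπ : PiNat πᶜ (Nat.card Kb) := by rw [hKbcard]; exact hKL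
  have hrel : Kb.relIndex Mb = K.relIndex M := by
    rw [hKb, hMb, relIndex_map_map, hker, sup_of_le_left hLK, sup_of_le_left (hLK.trans hKM)]
  obtain ⟨Tb, hTbM, -, hTbK, hTbsup⟩ := rel_sz_exists Kb Mb (map_mono hKM) (hKbtop ▸ le_top)
    (by rw [hrel]; exact (hMK.coprime hKbπ).symm)
  have hMπ : ∀ x ∈ M, PiNat π (orderOf (QuotientGroup.mk' K x)) := by
    intro x hxM
    have h1 : PiNat π (Nat.card (M.map (QuotientGroup.mk' K))) := by
      rw [← relIndex_ker M (QuotientGroup.mk' K), QuotientGroup.ker_mk']; exact hMK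
    exact piNat_orderOf_mem h1 (mem_map_of_mem _ hxM)
  have hT1 : ∀ x : G, q x ∈ Tb → PiNat π (orderOf x) := by
    intro x hxT
    have hxMb : q x ∈ Mb := hTbM hxT
    have hxM : x ∈ M := by
      have h1 : x ∈ (M.map q).comap q := hxMb
      rw [comap_map_eq, hker, sup_of_le_left (hLK.trans hKM)] at h1
      exact h1
    have hjπ : PiNat π (orderOf (QuotientGroup.mk' K x)) := hMπ x hxM
    have hxjK : x ^ orderOf (QuotientGroup.mk' K x) ∈ K := by
      have h1 : QuotientGroup.mk' K (x ^ orderOf (QuotientGroup.mk' K x)) = 1 := by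
        rw [map_pow, pow_orderOf_eq_one]
      exact (QuotientGroup.eq_one_iff _).mp h1
    have hxjL : x ^ orderOf (QuotientGroup.mk' K x) ∈ L := by
      have h1 : q (x ^ orderOf (QuotientGroup.mk' K x)) ∈ Tb ⊓ Kb :=
        ⟨by rw [map_pow]; exact pow_mem hxT _, mem_map_of_mem q hxjK⟩
      rw [hTbK, mem_bot] at h1
      exact (QuotientGroup.eq_one_iff _).mp h1
    have hxjπ : PiNat π (orderOf (x ^ orderOf (QuotientGroup.mk' K x))) :=
      piNat_orderOf_mem hL hxjL
    apply (hjπ.mul hxjπ).of_dvd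
    apply orderOf_dvd_of_pow_eq_one
    rw [pow_mul, pow_orderOf_eq_one]
  refine ⟨Tb.comap q, fun x => ⟨fun hx => hT1 x hx, fun hx => ?_⟩⟩
  show q x ∈ Tb
  have hxM : x ∈ M := hM x hx
  have hqxM : q x ∈ Tb ⊔ Kb := by rw [hTbsup]; exact mem_map_of_mem q hxM
  have hmul : q x ∈ (Tb : Set (G ⧸ L)) * (Kb : Set (G ⧸ L)) := by
    rw [← mul_normal]; exact hqxM
  obtain ⟨t, ht, k, hk, htk⟩ := Set.mem_mul.mp hmul
  obtain ⟨t₀, rfl⟩ := QuotientGroup.mk'_surjective L t
  have ht₀π : PiNat π (orderOf t₀) := hT1 t₀ ht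
  have hcomm : q t₀ * k = k * q t₀ := by
    have h1 := map_le_centralizer_of_piHomog hh K L hL hKL t₀ ht₀π hk
    exact mem_centralizer_iff.mp h1 (q t₀) (Set.mem_singleton _)
  have hjπ : PiNat π (orderOf (q t₀)) := piNat_orderOf_map q ht₀π
  have hkj : k ^ orderOf (q t₀) = 1 := by
    have h1 : (q x) ^ orderOf (q t₀) = k ^ orderOf (q t₀) := by
      rw [← htk, Commute.mul_pow hcomm, pow_orderOf_eq_one, one_mul]
    have h2 : PiNat π (orderOf (k ^ orderOf (q t₀))) := by
      rw [← h1]; exact piNat_orderOf_pow (piNat_orderOf_map q hx) _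
    have h3 : PiNat πᶜ (orderOf (k ^ orderOf (q t₀))) :=
      piNat_orderOf_mem hKbπ (pow_mem hk _)
    exact eq_one_of_piNat h2 h3
  have hk1 : k = 1 := by
    have h2 : PiNat π (orderOf k) := hjπ.of_dvd (orderOf_dvd_of_pow_eq_one hkj)
    have h3 : PiNat πᶜ (orderOf k) := piNat_orderOf_mem hKbπ hk
    exact eq_one_of_piNat h2 h3
  rw [← htk, hk1, mul_one]; exact ht

end Cfsg.Agent.Lib.Helper67
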