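import Cfsg.Agent.Lib.Helper67.PiClosed

set_option autoImplicit false

/-!
Element-wise form of `π'`-homogeneity, its inheritance by subgroups, and the fact that `π`-closed
groups are homogeneous.
-/

namespace Cfsg.Agent.Lib.Helper67

open Subgroup

/-- Element-wise homogeneity: a `π`-element normalizing a nontrivial `π'`-subgroup centralizes it. -/
def PiHomogE (π : Set ℕ) (G : Type*) [Group G] : Prop :=
  ∀ H : Subgroup G, H ≠ ⊥ → PiNat πᶜ (Nat.card H) →
    ∀ y ∈ normalizer (H : Set G), PiNat π (orderOf y) → y ∈ centralizer (H : Set G)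

variable {G : Type*} [Group G] {π : Set ℕ}

theorem PiHomog.toE (h : PiHomog π G) : PiHomogE π G :=
  fun H hH hHπ _ hy hyπ => mem_centralizer_of_piHomog h H hH hHπ hy hyπ

/-- If all `π`-elements of a finite group lie in the subgroup `C`, the index of `C` is a
`π'`-number. -/
theorem piNat_compl_index_of_forall_mem [Finite G] (C : Subgroup G)
    (h : ∀ x : G, PiNat π (orderOf x) → x ∈ C) : PiNat πᶜ C.index := by
  intro r hr hrd hrπ
  have : Fact r.Prime := ⟨hr⟩
  obtain ⟨R⟩ : Nonempty (Sylow r G) := inferInstance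
  have hRC : (R : Subgroup G) ≤ C := by
    intro y hy
    apply h
    obtain ⟨k, hk⟩ := R.isPGroup' ⟨y, hy⟩
    have h1 : y ^ r ^ k = 1 := by
      have := congrArg Subtype.val hk
      simpa using this
    exact (piNat_prime_pow hr hrπ k).of_dvd (orderOf_dvd_of_pow_eq_one h1)
  exact R.not_dvd_index (dvd_trans hrd (index_dvd_of_le hRC))

theorem PiHomogE.toHomog [Finite G] (h : PiHomogE π G) : PiHomog π G := by
  intro H hH hHπ
  apply piNat_compl_index_of_forall_mem (G := normalizer (H : Set G))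
    (C := (centralizer (H : Set G)).subgroupOf (normalizer (H : Set G)))
  intro y hyπ
  rw [mem_subgroupOf]
  exact h H hH hHπ y y.2 (by rwa [Subgroup.orderOf_coe])

theorem PiHomogE.subgroup (h : PiHomogE π G) (U : Subgroup G) : PiHomogE π U := by
  intro H hH hHπ y hy hyπ
  have hne : H.map U.subtype ≠ ⊥ := by
    rwa [Ne, map_eq_bot_iff_of_injective _ U.subtype_injective]
  have hcard : PiNat πᶜ (Nat.card (H.map U.subtype)) := by
    rwa [card_map_of_injective U.subtype_injective]
  have hyN : (y : G) ∈ normalizer ((H.map U.subtype : Subgroup G) : Set G) := by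
    rw [mem_normalizer_iff] at hy ⊢
    intro z
    constructor
    · rintro ⟨w, hw, rfl⟩
      exact ⟨y * w * y⁻¹, (hy w).mp hw, rfl⟩
    · rintro ⟨w, hw, hwz⟩
      have hzU : z ∈ U := by
        have h0 : z = (y : G)⁻¹ * w * y := by
          have : (U.subtype w : G) = (w : G) := rfl
          rw [← this, hwz]; group
        rw [h0]; exact U.mul_mem (U.mul_mem (U.inv_mem y.2) w.2) y.2
      refine ⟨⟨z, hzU⟩, (hy ⟨z, hzU⟩).mpr ?_, rfl⟩
      have h0 : y * ⟨z, hzU⟩ * y⁻¹ = w := Subtype.ext hwz.symm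
      rw [h0]; exact hw
  have h1 := h (H.map U.subtype) hne hcard (y : G) hyN (by rwa [Subgroup.orderOf_coe])
  rw [mem_centralizer_iff] at h1 ⊢
  intro z hz
  exact Subtype.ext (h1 (z : G) (mem_map_of_mem _ hz))

/-- The subgroup of `π`-elements (if it exists) is normal. -/
theorem normal_of_forall_mem_iff (T : Subgroup G) (hT : ∀ x : G, x ∈ T ↔ PiNat π (orderOf x)) :
    T.Normal := by
  constructor
  intro x hx g
  rw [hT] at hx ⊢
  rw [orderOf_conj_eq]; exact hx

/-- A `π`-closed finite group is homogeneous. -/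
theorem piHomogE_of_forall_mem_iff [Finite G] (T : Subgroup G)
    (hT : ∀ x : G, x ∈ T ↔ PiNat π (orderOf x)) : PiHomogE π G := by
  intro H _ hHπ y hy hyπ
  have hyT : y ∈ T := (hT y).mpr hyπ
  have hTn : T.Normal := normal_of_forall_mem_iff T hT
  have hdisj : ∀ g : G, g ∈ H → g ∈ T → g = 1 := fun g hgH hgT =>
    eq_one_of_piNat ((hT g).mp hgT) (piNat_orderOf_mem hHπ hgH)
  rw [mem_centralizer_iff]
  intro h hh
  have h1 : y * h * y⁻¹ * h⁻¹ ∈ H :=
    mul_mem ((mem_normalizer_iff.mp hy h).mp hh) (inv_mem hh)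
  have h2 : y * h * y⁻¹ * h⁻¹ ∈ T := by
    have : y * h * y⁻¹ * h⁻¹ = y * (h * y⁻¹ * h⁻¹) := by group
    rw [this]; exact mul_mem hyT (hTn.conj_mem _ (inv_mem hyT) h)
  have h3 := hdisj _ h1 h2
  calc h * y = (y * h * y⁻¹ * h⁻¹)⁻¹ * (y * h) := by group
    _ = y * h := by rw [h3, inv_one, one_mul]

end Cfsg.Agent.Lib.Helper67
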