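import Mathlib
import Cfsg.Agent.Lib.Helper33.Conj
import Cfsg.Agent.Lib.Helper10.Card

/-!
# Property (A): abelian subgroups of the same order are conjugate

Basic definitions and transport lemmas for statement S3912.
-/

set_option autoImplicit false

namespace Cfsg.Agent.Lib.Helper67.PA

open Subgroup Cfsg.Agent.Lib.Helper33

/-- Property (A): any two abelian subgroups of the same order are conjugate. -/
def PropA (G : Type*) [Group G] : Prop :=
  ∀ A B : Subgroup G, IsMulCommutative ↥A → IsMulCommutative ↥B → Nat.card ↥A = Nat.card ↥B →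
    ∃ g : G, B = A.map (MulAut.conj g).toMonoidHom

variable {G : Type*} [Group G]

/-- Property (A) "modulo `M`", stated inside `G`: subgroups containing `M`, abelian modulo `M`,
of the same order, are conjugate. -/
def PropAMod (M : Subgroup G) : Prop :=
  ∀ A B : Subgroup G, M ≤ A → M ≤ B → (∀ x ∈ A, ∀ y ∈ A, x * y * x⁻¹ * y⁻¹ ∈ M) →
    (∀ x ∈ B, ∀ y ∈ B, x * y * x⁻¹ * y⁻¹ ∈ M) → Nat.card A = Nat.card B → ∃ g : G, cj g A = B

theorem isMulCommutative_of_forall {A : Subgroup G} (h : ∀ x ∈ A, ∀ y ∈ A, x * y = y * x) :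
    IsMulCommutative A :=
  ⟨⟨fun a b => Subtype.ext (h a a.2 b b.2)⟩⟩

theorem forall_of_isMulCommutative {A : Subgroup G} (h : IsMulCommutative A) :
    ∀ x ∈ A, ∀ y ∈ A, x * y = y * x := by
  intro x hx y hy
  have := h.is_comm.comm ⟨x, hx⟩ ⟨y, hy⟩
  exact congrArg Subtype.val this

theorem PropA.conj (h : PropA G) {A B : Subgroup G} (hA : ∀ x ∈ A, ∀ y ∈ A, x * y = y * x)
    (hB : ∀ x ∈ B, ∀ y ∈ B, x * y = y * x) (hc : Nat.card A = Nat.card B) :
    ∃ g : G, cj g A = B := by
  obtain ⟨g, hg⟩ := h A B (isMulCommutative_of_forall hA) (isMulCommutative_of_forall hB) hc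
  exact ⟨g, by rw [cj_def, hg]⟩

theorem map_cj_hom {G' : Type*} [Group G'] (f : G →* G') (g : G) (H : Subgroup G) :
    (cj g H).map f = cj (f g) (H.map f) := by
  rw [cj_def, cj_def, Subgroup.map_map, Subgroup.map_map]
  congr 1
  ext x
  simp

theorem cj_of_normal (N : Subgroup G) [N.Normal] (g : G) : cj g N = N :=
  cj_eq_self_iff.mpr (by rw [normalizer_eq_top]; exact mem_top g)

theorem card_eq_of_index_eq [Finite G] {A B : Subgroup G} (h : A.index = B.index) :
    Nat.card A = Nat.card B := by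
  have h1 := A.card_mul_index
  have h2 := B.card_mul_index
  have hpos : 0 < B.index := Nat.pos_of_ne_zero (Subgroup.index_ne_zero_of_finite)
  rw [h] at h1
  exact Nat.eq_of_mul_eq_mul_right hpos (h1.trans h2.symm)

theorem index_eq_of_card_eq [Finite G] {A B : Subgroup G} (h : Nat.card A = Nat.card B) :
    A.index = B.index := by
  have h1 := A.card_mul_index
  have h2 := B.card_mul_index
  have hpos : 0 < Nat.card B := Nat.card_pos
  rw [h] at h1
  exact Nat.eq_of_mul_eq_mul_left hpos (h1.trans h2.symm)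

theorem PropA.mod_bot (h : PropA G) : PropAMod (⊥ : Subgroup G) := by
  intro A B _ _ hA hB hc
  have key : ∀ (X : Subgroup G), (∀ x ∈ X, ∀ y ∈ X, x * y * x⁻¹ * y⁻¹ ∈ (⊥ : Subgroup G)) →
      ∀ x ∈ X, ∀ y ∈ X, x * y = y * x := by
    intro X hX x hx y hy
    have h1 := hX x hx y hy
    rw [Subgroup.mem_bot] at h1
    have : x * y = (x * y * x⁻¹ * y⁻¹) * (y * x) := by group
    rw [this, h1, one_mul]
  exact h.conj (key A hA) (key B hB) hc

/-- From property (A) modulo `M` inside `G` to property (A) of the quotient. -/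
theorem PropAMod.quot [Finite G] (M : Subgroup G) [M.Normal] (h : PropAMod M) :
    PropA (G ⧸ M) := by
  intro Ab Bb hAb hBb hc
  set f := QuotientGroup.mk' M with hf
  have hsurj : Function.Surjective f := QuotientGroup.mk'_surjective M
  have hker : f.ker = M := QuotientGroup.ker_mk' M
  have hMle : ∀ X : Subgroup (G ⧸ M), M ≤ X.comap f := by
    intro X
    have := MonoidHom.ker_le_comap f X
    rwa [hker] at this
  have hcomm : ∀ X : Subgroup (G ⧸ M), IsMulCommutative X →
      ∀ x ∈ X.comap f, ∀ y ∈ X.comap f, x * y * x⁻¹ * y⁻¹ ∈ M := by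
    intro X hX x hx y hy
    rw [← hker, MonoidHom.mem_ker]
    have h1 := forall_of_isMulCommutative hX (f x) hx (f y) hy
    simp only [map_mul, map_inv]
    rw [h1]; group
  have hcard : Nat.card (Ab.comap f) = Nat.card (Bb.comap f) := by
    apply card_eq_of_index_eq
    rw [Subgroup.index_comap_of_surjective _ hsurj, Subgroup.index_comap_of_surjective _ hsurj]
    exact index_eq_of_card_eq hc
  obtain ⟨g, hg⟩ := h _ _ (hMle Ab) (hMle Bb) (hcomm Ab hAb) (hcomm Bb hBb) hcard
  refine ⟨f g, ?_⟩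
  have h1 := congrArg (Subgroup.map f) hg
  rw [map_cj_hom, Subgroup.map_comap_eq_self_of_surjective hsurj,
    Subgroup.map_comap_eq_self_of_surjective hsurj] at h1
  rw [← cj_def, h1]

/-- Lifting property (A) modulo `M/K` in `G/K` to property (A) modulo `M` in `G`. -/
theorem PropAMod.of_quot [Finite G] (K M : Subgroup G) [K.Normal] (hKM : K ≤ M)
    (h : PropAMod (M.map (QuotientGroup.mk' K))) : PropAMod M := by
  intro A B hMA hMB hA hB hc
  set f := QuotientGroup.mk' K with hf
  have hsurj : Function.Surjective f := QuotientGroup.mk'_surjective K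
  have hker : f.ker = K := QuotientGroup.ker_mk' K
  have hcomm : ∀ X : Subgroup G, (∀ x ∈ X, ∀ y ∈ X, x * y * x⁻¹ * y⁻¹ ∈ M) →
      ∀ x ∈ X.map f, ∀ y ∈ X.map f, x * y * x⁻¹ * y⁻¹ ∈ M.map f := by
    rintro X hX _ ⟨x, hx, rfl⟩ _ ⟨y, hy, rfl⟩
    exact ⟨_, hX x hx y hy, by simp⟩
  have hidx : ∀ X : Subgroup G, K ≤ X → (X.map f).index = X.index := by
    intro X hX
    rw [Subgroup.index_map, hker, sup_of_le_left hX, MonoidHom.range_eq_top.mpr hsurj]
    simp
  have hcard : Nat.card (A.map f) = Nat.card (B.map f) := by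
    apply card_eq_of_index_eq
    rw [hidx A (hKM.trans hMA), hidx B (hKM.trans hMB)]
    exact index_eq_of_card_eq hc
  obtain ⟨gb, hgb⟩ := h _ _ (Subgroup.map_mono hMA) (Subgroup.map_mono hMB) (hcomm A hA)
    (hcomm B hB) hcard
  obtain ⟨g, rfl⟩ := hsurj gb
  refine ⟨g, ?_⟩
  rw [← map_cj_hom] at hgb
  have h1 := congrArg (Subgroup.comap f) hgb
  have hKA : K ≤ cj g A := by
    have := cj_mono (g := g) (hKM.trans hMA)
    rwa [cj_of_normal] at this
  rwa [Subgroup.comap_map_eq_self (by rw [hker]; exact hKA),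
    Subgroup.comap_map_eq_self (by rw [hker]; exact hKM.trans hMB)] at h1

end Cfsg.Agent.Lib.Helper67.PA
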