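import Mathlib
import Cfsg.Agent.Lib.Helper67.PropA
import Cfsg.Agent.Lib.Helper67.TwoClosed
import Cfsg.Agent.Lib.Helper67.Normalizer
import Cfsg.Agent.Lib.Helper67.ZGroupConj
import Cfsg.Agent.Lib.Helper67.PiNat
import Cfsg.Agent.Lib.Helper24.Coprime
import Cfsg.Agent.Lib.Helper24.RelSZ
import Cfsg.Agent.Lib.Helper32.RelSylow
import Cfsg.Agent.Lib.Helper33.SylowSub

/-!
# Property (A) passes to the quotient by a normal elementary abelian subgroup
(given the structure of the Sylow subgroup for that prime)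
-/

set_option autoImplicit false
set_option linter.unusedSectionVars false
set_option linter.unusedVariables false

namespace Cfsg.Agent.Lib.Helper67.PA

open Subgroup Cfsg.Agent.Lib.Helper33 Cfsg.Agent.Lib.Helper67

variable {G : Type*} [Group G]

/-- `A` has an abelian supplement to `K` of order `|A| / c`. -/
def AbSupp (K A : Subgroup G) (c : ℕ) : Prop :=
  ∃ A₂ : Subgroup G, (∀ x ∈ A₂, ∀ y ∈ A₂, x * y = y * x) ∧ A₂ ⊔ K = A ∧
    Nat.card A₂ * c = Nat.card A

theorem conj_of_absupp (hA : PropA G) (K : Subgroup G) [K.Normal] {A B : Subgroup G} {c : ℕ}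
    (hc : 0 < c) (h1 : AbSupp K A c) (h2 : AbSupp K B c) (hAB : Nat.card A = Nat.card B) :
    ∃ g : G, cj g A = B := by
  obtain ⟨A₂, hA₂c, hA₂s, hA₂n⟩ := h1
  obtain ⟨B₂, hB₂c, hB₂s, hB₂n⟩ := h2
  have : Nat.card A₂ = Nat.card B₂ := Nat.eq_of_mul_eq_mul_right hc (by rw [hA₂n, hB₂n, hAB])
  obtain ⟨g, hg⟩ := hA.conj hA₂c hB₂c this
  exact ⟨g, by rw [← hA₂s, cj_sup, hg, cj_of_normal, hB₂s]⟩

theorem comm_sup {H₁ H₂ : Subgroup G} (h1 : ∀ x ∈ H₁, ∀ y ∈ H₁, x * y = y * x)
    (h2 : ∀ x ∈ H₂, ∀ y ∈ H₂, x * y = y * x) (h12 : ∀ x ∈ H₁, ∀ y ∈ H₂, x * y = y * x) :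
    ∀ x ∈ H₁ ⊔ H₂, ∀ y ∈ H₁ ⊔ H₂, x * y = y * x := by
  have step1 : ∀ x, (x ∈ H₁ ∨ x ∈ H₂) → H₁ ⊔ H₂ ≤ centralizer ({x} : Set G) := by
    intro x hx
    apply sup_le
    · intro y hy
      rw [mem_centralizer_iff]
      intro z hz
      rw [Set.mem_singleton_iff] at hz
      subst hz
      rcases hx with hx | hx
      · exact h1 z hx y hy
      · exact (h12 y hy z hx).symm
    · intro y hy
      rw [mem_centralizer_iff]
      intro z hz
      rw [Set.mem_singleton_iff] at hz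
      subst hz
      rcases hx with hx | hx
      · exact h12 z hx y hy
      · exact h2 z hx y hy
  have step2 : ∀ y ∈ H₁ ⊔ H₂, H₁ ⊔ H₂ ≤ centralizer ({y} : Set G) := by
    intro y hy
    apply sup_le
    · intro x hx
      have := step1 x (Or.inl hx) hy
      rw [mem_centralizer_iff] at this ⊢
      intro z hz
      rw [Set.mem_singleton_iff] at hz
      subst hz
      exact (this x rfl).symm
    · intro x hx
      have := step1 x (Or.inr hx) hy
      rw [mem_centralizer_iff] at this ⊢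
      intro z hz
      rw [Set.mem_singleton_iff] at hz
      subst hz
      exact (this x rfl).symm
  intro x hx y hy
  have := step2 y hy hx
  rw [mem_centralizer_iff] at this
  exact (this y rfl).symm

theorem mem_sup_of_le_normalizer' {H N : Subgroup G} (h : H ≤ normalizer (N : Set G)) {x : G} :
    x ∈ H ⊔ N ↔ ∃ a ∈ H, ∃ b ∈ N, a * b = x := by
  rw [← SetLike.mem_coe, coe_mul_of_left_le_normalizer_right H N h, Set.mem_mul]
  simp

theorem le_normalizer_of_commute {H N : Subgroup G} (h : ∀ x ∈ H, ∀ y ∈ N, x * y = y * x) :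
    H ≤ normalizer (N : Set G) := by
  intro x hx
  rw [← cj_eq_self_iff]
  ext y
  rw [mem_cj]
  constructor
  · intro hy
    have := h x hx _ hy
    have e : y = x * (x⁻¹ * y * x) * x⁻¹ := by group
    rw [e, this]
    simpa using hy
  · intro hy
    have := h x hx y hy
    have e : x⁻¹ * y * x = x⁻¹ * (y * x) := by group
    rw [e, ← this]
    simpa using hy

/-- Complements inside an elementary abelian subgroup. -/
theorem exists_compl_aux {q : ℕ} (hq : q.Prime) [Finite G] (V : Subgroup G)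
    (hVc : ∀ x ∈ V, ∀ y ∈ V, x * y = y * x) (hVe : ∀ x ∈ V, x ^ q = 1) (C D : Subgroup G)
    (hC : C ≤ V) (_hD : D ≤ V) :
    ∀ n : ℕ, ∀ W : Subgroup G, W ≤ C → W ⊓ D = ⊥ → Nat.card C - Nat.card W = n →
      ∃ W' : Subgroup G, W' ≤ C ∧ W' ⊓ D = ⊥ ∧ C ≤ W' ⊔ D := by
  intro n
  induction n using Nat.strong_induction_on with
  | _ n ih =>
    intro W hWC hWD hn
    by_cases hle : C ≤ W ⊔ D
    · exact ⟨W, hWC, hWD, hle⟩
    · obtain ⟨x, hxC, hxn⟩ := SetLike.not_le_iff_exists.mp hle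
      have hxV := hC hxC
      have hW'C : W ⊔ zpowers x ≤ C := sup_le hWC (by rw [zpowers_le]; exact hxC)
      have hWn : W ≤ normalizer ((zpowers x : Subgroup G) : Set G) := by
        apply le_normalizer_of_commute
        intro w hw y hy
        obtain ⟨i, rfl⟩ := mem_zpowers_iff.mp hy
        exact hVc w (hC (hWC hw)) _ (V.zpow_mem hxV i)
      have hW'D : (W ⊔ zpowers x) ⊓ D = ⊥ := by
        rw [eq_bot_iff]
        intro g hg
        obtain ⟨hg1, hg2⟩ := Subgroup.mem_inf.mp hg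
        rw [mem_sup_of_le_normalizer' hWn] at hg1
        obtain ⟨w, hw, y, hy, rfl⟩ := hg1
        obtain ⟨i, rfl⟩ := mem_zpowers_iff.mp hy
        have hxi : x ^ i ∈ W ⊔ D := by
          have : x ^ i = w⁻¹ * (w * x ^ i) := by group
          rw [this]
          exact mul_mem (le_sup_left (a := W) (b := D) (inv_mem hw)) (le_sup_right (a := W) hg2)
        have hgcd := Int.gcd_eq_gcd_ab i q
        have hdvd : Int.gcd i q ∣ q := Int.natCast_dvd_natCast.mp (Int.gcd_dvd_right i q)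
        rcases (Nat.dvd_prime hq).mp hdvd with h1 | h1
        · exfalso
          apply hxn
          have : x = (x ^ i) ^ (Int.gcdA i q) * (x ^ (q : ℤ)) ^ (Int.gcdB i q) := by
            rw [← zpow_mul, ← zpow_mul, ← zpow_add, ← hgcd, h1]; simp
          rw [this, zpow_natCast, hVe x hxV, one_zpow, mul_one]
          exact zpow_mem hxi _
        · have hqi : (q : ℤ) ∣ i := by
            have := Int.gcd_dvd_left i q
            rwa [h1] at this
          obtain ⟨k, rfl⟩ := hqi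
          have hx1 : x ^ ((q : ℤ) * k) = 1 := by
            rw [zpow_mul, zpow_natCast, hVe x hxV, one_zpow]
          rw [hx1, mul_one] at hg2 ⊢
          have : w ∈ W ⊓ D := Subgroup.mem_inf.mpr ⟨hw, hg2⟩
          rw [hWD] at this
          exact this
      have hxW' : x ∈ W ⊔ zpowers x := le_sup_right (a := W) (mem_zpowers x)
      have hxW : x ∉ W := fun h => hxn (le_sup_left (a := W) (b := D) h)
      have hlt : Nat.card W < Nat.card (W ⊔ zpowers x : Subgroup G) :=
        card_lt_of_le_of_mem_not_mem le_sup_left hxW' hxW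
      have hle2 : Nat.card (W ⊔ zpowers x : Subgroup G) ≤ Nat.card C := Subgroup.card_le_of_le hW'C
      exact ih (Nat.card C - Nat.card (W ⊔ zpowers x : Subgroup G)) (by omega) _ hW'C hW'D rfl

theorem exists_compl {q : ℕ} (hq : q.Prime) [Finite G] (V : Subgroup G)
    (hVc : ∀ x ∈ V, ∀ y ∈ V, x * y = y * x) (hVe : ∀ x ∈ V, x ^ q = 1) (C D : Subgroup G)
    (hC : C ≤ V) (hD : D ≤ V) :
    ∃ W : Subgroup G, W ≤ C ∧ W ⊓ D = ⊥ ∧ C ≤ W ⊔ D :=
  exists_compl_aux hq V hVc hVe C D hC hD _ ⊥ bot_le (bot_inf_eq _) rfl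

/-- The order of a relative Sylow `p`-subgroup. -/
theorem card_relSyl [Finite G] {p : ℕ} (hp : p.Prime) {P K : Subgroup G} (hPK : P ≤ K)
    (hP : IsPGroup p P) (hPi : ¬ p ∣ P.relIndex K) :
    Nat.card P = p ^ (Nat.card K).factorization p := by
  have := Fact.mk hp
  obtain ⟨k, hk⟩ := IsPGroup.iff_card.mp hP
  have h1 : Nat.card P * P.relIndex K = Nat.card K := card_mul_relIndex_of_le hPK
  have hj0 : P.relIndex K ≠ 0 := by
    intro h0
    rw [h0, mul_zero] at h1
    exact Nat.card_pos.ne' h1.symm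
  rw [← h1, hk, Nat.factorization_mul (pow_pos hp.pos k).ne' hj0, Nat.Prime.factorization_pow hp,
    Finsupp.add_apply, Finsupp.single_eq_same, Nat.factorization_eq_zero_of_not_dvd hPi, add_zero]

/-- Preparation: Sylow `q`-subgroup `S ⊇ K` of `A`, an abelian complement `D`, and the fixed
point property. -/
theorem prep [Finite G] {q : ℕ} [hq : Fact q.Prime] (K : Subgroup G) [K.Normal]
    (hKq : IsPGroup q K) (A : Subgroup G) (hKA : K ≤ A)
    (hA : ∀ x ∈ A, ∀ y ∈ A, x * y * x⁻¹ * y⁻¹ ∈ K) :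
    ∃ S D : Subgroup G, K ≤ S ∧ S ≤ A ∧ IsPGroup q S ∧ ¬ q ∣ S.relIndex A ∧
      D ≤ A ∧ Nat.card D = S.relIndex A ∧ D ⊓ S = ⊥ ∧ D ⊔ S = A ∧
      (∀ x ∈ D, ∀ y ∈ D, x * y = y * x) ∧
      (∀ y ∈ S, ∃ n ∈ K, n⁻¹ * y ∈ centralizer (D : Set G)) := by
  obtain ⟨S, hKS, hSA, hSq, hSi⟩ := Cfsg.Agent.Lib.Helper32.exists_relSylow_ge hKA hKq
  have hAS : A ≤ normalizer (S : Set G) := by
    intro a ha
    rw [← cj_eq_self_iff]
    apply Subgroup.eq_of_le_of_card_ge
    · intro x hx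
      obtain ⟨y, hy, rfl⟩ := mem_cj'.mp hx
      have : a * y * a⁻¹ = (a * y * a⁻¹ * y⁻¹) * y := by group
      rw [this]
      exact mul_mem (hKS (hA a ha y (hSA hy))) hy
    · rw [card_cj]
  have hcop : (S.relIndex A).Coprime q :=
    ((Nat.Prime.coprime_iff_not_dvd hq.out).mpr hSi).symm
  have hcopS : (Nat.card S).Coprime (S.relIndex A) := by
    obtain ⟨k, hk⟩ := IsPGroup.iff_card.mp hSq
    rw [hk]
    exact Nat.Coprime.pow_left _ hcop.symm
  obtain ⟨D, hDA, hDc, hDS, hDsup⟩ := Cfsg.Agent.Lib.Helper24.rel_sz_exists S A hSA hAS hcopS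
  have hDcomm : ∀ x ∈ D, ∀ y ∈ D, x * y = y * x := by
    intro x hx y hy
    have h1 : x * y * x⁻¹ * y⁻¹ ∈ D ⊓ S :=
      Subgroup.mem_inf.mpr ⟨mul_mem (mul_mem (mul_mem hx hy) (inv_mem hx)) (inv_mem hy),
        hKS (hA x (hDA hx) y (hDA hy))⟩
    rw [hDS, mem_bot] at h1
    have : x * y = (x * y * x⁻¹ * y⁻¹) * (y * x) := by group
    rw [this, h1, one_mul]
  refine ⟨S, D, hKS, hSA, hSq, hSi, hDA, hDc, hDS, hDsup, hDcomm, ?_⟩
  intro y hy
  have hDsolv : Group.IsSolvable D :=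
    Group.isSolvable_of_comm (fun a b => Subtype.ext (hDcomm a a.2 b b.2))
  have hcop2 : (Nat.card D).Coprime (Nat.card K) := by
    obtain ⟨k, hk⟩ := IsPGroup.iff_card.mp hKq
    rw [hk, hDc]
    exact Nat.Coprime.pow_right _ hcop
  exact Cfsg.Agent.Lib.Helper24.fixed_point_lemma K D (by rw [normalizer_eq_top]; exact le_top)
    hcop2 (Or.inr hDsolv) y (fun a ha => hA a (hDA ha) y (hSA hy))

section cases

variable [Finite G] (K : Subgroup G) [K.Normal] {A S D : Subgroup G}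

theorem le_sup_fix (hKS : K ≤ S)
    (hfix : ∀ y ∈ S, ∃ n ∈ K, n⁻¹ * y ∈ centralizer (D : Set G)) :
    S ≤ K ⊔ (S ⊓ centralizer (D : Set G)) := by
  intro y hy
  obtain ⟨n, hn, hc⟩ := hfix y hy
  have : y = n * (n⁻¹ * y) := by group
  rw [this]
  exact mul_mem (le_sup_left (a := K) hn)
    (le_sup_right (a := K) (Subgroup.mem_inf.mpr ⟨mul_mem (inv_mem (hKS hn)) hy, hc⟩))

theorem le_centralizer_of_le (hKS : K ≤ S)
    (hfix : ∀ y ∈ S, ∃ n ∈ K, n⁻¹ * y ∈ centralizer (D : Set G))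
    (hKC : K ≤ centralizer (D : Set G)) : S ≤ centralizer (D : Set G) := by
  intro y hy
  obtain ⟨n, hn, hc⟩ := hfix y hy
  have : y = n * (n⁻¹ * y) := by group
  rw [this]
  exact mul_mem (hKC hn) hc

theorem card_eq_mul (hSA : S ≤ A) (hDc : Nat.card D = S.relIndex A) :
    Nat.card A = Nat.card S * Nat.card D := by
  rw [hDc, card_mul_relIndex_of_le hSA]

/-- The whole of `A` is abelian. -/
theorem absupp_whole (hKA : K ≤ A) (hDsup : D ⊔ S = A)
    (hDcomm : ∀ x ∈ D, ∀ y ∈ D, x * y = y * x) (hSc : ∀ x ∈ S, ∀ y ∈ S, x * y = y * x)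
    (hSD : S ≤ centralizer (D : Set G)) : AbSupp K A 1 := by
  refine ⟨A, ?_, sup_of_le_left hKA, mul_one _⟩
  rw [← hDsup]
  apply comm_sup hDcomm hSc
  intro x hx y hy
  exact mem_centralizer_iff.mp (hSD hy) x hx

/-- `D` is an abelian complement when `S = K`. -/
theorem absupp_compl (hSA : S ≤ A) (hDc : Nat.card D = S.relIndex A) (hDsup : D ⊔ S = A)
    (hDcomm : ∀ x ∈ D, ∀ y ∈ D, x * y = y * x) (hSK : S = K) : AbSupp K A (Nat.card K) := by
  refine ⟨D, hDcomm, by rw [← hSK, hDsup], ?_⟩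
  rw [card_eq_mul hSA hDc, hSK, mul_comm]

/-- The elementary abelian case. -/
theorem absupp_elem {q : ℕ} (hq : q.Prime) (hKS : K ≤ S) (hSA : S ≤ A)
    (hDA : D ≤ A) (hDc : Nat.card D = S.relIndex A) (hDS : D ⊓ S = ⊥) (hDsup : D ⊔ S = A)
    (hDcomm : ∀ x ∈ D, ∀ y ∈ D, x * y = y * x)
    (hfix : ∀ y ∈ S, ∃ n ∈ K, n⁻¹ * y ∈ centralizer (D : Set G))
    (hSc : ∀ x ∈ S, ∀ y ∈ S, x * y = y * x) (hSe : ∀ x ∈ S, x ^ q = 1) :
    AbSupp K A (Nat.card K) := by
  obtain ⟨W, hWC, hWK, hCW⟩ := exists_compl hq S hSc hSe (S ⊓ centralizer (D : Set G)) K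
    inf_le_left hKS
  have hWS : W ≤ S := hWC.trans inf_le_left
  have hWD : ∀ x ∈ D, ∀ y ∈ W, x * y = y * x := by
    intro x hx y hy
    exact mem_centralizer_iff.mp (hWC hy).2 x hx
  have hSWK : S ≤ W ⊔ K := by
    refine (le_sup_fix K hKS hfix).trans (sup_le le_sup_right hCW)
  have hWKS : W ⊔ K = S := le_antisymm (sup_le hWS hKS) hSWK
  refine ⟨D ⊔ W, comm_sup hDcomm (fun x hx y hy => hSc x (hWS hx) y (hWS hy)) hWD, ?_, ?_⟩
  · rw [sup_assoc, hWKS, hDsup]
  · have h1 := Cfsg.Agent.Lib.Helper10.card_sup_mul_card_inf (le_normalizer_of_commute hWD)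
    have hDW : D ⊓ W = ⊥ := by
      rw [eq_bot_iff, ← hDS]
      exact inf_le_inf_left D hWS
    rw [hDW, Subgroup.card_bot, mul_one] at h1
    have h2 := Cfsg.Agent.Lib.Helper10.card_sup_mul_card_inf (H := W) (K := K)
      (by rw [normalizer_eq_top]; exact le_top)
    rw [hWK, Subgroup.card_bot, mul_one, hWKS] at h2
    rw [h1, card_eq_mul hSA hDc, h2]
    ring

/-- If `K` has prime order and is the only subgroup of its order in `S ≠ K`, then `D`
centralizes `S`. -/
theorem le_centralizer_of_unique {q : ℕ} [hq : Fact q.Prime] (hKS : K ≤ S)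
    (hSq : IsPGroup q S)
    (hfix : ∀ y ∈ S, ∃ n ∈ K, n⁻¹ * y ∈ centralizer (D : Set G))
    (huniq : ∀ Z : Subgroup G, Z ≤ S → Nat.card Z = q → Z = K) (hne : S ≠ K) :
    S ≤ centralizer (D : Set G) := by
  apply le_centralizer_of_le K hKS hfix
  set C := S ⊓ centralizer (D : Set G) with hC
  have hCne : C ≠ ⊥ := by
    intro h0
    apply hne
    have := le_sup_fix K hKS hfix
    rw [← hC, h0, sup_bot_eq] at this
    exact le_antisymm this hKS
  have hCq : IsPGroup q C := hSq.to_le inf_le_left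
  obtain ⟨k, hk⟩ := IsPGroup.iff_card.mp hCq
  have hk0 : k ≠ 0 := by
    rintro rfl
    rw [pow_zero] at hk
    exact hCne ((Subgroup.card_eq_one).mp hk)
  have hdvd : q ∣ Nat.card C := by rw [hk]; exact dvd_pow_self q hk0
  obtain ⟨c, hc⟩ := exists_prime_orderOf_dvd_card' q hdvd
  have hcard : Nat.card (zpowers (c : G)) = q := by
    rw [Nat.card_zpowers, Subgroup.orderOf_coe, hc]
  have hle : zpowers (c : G) ≤ C := by rw [zpowers_le]; exact c.2
  have := huniq _ (hle.trans inf_le_left) hcard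
  rw [← this]
  exact hle.trans inf_le_right

end cases

/-- The structure of a Sylow subgroup that the argument needs. -/
def GoodSyl (q : ℕ) (Q : Subgroup G) : Prop :=
  IsCyclic Q ∨ ((∀ x ∈ Q, ∀ y ∈ Q, x * y = y * x) ∧ ∀ x ∈ Q, x ^ q = 1) ∨
    (q = 2 ∧ Nat.card Q = 8 ∧ ∀ x ∈ Q, ∀ y ∈ Q, orderOf x = 2 → orderOf y = 2 → x = y)

theorem exists_cj_le [Finite G] {q : ℕ} [Fact q.Prime] {Q0 : Subgroup G} (hQ0 : IsPGroup q Q0)
    (hQ0i : ¬ q ∣ Q0.index) {T : Subgroup G} (hT : IsPGroup q T) : ∃ c : G, cj c T ≤ Q0 := by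
  obtain ⟨c, -, hc⟩ := sylow_sub (K := ⊤) (P := Q0) le_top hQ0 (by rwa [relIndex_top_right])
    le_top hT
  exact ⟨c, hc⟩

theorem isCyclic_of_cj_le {Q0 T : Subgroup G} {c : G} (hQ : IsCyclic Q0) (h : cj c T ≤ Q0) :
    IsCyclic T := by
  have : IsCyclic (cj c T) := isCyclic_of_le h
  exact isCyclic_of_surjective (cjEquiv c T).symm (cjEquiv c T).symm.surjective

theorem comm_of_cj_le {Q0 T : Subgroup G} {c : G} (hQ : ∀ x ∈ Q0, ∀ y ∈ Q0, x * y = y * x)
    (h : cj c T ≤ Q0) : ∀ x ∈ T, ∀ y ∈ T, x * y = y * x := by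
  intro x hx y hy
  have h1 := hQ _ (h (conj_mem_cj (g := c) hx)) _ (h (conj_mem_cj (g := c) hy))
  have e1 : c * x * c⁻¹ * (c * y * c⁻¹) = c * (x * y) * c⁻¹ := by group
  have e2 : c * y * c⁻¹ * (c * x * c⁻¹) = c * (y * x) * c⁻¹ := by group
  rw [e1, e2] at h1
  exact mul_left_cancel (mul_right_cancel h1)

theorem exp_of_cj_le {q : ℕ} {Q0 T : Subgroup G} {c : G} (hQ : ∀ x ∈ Q0, x ^ q = 1)
    (h : cj c T ≤ Q0) : ∀ x ∈ T, x ^ q = 1 := by
  intro x hx
  have h1 := hQ _ (h (conj_mem_cj (g := c) hx))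
  rw [conj_pow] at h1
  have : x ^ q = c⁻¹ * (c * x ^ q * c⁻¹) * c := by group
  rw [this, h1]; group

theorem invol_of_cj_le {Q0 T : Subgroup G} {c : G}
    (hQ : ∀ x ∈ Q0, ∀ y ∈ Q0, orderOf x = 2 → orderOf y = 2 → x = y)
    (h : cj c T ≤ Q0) : ∀ x ∈ T, ∀ y ∈ T, orderOf x = 2 → orderOf y = 2 → x = y := by
  intro x hx y hy hx2 hy2
  have h1 := hQ _ (h (conj_mem_cj (g := c) hx)) _ (h (conj_mem_cj (g := c) hy))
    (by rw [orderOf_conj_eq, hx2]) (by rw [orderOf_conj_eq, hy2])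
  exact mul_left_cancel (mul_right_cancel h1)

theorem conj_of_sylow [Finite G] (hA : PropA G) {q : ℕ} [Fact q.Prime]
    {A B S S' D D' : Subgroup G} (hSq : IsPGroup q S) (hSq' : IsPGroup q S')
    (hSi : ¬ q ∣ S.index) (hScard : Nat.card S = Nat.card S')
    (hDsup : D ⊔ S = A) (hDsup' : D' ⊔ S' = B)
    (hDcomm : ∀ x ∈ D, ∀ y ∈ D, x * y = y * x) (hDcomm' : ∀ x ∈ D', ∀ y ∈ D', x * y = y * x)
    (hDcard : Nat.card D = Nat.card D')
    (hSD : S ≤ centralizer (D : Set G)) (hSD' : S' ≤ centralizer (D' : Set G)) :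
    ∃ g : G, cj g A = B := by
  obtain ⟨g, hg⟩ := hA.conj hDcomm hDcomm' hDcard
  have h1 : cj g S ≤ centralizer (D' : Set G) := by
    rw [← hg, centralizer_cj]; exact cj_mono hSD
  have hS'i : ¬ q ∣ S'.index := by rw [← index_eq_of_card_eq hScard]; exact hSi
  have hrel : ¬ q ∣ S'.relIndex (centralizer (D' : Set G)) := fun h =>
    hS'i (by rw [← relIndex_mul_index hSD']; exact dvd_mul_of_dvd_left h _)
  obtain ⟨c, hcH, hc⟩ := sylow_sub hSD' hSq' hrel h1 (isPGroup_cj hSq)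
  have hceq : cj c (cj g S) = S' := eq_of_le_of_card_ge hc (by rw [card_cj, card_cj, hScard])
  have hcD : cj c D' = D' := cj_eq_self_iff.mpr (centralizer_le_normalizer _ hcH)
  exact ⟨c * g, by rw [cj_mul, ← hDsup, cj_sup, cj_sup, hg, hcD, hceq, hDsup']⟩

/-- **Core step**: property (A) passes to the quotient by a nontrivial normal elementary abelian
`q`-subgroup, given the structure of the Sylow `q`-subgroups. -/
theorem core [Finite G] (hA : PropA G) {q : ℕ} [hq : Fact q.Prime] (K : Subgroup G) [K.Normal]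
    (hKne : K ≠ ⊥) (hKe : ∀ x ∈ K, x ^ q = 1) (hKq : IsPGroup q K)
    (Q0 : Subgroup G) (hQ0 : IsPGroup q Q0) (hQ0i : ¬ q ∣ Q0.index) (hgood : GoodSyl q Q0) :
    PropAMod K := by
  intro A B hKA hKB hAc hBc hAB
  obtain ⟨S, D, hKS, hSA, hSq, hSi, hDA, hDc, hDS, hDsup, hDcomm, hfix⟩ := prep K hKq A hKA hAc
  obtain ⟨S', D', hKS', hSB, hSq', hSi', hDB, hDc', hDS', hDsup', hDcomm', hfix'⟩ :=
    prep K hKq B hKB hBc
  have hScard : Nat.card S = Nat.card S' := by
    rw [card_relSyl hq.out hSA hSq hSi, card_relSyl hq.out hSB hSq' hSi', hAB]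
  have hDcard : Nat.card D = Nat.card D' := by
    have h1 := card_eq_mul hSA hDc
    have h2 := card_eq_mul hSB hDc'
    rw [hAB, h2, hScard] at h1
    exact (Nat.eq_of_mul_eq_mul_left Nat.card_pos h1).symm
  have hSK_iff : S = K ↔ S' = K := by
    constructor
    · intro h; exact (eq_of_le_of_card_ge hKS' (by rw [← hScard, h])).symm
    · intro h; exact (eq_of_le_of_card_ge hKS (by rw [hScard, h])).symm
  obtain ⟨c, hc⟩ := exists_cj_le hQ0 hQ0i hSq
  obtain ⟨c', hc'⟩ := exists_cj_le hQ0 hQ0i hSq'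
  have hcompl : S = K → ∃ g : G, cj g A = B := fun hSK =>
    conj_of_absupp hA K Nat.card_pos (absupp_compl K hSA hDc hDsup hDcomm hSK)
      (absupp_compl K hSB hDc' hDsup' hDcomm' (hSK_iff.mp hSK)) hAB
  rcases hgood with hcyc | ⟨hcom, hexp⟩ | ⟨h2, h8, hinv⟩
  · -- cyclic Sylow subgroup
    have hScyc : IsCyclic S := isCyclic_of_cj_le hcyc hc
    have hS'cyc : IsCyclic S' := isCyclic_of_cj_le hcyc hc'
    have hKcyc : IsCyclic K := isCyclic_of_le hKS
    have hKcard : Nat.card K = q := by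
      obtain ⟨g, hg⟩ := IsCyclic.exists_generator (α := K)
      have h1 : orderOf g = Nat.card K := orderOf_eq_card_of_forall_mem_zpowers hg
      have h2 : g ^ q = 1 := by
        apply Subtype.ext
        rw [Subgroup.coe_pow]
        exact hKe g g.2
      have h3 : Nat.card K ∣ q := h1 ▸ orderOf_dvd_of_pow_eq_one h2
      rcases (Nat.dvd_prime hq.out).mp h3 with h4 | h4
      · exact absurd (Subgroup.card_eq_one.mp h4) hKne
      · exact h4
    by_cases hSK : S = K
    · exact hcompl hSK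
    · have hS'K : S' ≠ K := fun h => hSK (hSK_iff.mpr h)
      have hu : ∀ Z : Subgroup G, Z ≤ S → Nat.card Z = q → Z = K := fun Z hZ hZc =>
        eq_of_le_isCyclic_of_card_eq S Z K hZ hKS (by rw [hZc, hKcard])
      have hu' : ∀ Z : Subgroup G, Z ≤ S' → Nat.card Z = q → Z = K := fun Z hZ hZc =>
        eq_of_le_isCyclic_of_card_eq S' Z K hZ hKS' (by rw [hZc, hKcard])
      have hScomm : ∀ x ∈ S, ∀ y ∈ S, x * y = y * x :=
        forall_of_isMulCommutative IsCyclic.isMulCommutative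
      have hS'comm : ∀ x ∈ S', ∀ y ∈ S', x * y = y * x :=
        forall_of_isMulCommutative IsCyclic.isMulCommutative
      exact conj_of_absupp hA K one_pos
        (absupp_whole K hKA hDsup hDcomm hScomm
          (le_centralizer_of_unique K hKS hSq hfix hu hSK))
        (absupp_whole K hKB hDsup' hDcomm' hS'comm
          (le_centralizer_of_unique K hKS' hSq' hfix' hu' hS'K)) hAB
  · -- elementary abelian Sylow subgroup
    exact conj_of_absupp hA K Nat.card_pos
      (absupp_elem K hq.out hKS hSA hDA hDc hDS hDsup hDcomm hfix (comm_of_cj_le hcom hc)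
        (exp_of_cj_le hexp hc))
      (absupp_elem K hq.out hKS' hSB hDB hDc' hDS' hDsup' hDcomm' hfix' (comm_of_cj_le hcom hc')
        (exp_of_cj_le hexp hc')) hAB
  · -- order 8 with a unique involution
    subst h2
    have hKQ : K ≤ Q0 := by
      obtain ⟨c0, hc0⟩ := exists_cj_le hQ0 hQ0i hKq
      rwa [cj_of_normal] at hc0
    obtain ⟨z, hz1⟩ := (Subgroup.ne_bot_iff_exists_ne_one).mp hKne
    have hz1' : (z : G) ≠ 1 := fun h => hz1 (Subtype.ext h)
    have hz2 : orderOf (z : G) = 2 := orderOf_eq_prime (hKe z z.2) hz1'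
    have hKz : K = zpowers (z : G) := by
      apply le_antisymm
      · intro x hx
        by_cases hx1 : x = 1
        · rw [hx1]; exact one_mem _
        · have hx2 : orderOf x = 2 := orderOf_eq_prime (hKe x hx) hx1
          rw [hinv x (hKQ hx) z (hKQ z.2) hx2 hz2]
          exact mem_zpowers _
      · rw [zpowers_le]; exact z.2
    have hKcard : Nat.card K = 2 := by rw [hKz, Nat.card_zpowers, hz2]
    have huniq : ∀ T : Subgroup G, K ≤ T →
        (∀ x ∈ T, ∀ y ∈ T, orderOf x = 2 → orderOf y = 2 → x = y) →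
        ∀ Z : Subgroup G, Z ≤ T → Nat.card Z = 2 → Z = K := by
      intro T hKT hT Z hZT hZc
      have hZne : Z ≠ ⊥ := by
        intro h0
        rw [h0, Subgroup.card_bot] at hZc
        omega
      obtain ⟨u, hu1⟩ := (Subgroup.ne_bot_iff_exists_ne_one).mp hZne
      have hu1' : (u : G) ≠ 1 := fun h => hu1 (Subtype.ext h)
      have hu2 : orderOf (u : G) = 2 := by
        have h1 : orderOf (u : G) ∣ 2 := hZc ▸ Z.orderOf_dvd_natCard u.2
        rcases (Nat.dvd_prime Nat.prime_two).mp h1 with h | h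
        · exact absurd (orderOf_eq_one_iff.mp h) hu1'
        · exact h
      have huz : (u : G) = z := hT u (hZT u.2) z (hKT z.2) hu2 hz2
      have : zpowers (u : G) = Z :=
        eq_of_le_of_card_ge (by rw [zpowers_le]; exact u.2) (by rw [Nat.card_zpowers, hu2, hZc])
      rw [← this, huz]
      exact hKz.symm
    by_cases hSK : S = K
    · exact hcompl hSK
    · have hS'K : S' ≠ K := fun h => hSK (hSK_iff.mpr h)
      have hSD := le_centralizer_of_unique K hKS hSq hfix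
        (huniq S hKS (invol_of_cj_le hinv hc)) hSK
      have hSD' := le_centralizer_of_unique K hKS' hSq' hfix'
        (huniq S' hKS' (invol_of_cj_le hinv hc')) hS'K
      obtain ⟨k, hk⟩ := IsPGroup.iff_card.mp hSq
      have hdvd : 2 ^ k ∣ 2 ^ 3 := by
        have : Nat.card (cj c S) ∣ Nat.card Q0 := Subgroup.card_dvd_of_le hc
        rw [card_cj, hk, h8] at this
        exact this
      have hk3 : k ≤ 3 := (Nat.pow_dvd_pow_iff_le_right (by norm_num)).mp hdvd
      have hk2 : 2 ≤ k := by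
        by_contra hlt
        have hk1 : k ≤ 1 := by omega
        apply hSK
        refine (eq_of_le_of_card_ge hKS ?_).symm
        rw [hk, hKcard]
        calc 2 ^ k ≤ 2 ^ 1 := Nat.pow_le_pow_right (by norm_num) hk1
          _ = 2 := by norm_num
      have hk23 : k = 2 ∨ k = 3 := by omega
      rcases hk23 with rfl | rfl
      · have hScomm : ∀ x ∈ S, ∀ y ∈ S, x * y = y * x :=
          forall_of_isMulCommutative (IsPGroup.isMulCommutative_of_card_eq_prime_sq hk)
        have hS'comm : ∀ x ∈ S', ∀ y ∈ S', x * y = y * x :=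
          forall_of_isMulCommutative
            (IsPGroup.isMulCommutative_of_card_eq_prime_sq (hScard ▸ hk))
        exact conj_of_absupp hA K one_pos
          (absupp_whole K hKA hDsup hDcomm hScomm hSD)
          (absupp_whole K hKB hDsup' hDcomm' hS'comm hSD') hAB
      · have hSidx : ¬ 2 ∣ S.index := by
          have : S.index = Q0.index := index_eq_of_card_eq (by rw [hk, h8]; norm_num)
          rw [this]; exact hQ0i
        exact conj_of_sylow hA hSq hSq' hSidx hScard hDsup hDsup' hDcomm hDcomm' hDcard hSD hSD'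

end Cfsg.Agent.Lib.Helper67.PA
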