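import Mathlib
import Cfsg.Agent.Lib.Helper67.PropACore
import Cfsg.Agent.Lib.Helper1.Basic
import Cfsg.Agent.Lib.Helper1.Carter1
import Cfsg.Agent.S0016

/-!
# Sylow structure of solvable groups with property (A)

For a nontrivial normal elementary abelian `r`-subgroup `K` of a finite solvable group `G` with
property (A), the Sylow `r`-subgroups are cyclic, elementary abelian, or of order `8` with a
unique involution.
-/

set_option autoImplicit false
set_option linter.unusedSectionVars false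
set_option linter.unusedVariables false

namespace Cfsg.Agent.Lib.Helper67.PA

open Subgroup Cfsg.Agent.Lib.Helper33 Cfsg.Agent.Lib.Helper67

universe u

section quat

theorem qa_mem (m : ℕ) [NeZero m] (j : ZMod (2 * m)) :
    (QuaternionGroup.a j : QuaternionGroup m) ∈ zpowers (QuaternionGroup.a 1 : QuaternionGroup m) := by
  rw [mem_zpowers_iff]
  refine ⟨(j.val : ℤ), ?_⟩
  rw [zpow_natCast, QuaternionGroup.a_one_pow, ZMod.natCast_zmod_val]

theorem q1 (m : ℕ) [NeZero m] (w : QuaternionGroup m) :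
    w ∈ zpowers (QuaternionGroup.a 1 : QuaternionGroup m) ∨ orderOf w = 4 := by
  cases w with
  | a j => exact Or.inl (qa_mem m j)
  | xa j => exact Or.inr (QuaternionGroup.orderOf_xa j)

theorem q2 (m : ℕ) [NeZero m] :
    (QuaternionGroup.xa 0 : QuaternionGroup m) ∉ zpowers (QuaternionGroup.a 1 : QuaternionGroup m) := by
  intro h
  rw [← mem_powers_iff_mem_zpowers, Submonoid.mem_powers_iff] at h
  obtain ⟨k, hk⟩ := h
  rw [QuaternionGroup.a_one_pow] at hk
  cases hk

theorem q3 (m : ℕ) : (QuaternionGroup.a 1 : QuaternionGroup m) =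
    QuaternionGroup.xa 0 * QuaternionGroup.xa 1 * (QuaternionGroup.xa 0 * QuaternionGroup.xa 0) := by
  rw [QuaternionGroup.xa_mul_xa, QuaternionGroup.xa_mul_xa, QuaternionGroup.a_mul_a]
  congr 1
  have : ((2 * m : ℕ) : ZMod (2 * m)) = 0 := ZMod.natCast_self _
  push_cast at this
  linear_combination -this

theorem q5 (m : ℕ) (hm : 2 ≤ m) (h : ∀ x y : QuaternionGroup m, x * y = y * x) : False := by
  have h1 := h (QuaternionGroup.xa 0) (QuaternionGroup.a 1)
  rw [QuaternionGroup.xa_mul_a, QuaternionGroup.a_mul_xa] at h1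
  have h2 : (0 + 1 : ZMod (2 * m)) = 0 - 1 := by
    injection h1
  have h3 : ((2 : ℕ) : ZMod (2 * m)) = 0 := by
    push_cast
    linear_combination h2
  rw [ZMod.natCast_eq_zero_iff] at h3
  have := Nat.le_of_dvd (by norm_num) h3
  omega

end quat

variable {G : Type*} [Group G]

theorem zpowers_comm (t : G) : ∀ x ∈ zpowers t, ∀ z ∈ zpowers t, x * z = z * x := by
  intro x hx z hz
  obtain ⟨i, rfl⟩ := mem_zpowers_iff.mp hx
  obtain ⟨l, rfl⟩ := mem_zpowers_iff.mp hz
  exact Commute.zpow_zpow_self t i l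

theorem isPGroup_of_exp {r : ℕ} (K : Subgroup G) (hKe : ∀ x ∈ K, x ^ r = 1) : IsPGroup r K :=
  fun g => ⟨1, by rw [pow_one]; exact Subtype.ext (by rw [Subgroup.coe_pow]; exact hKe g g.2)⟩

/-- All subgroups of order `r` lie in a nontrivial normal elementary abelian `r`-subgroup. -/
theorem le_of_card_prime [Finite G] (hA : PropA G) {r : ℕ} [hr : Fact r.Prime] (K : Subgroup G)
    [K.Normal] (hKne : K ≠ ⊥) (hKe : ∀ x ∈ K, x ^ r = 1) (H : Subgroup G)
    (hH : Nat.card H = r) : H ≤ K := by
  obtain ⟨z, hz1⟩ := (Subgroup.ne_bot_iff_exists_ne_one).mp hKne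
  have hz1' : (z : G) ≠ 1 := fun h => hz1 (Subtype.ext h)
  have hz : orderOf (z : G) = r := orderOf_eq_prime (hKe z z.2) hz1'
  have hZc : Nat.card (zpowers (z : G)) = r := by rw [Nat.card_zpowers, hz]
  have hcomm : ∀ X : Subgroup G, Nat.card X = r → ∀ x ∈ X, ∀ y ∈ X, x * y = y * x := by
    intro X hX
    have : IsCyclic X := isCyclic_of_prime_card hX
    exact forall_of_isMulCommutative IsCyclic.isMulCommutative
  obtain ⟨g, hg⟩ := hA.conj (hcomm _ hZc) (hcomm H hH) (by rw [hZc, hH])
  rw [← hg]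
  have : cj g (zpowers (z : G)) ≤ cj g K := cj_mono (by rw [zpowers_le]; exact z.2)
  rwa [cj_of_normal K g] at this

/-- First structure result: good, or generalized quaternion of order at least `16`. -/
theorem struct0 [Finite G] (hA : PropA G) {r : ℕ} [hr : Fact r.Prime] (K : Subgroup G) [K.Normal]
    (hKne : K ≠ ⊥) (hKc : ∀ x ∈ K, ∀ y ∈ K, x * y = y * x) (hKe : ∀ x ∈ K, x ^ r = 1)
    (R : Subgroup G) (hR : IsPGroup r R) :
    GoodSyl r R ∨ (r = 2 ∧ Nat.card K = 2 ∧ (∀ H : Subgroup G, Nat.card H = 2 → H = K) ∧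
      ∃ n, 2 ≤ n ∧ Nonempty (R ≃* QuaternionGroup (2 ^ n))) := by
  have hsub := le_of_card_prime hA K hKne hKe
  by_cases hexp : ∀ x ∈ R, x ^ r = 1
  · left; right; left
    have hRK : R ≤ K := by
      intro x hx
      by_cases hx1 : x = 1
      · rw [hx1]; exact one_mem _
      · have : orderOf x = r := orderOf_eq_prime (hexp x hx) hx1
        exact hsub (zpowers x) (by rw [Nat.card_zpowers, this]) (mem_zpowers x)
    exact ⟨fun x hx y hy => hKc x (hRK hx) y (hRK hy), hexp⟩
  · push Not at hexp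
    obtain ⟨y, hyR, hyr⟩ := hexp
    obtain ⟨k, hk⟩ := (IsPGroup.iff_orderOf.mp hR) ⟨y, hyR⟩
    rw [Subgroup.orderOf_mk] at hk
    have hk2 : 2 ≤ k := by
      by_contra hlt
      have hk1 : k ≤ 1 := by omega
      apply hyr
      have : orderOf y ∣ r := by
        rw [hk]
        calc r ^ k ∣ r ^ 1 := pow_dvd_pow r hk1
          _ = r := pow_one r
      exact orderOf_dvd_iff_pow_eq_one.mp this
    set y' := y ^ (r ^ (k - 2)) with hy'
    have hy'ord : orderOf y' = r ^ 2 := by
      rw [hy', orderOf_pow_of_dvd (pow_pos hr.out.pos _).ne'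
        (by rw [hk]; exact pow_dvd_pow r (by omega)), hk, Nat.pow_div (by omega) hr.out.pos]
      congr 1; omega
    have hKq : IsPGroup r K := isPGroup_of_exp K hKe
    obtain ⟨j, hj⟩ := IsPGroup.iff_card.mp hKq
    have hKcard : Nat.card K = r := by
      by_contra hne
      have hj2 : 2 ≤ j := by
        rcases j with _ | _ | j
        · exact absurd (Subgroup.card_eq_one.mp (by simpa using hj)) hKne
        · exact absurd (by simpa using hj) hne
        · omega
      obtain ⟨E', hE'⟩ := Sylow.exists_subgroup_card_pow_prime (G := K) r (n := 2)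
        (by rw [hj]; exact pow_dvd_pow r hj2)
      have hEK : E'.map K.subtype ≤ K := Subgroup.map_subtype_le E'
      have hEc : Nat.card (E'.map K.subtype) = r ^ 2 := by
        rw [Subgroup.card_map_of_injective K.subtype_injective, hE']
      have hYc : Nat.card (zpowers y') = r ^ 2 := by rw [Nat.card_zpowers, hy'ord]
      obtain ⟨g, hg⟩ := hA.conj (zpowers_comm y')
        (fun x hx z hz => hKc x (hEK hx) z (hEK hz)) (by rw [hYc, hEc])
      have h1 : g * y' * g⁻¹ ∈ K := hEK (hg ▸ conj_mem_cj (mem_zpowers y'))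
      have h2 := hKe _ h1
      rw [conj_pow] at h2
      have h3 : y' ^ r = 1 := by
        have : y' ^ r = g⁻¹ * (g * y' ^ r * g⁻¹) * g := by group
        rw [this, h2]; group
      have h4 := orderOf_dvd_of_pow_eq_one h3
      rw [hy'ord] at h4
      have h5 := Nat.le_of_dvd hr.out.pos h4
      nlinarith [hr.out.two_le]
    have huG : ∀ H : Subgroup G, Nat.card H = r → H = K := fun H hH =>
      eq_of_le_of_card_ge (hsub H hH) (by rw [hKcard, hH])
    have huR : ∀ H₁ H₂ : Subgroup R, Nat.card H₁ = r → Nat.card H₂ = r → H₁ = H₂ := by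
      intro H₁ H₂ h1 h2
      apply Subgroup.map_injective R.subtype_injective
      rw [huG (H₁.map R.subtype) (by rw [Subgroup.card_map_of_injective R.subtype_injective, h1]),
        huG (H₂.map R.subtype) (by rw [Subgroup.card_map_of_injective R.subtype_injective, h2])]
    rcases Cfsg.Agent.S0016.result r hR huR with hcyc | ⟨h2, n, ⟨e⟩⟩
    · left; left; exact hcyc
    · subst h2
      rcases n with _ | _ | n
      · left; left
        have : IsCyclic (QuaternionGroup (2 ^ 0)) :=
          QuaternionGroup.quaternionGroup_one_isCyclic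
        exact isCyclic_of_surjective e.symm e.symm.surjective
      · left; right; right
        refine ⟨rfl, ?_, ?_⟩
        · rw [Nat.card_congr e.toEquiv, Nat.card_eq_fintype_card, QuaternionGroup.card]
          norm_num
        · intro x hx y hy hx2 hy2
          have h1 := huG (zpowers x) (by rw [Nat.card_zpowers, hx2])
          have h2 := huG (zpowers y) (by rw [Nat.card_zpowers, hy2])
          have hxK : x ∈ K := h1 ▸ mem_zpowers x
          have hyK : y ∈ K := h2 ▸ mem_zpowers y
          obtain ⟨w, -, hw⟩ := (Nat.card_eq_two_iff' (1 : K)).mp hKcard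
          have hx1 : (⟨x, hxK⟩ : K) ≠ 1 := by
            intro h
            have h' : x = 1 := congrArg Subtype.val h
            rw [h', orderOf_one] at hx2
            omega
          have hy1 : (⟨y, hyK⟩ : K) ≠ 1 := by
            intro h
            have h' : y = 1 := congrArg Subtype.val h
            rw [h', orderOf_one] at hy2
            omega
          have := (hw ⟨x, hxK⟩ hx1).trans (hw ⟨y, hyK⟩ hy1).symm
          exact congrArg Subtype.val this
      · right
        exact ⟨rfl, hKcard, huG, n + 1 + 1, by omega, ⟨e⟩⟩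

/-- A generalized quaternion Sylow `2`-subgroup of order at least `16` is incompatible with a
normal `2`-subgroup of order at least `4`. -/
theorem quat_contra [Finite G] (hA : PropA G) (K : Subgroup G)
    (huG : ∀ H : Subgroup G, Nat.card H = 2 → H = K)
    (P : Subgroup G) (hP : IsPGroup 2 P) (hPi : ¬ 2 ∣ P.index) {n : ℕ} (hn : 2 ≤ n)
    (e : P ≃* QuaternionGroup (2 ^ n)) (N : Subgroup G) [hNn : N.Normal] (hN : IsPGroup 2 N)
    (hN4 : 4 ≤ Nat.card N) : False := by
  have : Fact (Nat.Prime 2) := ⟨Nat.prime_two⟩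
  have hNP : N ≤ P := by
    obtain ⟨c, hc⟩ := exists_cj_le hP hPi hN
    rwa [cj_of_normal N c] at hc
  -- an element of order 4 in N
  have hu : ∃ u ∈ N, orderOf u = 4 := by
    obtain ⟨j, hj⟩ := IsPGroup.iff_card.mp hN
    have hj2 : 2 ≤ j := by
      by_contra hlt
      have h1 : j ≤ 1 := by omega
      have h2 : 2 ^ j ≤ 2 ^ 1 := Nat.pow_le_pow_right (by norm_num) h1
      omega
    obtain ⟨E', hE'⟩ := Sylow.exists_subgroup_card_pow_prime (G := N) 2 (n := 2)
      (by rw [hj]; exact pow_dvd_pow 2 hj2)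
    have hEN : E'.map N.subtype ≤ N := Subgroup.map_subtype_le E'
    have hEc : Nat.card (E'.map N.subtype) = 4 := by
      rw [Subgroup.card_map_of_injective N.subtype_injective, hE']; norm_num
    have hord : ∀ x ∈ E'.map N.subtype, orderOf x = 1 ∨ orderOf x = 2 ∨ orderOf x = 4 := by
      intro x hx
      have h1 : orderOf x ∣ 2 ^ 2 := by
        have := (E'.map N.subtype).orderOf_dvd_natCard hx
        rwa [hEc] at this
      obtain ⟨k, hk, hk'⟩ := (Nat.dvd_prime_pow Nat.prime_two).mp h1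
      interval_cases k <;> simp_all
    have hEne : E'.map N.subtype ≠ ⊥ := by
      intro h; rw [h, Subgroup.card_bot] at hEc; omega
    obtain ⟨x, hx1⟩ := (Subgroup.ne_bot_iff_exists_ne_one).mp hEne
    have hx1' : (x : G) ≠ 1 := fun h => hx1 (Subtype.ext h)
    rcases hord x x.2 with h | h | h
    · exact absurd (orderOf_eq_one_iff.mp h) hx1'
    · have hxK : zpowers (x : G) = K := huG _ (by rw [Nat.card_zpowers, h])
      have hlt : zpowers (x : G) < E'.map N.subtype := by
        refine lt_of_le_of_ne (by rw [zpowers_le]; exact x.2) ?_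
        intro heq
        have h1 : Nat.card (zpowers (x : G)) = Nat.card (E'.map N.subtype) := by rw [heq]
        rw [Nat.card_zpowers, h, hEc] at h1
        omega
      obtain ⟨y, hyE, hyn⟩ := SetLike.exists_of_lt hlt
      rcases hord y hyE with h' | h' | h'
      · exact absurd (by rw [orderOf_eq_one_iff.mp h']; exact one_mem _) hyn
      · exfalso; apply hyn
        rw [hxK, ← huG (zpowers y) (by rw [Nat.card_zpowers, h'])]
        exact mem_zpowers y
      · exact ⟨y, hEN hyE, h'⟩
    · exact ⟨x, hEN x.2, h⟩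
  obtain ⟨u, huN, hu4⟩ := hu
  have h4N : ∀ t : G, orderOf t = 4 → t ∈ N := by
    intro t ht
    obtain ⟨g, hg⟩ := hA.conj (zpowers_comm u) (zpowers_comm t)
      (by rw [Nat.card_zpowers, Nat.card_zpowers, hu4, ht])
    have h1 : cj g (zpowers u) ≤ cj g N := cj_mono (by rw [zpowers_le]; exact huN)
    rw [cj_of_normal N g, hg] at h1
    exact h1 (mem_zpowers t)
  -- quaternion elements
  have hαP : ∃ αP : P, αP = e.symm (QuaternionGroup.a 1) := ⟨_, rfl⟩
  obtain ⟨αP, hαP⟩ := hαP
  have hx0 : ∃ x0 : P, x0 = e.symm (QuaternionGroup.xa 0) := ⟨_, rfl⟩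
  obtain ⟨x0, hx0⟩ := hx0
  have hx1 : ∃ x1 : P, x1 = e.symm (QuaternionGroup.xa 1) := ⟨_, rfl⟩
  obtain ⟨x1, hx1⟩ := hx1
  have hx0ord : orderOf (x0 : G) = 4 := by
    rw [Subgroup.orderOf_coe, hx0, MulEquiv.orderOf_eq, QuaternionGroup.orderOf_xa]
  have hx1ord : orderOf (x1 : G) = 4 := by
    rw [Subgroup.orderOf_coe, hx1, MulEquiv.orderOf_eq, QuaternionGroup.orderOf_xa]
  have hα : (αP : G) = x0 * x1 * (x0 * x0) := by
    rw [hαP, q3, hx0, hx1]
    simp only [map_mul, Subgroup.coe_mul]
  have hαN : (αP : G) ∈ N := by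
    rw [hα]
    exact mul_mem (mul_mem (h4N _ hx0ord) (h4N _ hx1ord))
      (mul_mem (h4N _ hx0ord) (h4N _ hx0ord))
  have hαord : orderOf (αP : G) = 2 * 2 ^ n := by
    rw [Subgroup.orderOf_coe, hαP, MulEquiv.orderOf_eq, QuaternionGroup.orderOf_a_one]
  have hdich : ∀ t : P, t ∈ zpowers αP ∨ orderOf t = 4 := by
    intro t
    rcases q1 (2 ^ n) (e t) with h | h
    · left
      obtain ⟨i, hi⟩ := mem_zpowers_iff.mp h
      rw [mem_zpowers_iff]
      refine ⟨i, ?_⟩
      rw [hαP, ← map_zpow, hi, MulEquiv.symm_apply_apply]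
    · right; rw [← MulEquiv.orderOf_eq e t]; exact h
  have hx0not : x0 ∉ zpowers αP := by
    intro h
    obtain ⟨i, hi⟩ := mem_zpowers_iff.mp h
    apply q2 (2 ^ n)
    rw [mem_zpowers_iff]
    refine ⟨i, ?_⟩
    have := congrArg e hi
    rw [map_zpow, hαP, hx0, MulEquiv.apply_symm_apply, MulEquiv.apply_symm_apply] at this
    exact this
  -- the element of order 4 inside the rotation subgroup
  have hc4ord : orderOf ((αP : G) ^ (2 ^ (n - 1))) = 4 := by
    have hdvd : 2 ^ (n - 1) ∣ orderOf (αP : G) := by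
      rw [hαord]
      exact Dvd.dvd.mul_left (pow_dvd_pow 2 (by omega)) 2
    rw [orderOf_pow_of_dvd (pow_pos (by norm_num) _).ne' hdvd, hαord]
    have h1 : 2 * 2 ^ n = 4 * 2 ^ (n - 1) := by
      have : n = (n - 1) + 1 := by omega
      conv_lhs => rw [this, pow_succ]
      ring
    rw [h1, Nat.mul_div_cancel _ (pow_pos (by norm_num) _)]
  obtain ⟨g, hg⟩ := hA.conj (zpowers_comm ((αP : G) ^ (2 ^ (n - 1)))) (zpowers_comm (x0 : G))
    (by rw [Nat.card_zpowers, Nat.card_zpowers, hc4ord, hx0ord])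
  have h1 : (x0 : G) ∈ cj g (zpowers (αP : G)) := by
    have h2 : cj g (zpowers ((αP : G) ^ (2 ^ (n - 1)))) ≤ cj g (zpowers (αP : G)) :=
      cj_mono (by rw [zpowers_le]; exact pow_mem (mem_zpowers _) _)
    exact h2 (hg ▸ mem_zpowers (x0 : G))
  rw [cj_def, MonoidHom.map_zpowers] at h1
  have hβN : g * (αP : G) * g⁻¹ ∈ N := hNn.conj_mem _ hαN g
  have hβord : orderOf (⟨g * (αP : G) * g⁻¹, hNP hβN⟩ : P) = 2 * 2 ^ n := by
    rw [Subgroup.orderOf_mk, orderOf_conj_eq, hαord]
  have hβmem : (⟨g * (αP : G) * g⁻¹, hNP hβN⟩ : P) ∈ zpowers αP := by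
    rcases hdich ⟨g * (αP : G) * g⁻¹, hNP hβN⟩ with h | h
    · exact h
    · exfalso
      rw [hβord] at h
      have : 2 ^ 2 ≤ 2 ^ n := Nat.pow_le_pow_right (by norm_num) hn
      omega
  apply hx0not
  obtain ⟨i, hi⟩ := mem_zpowers_iff.mp h1
  have hx0β : x0 = (⟨g * (αP : G) * g⁻¹, hNP hβN⟩ : P) ^ i := by
    apply Subtype.ext
    rw [Subgroup.coe_zpow, ← hi]
    simp [MulAut.conj_apply]
  rw [hx0β]
  exact zpow_mem hβmem i

theorem not_good_quat {P : Subgroup G} {m : ℕ} (hm : 2 ≤ m)
    (e : P ≃* QuaternionGroup (2 ^ m)) : ¬ GoodSyl 2 P := by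
  have h4 : 2 ≤ 2 ^ m := by
    calc 2 = 2 ^ 1 := by norm_num
      _ ≤ 2 ^ m := Nat.pow_le_pow_right (by norm_num) (by omega)
  have hnc : ¬ ∀ x ∈ P, ∀ y ∈ P, x * y = y * x := by
    intro h
    apply q5 (2 ^ m) h4
    intro x y
    have h1 := h (e.symm x) (e.symm x).2 (e.symm y) (e.symm y).2
    have h' : e.symm x * e.symm y = e.symm y * e.symm x := Subtype.ext h1
    have h2 := congrArg e h'
    simpa using h2
  rintro (hcyc | ⟨hc, -⟩ | ⟨-, h8, -⟩)
  · exact hnc (forall_of_isMulCommutative IsCyclic.isMulCommutative)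
  · exact hnc hc
  · rw [Nat.card_congr e.toEquiv, Nat.card_eq_fintype_card, QuaternionGroup.card] at h8
    have : 2 ^ 2 ≤ 2 ^ m := Nat.pow_le_pow_right (by norm_num) hm
    omega

theorem exists_equiv_map {G' : Type*} [Group G'] (f : G →* G') (P : Subgroup G)
    (h : ∀ x ∈ P, f x = 1 → x = 1) : Nonempty (P ≃* P.map f) := by
  refine ⟨MulEquiv.ofBijective (f.subgroupMap P) ⟨?_, f.subgroupMap_surjective P⟩⟩
  rw [injective_iff_map_eq_one]
  intro x hx
  apply Subtype.ext
  apply h x x.2
  have := congrArg Subtype.val hx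
  simpa using this

/-- If all normal `2`-subgroups have order at most `2` there is a nontrivial normal elementary
abelian subgroup of odd order. -/
theorem odd_exists [Finite G] (hs : Group.IsSolvable G) (K : Subgroup G) [hKn : K.Normal]
    (hKcard : Nat.card K = 2)
    (hsmall : ∀ N : Subgroup G, N.Normal → IsPGroup 2 N → Nat.card N ≤ 2)
    (hG : 2 < Nat.card G) :
    ∃ (r : ℕ) (K' : Subgroup G), r.Prime ∧ r ≠ 2 ∧ K'.Normal ∧ K' ≠ ⊥ ∧
      (∀ x ∈ K', ∀ y ∈ K', x * y = y * x) ∧ ∀ x ∈ K', x ^ r = 1 := by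
  have hf : ∃ f : G →* G ⧸ K, f = QuotientGroup.mk' K := ⟨_, rfl⟩
  obtain ⟨f, hf⟩ := hf
  have hsurj : Function.Surjective f := hf ▸ QuotientGroup.mk'_surjective K
  have hker : f.ker = K := hf ▸ QuotientGroup.ker_mk' K
  have hqcard : Nat.card G = Nat.card (G ⧸ K) * 2 := by
    rw [← hKcard]; exact Subgroup.card_eq_card_quotient_mul_card_subgroup K
  have hnt : (⊤ : Subgroup (G ⧸ K)) ≠ ⊥ := by
    intro h
    have h1 : Nat.card (G ⧸ K) = 1 := by
      rw [← Subgroup.card_top (G := G ⧸ K), h, Subgroup.card_bot]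
    omega
  have hsq : Group.IsSolvable (⊤ : Subgroup (G ⧸ K)) := by have := hs; infer_instance
  obtain ⟨p, Rb, hp, -, hRbn, hRbne, hRbc, hRbe⟩ :=
    Cfsg.Agent.Lib.Helper1.exists_normal_elementary_le (⊤ : Subgroup (G ⧸ K)) hsq hnt
  have := Fact.mk hp
  have hRbp : IsPGroup p Rb := isPGroup_of_exp Rb hRbe
  obtain ⟨j, hj⟩ := IsPGroup.iff_card.mp hRbp
  have hj0 : j ≠ 0 := by
    rintro rfl
    exact hRbne (Subgroup.card_eq_one.mp (by simpa using hj))
  have hNn : (Rb.comap f).Normal := hRbn.comap f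
  have hKN : K ≤ Rb.comap f := by
    have := MonoidHom.ker_le_comap f Rb
    rwa [hker] at this
  have hrel : K.relIndex (Rb.comap f) = p ^ j := by
    have h := Subgroup.relIndex_ker (Rb.comap f) f
    rwa [hker, Subgroup.map_comap_eq_self_of_surjective hsurj, hj] at h
  have hNcard : Nat.card (Rb.comap f) = 2 * p ^ j := by
    rw [← card_mul_relIndex_of_le hKN, hKcard, hrel]
  have hp2 : p ≠ 2 := by
    rintro rfl
    have h1 : IsPGroup 2 (Rb.comap f) := IsPGroup.of_card (n := j + 1) (by rw [hNcard, pow_succ]; ring)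
    have h2 := hsmall _ hNn h1
    rw [hNcard] at h2
    have : 2 ^ 1 ≤ 2 ^ j := Nat.pow_le_pow_right (by norm_num) (by omega)
    omega
  have hcop2 : Nat.Coprime 2 (p ^ j) :=
    Nat.Coprime.pow_right _ ((Nat.coprime_primes Nat.prime_two hp).mpr (Ne.symm hp2))
  obtain ⟨B, hBN, hBc, hBK, hBsup⟩ := Cfsg.Agent.Lib.Helper24.rel_sz_exists K (Rb.comap f) hKN
    (by rw [normalizer_eq_top]; exact le_top) (by rw [hKcard, hrel]; exact hcop2)
  rw [hrel] at hBc
  have hBrel : B.relIndex (Rb.comap f) = 2 := by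
    have h1 := card_mul_relIndex_of_le hBN
    rw [hBc, hNcard, mul_comm] at h1
    exact Nat.eq_of_mul_eq_mul_right (pow_pos hp.pos j) h1
  have hBnorm : Rb.comap f ≤ normalizer (B : Set G) := by
    have : (B.subgroupOf (Rb.comap f)).Normal := Subgroup.normal_of_index_eq_two hBrel
    exact (Subgroup.normal_subgroupOf_iff_le_normalizer hBN).mp this
  have hBcj : ∀ g : G, cj g B = B := by
    intro g
    have hle : cj g B ≤ Rb.comap f := by
      have := cj_mono (g := g) hBN
      rwa [cj_of_normal (Rb.comap f) g] at this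
    exact Cfsg.Agent.Lib.Helper1.eq_of_normal_hall_of_card (Rb.comap f) B (cj g B) hBN hle hBnorm
      (by rw [hBc, hBrel]; exact hcop2.symm) (card_cj g B)
  have hBn : B.Normal := by
    constructor
    intro x hx g
    have := conj_mem_cj (g := g) hx
    rwa [hBcj g] at this
  have hBne : B ≠ ⊥ := by
    intro h
    rw [h, Subgroup.card_bot] at hBc
    have : 2 ^ 1 ≤ p ^ j := by
      calc 2 ^ 1 ≤ p ^ 1 := by simpa using hp.two_le
        _ ≤ p ^ j := Nat.pow_le_pow_right hp.pos (by omega)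
    omega
  have hmemK : ∀ x ∈ B, x ∈ K → x = 1 := by
    intro x hx hxK
    have : x ∈ B ⊓ K := Subgroup.mem_inf.mpr ⟨hx, hxK⟩
    rwa [hBK, mem_bot] at this
  refine ⟨p, B, hp, hp2, hBn, hBne, ?_, ?_⟩
  · intro x hx y hy
    have h1 : x * y * x⁻¹ * y⁻¹ ∈ K := by
      rw [← hker, MonoidHom.mem_ker]
      have h2 := forall_of_isMulCommutative hRbc (f x) (hBN hx) (f y) (hBN hy)
      simp only [map_mul, map_inv]
      rw [h2]; group
    have h3 := hmemK _ (mul_mem (mul_mem (mul_mem hx hy) (inv_mem hx)) (inv_mem hy)) h1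
    have : x * y = (x * y * x⁻¹ * y⁻¹) * (y * x) := by group
    rw [this, h3, one_mul]
  · intro x hx
    apply hmemK _ (pow_mem hx p)
    rw [← hker, MonoidHom.mem_ker, map_pow]
    exact hRbe (f x) (hBN hx)

/-- No finite solvable group with property (A) has a generalized quaternion Sylow `2`-subgroup
of order at least `16`. -/
theorem no_big_quat : ∀ (k : ℕ) (G : Type u) [Group G] [Finite G], Nat.card G = k →
    Group.IsSolvable G → PropA G → ∀ (P : Subgroup G), IsPGroup 2 P → ¬ 2 ∣ P.index →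
    ∀ m : ℕ, 2 ≤ m → Nonempty (P ≃* QuaternionGroup (2 ^ m)) → False := by
  intro k
  induction k using Nat.strong_induction_on with
  | _ k ih =>
    intro G _ _ hk hs hA P hP hPi m hm ⟨e⟩
    have : Fact (Nat.Prime 2) := ⟨Nat.prime_two⟩
    have hPcard : Nat.card P = 4 * 2 ^ m := by
      rw [Nat.card_congr e.toEquiv, Nat.card_eq_fintype_card, QuaternionGroup.card]
    have hG16 : 16 ≤ Nat.card G := by
      have h1 : Nat.card P ≤ Nat.card G := Subgroup.card_le_card_group P
      have : 2 ^ 2 ≤ 2 ^ m := Nat.pow_le_pow_right (by norm_num) hm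
      omega
    have hodd : ∃ (r : ℕ) (K : Subgroup G), r.Prime ∧ r ≠ 2 ∧ K.Normal ∧ K ≠ ⊥ ∧
        (∀ x ∈ K, ∀ y ∈ K, x * y = y * x) ∧ ∀ x ∈ K, x ^ r = 1 := by
      have hnt : (⊤ : Subgroup G) ≠ ⊥ := by
        intro h
        have h1 : Nat.card G = 1 := by
          rw [← Subgroup.card_top (G := G), h, Subgroup.card_bot]
        omega
      have hsT : Group.IsSolvable (⊤ : Subgroup G) := by have := hs; infer_instance
      obtain ⟨r, K, hr, -, hKn, hKne, hKc, hKe⟩ :=
        Cfsg.Agent.Lib.Helper1.exists_normal_elementary_le (⊤ : Subgroup G) hsT hnt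
      by_cases hr2 : r = 2
      · subst hr2
        have hKc' := forall_of_isMulCommutative hKc
        rcases struct0 hA K hKne hKc' hKe P hP with hgood | ⟨-, hKcard, huG, n, hn, ⟨e'⟩⟩
        · exact absurd hgood (not_good_quat hm e)
        · by_cases hbig : ∃ N : Subgroup G, N.Normal ∧ IsPGroup 2 N ∧ 4 ≤ Nat.card N
          · obtain ⟨N, hNn, hN2, hN4⟩ := hbig
            exact (quat_contra hA K huG P hP hPi hm e N hN2 hN4).elim
          · push Not at hbig
            refine odd_exists hs K hKcard (fun N hNn hN2 => ?_) (by omega)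
            have h1 := hbig N hNn hN2
            obtain ⟨j, hj⟩ := IsPGroup.iff_card.mp hN2
            rw [hj] at h1 ⊢
            by_contra hgt
            have hj2 : 2 ≤ j := by
              by_contra hlt
              have h2 : j ≤ 1 := by omega
              have : 2 ^ j ≤ 2 ^ 1 := Nat.pow_le_pow_right (by norm_num) h2
              omega
            have : 2 ^ 2 ≤ 2 ^ j := Nat.pow_le_pow_right (by norm_num) hj2
            omega
      · exact ⟨r, K, hr, hr2, hKn, hKne, forall_of_isMulCommutative hKc, hKe⟩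
    obtain ⟨r, K, hr, hr2, hKn, hKne, hKc, hKe⟩ := hodd
    have := Fact.mk hr
    obtain ⟨R⟩ := Sylow.nonempty (p := r) (G := G)
    have hgood : GoodSyl r (R : Subgroup G) := by
      rcases struct0 hA K hKne hKc hKe R R.isPGroup' with h | ⟨h, -⟩
      · exact h
      · exact absurd h hr2
    have hKr : IsPGroup r K := isPGroup_of_exp K hKe
    have hmod := core hA K hKne hKe hKr R R.isPGroup' R.not_dvd_index hgood
    have hAq : PropA (G ⧸ K) := hmod.quot K
    have hlt : Nat.card (G ⧸ K) < k := by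
      have h1 := Subgroup.card_eq_card_quotient_mul_card_subgroup K
      have h2 : 1 < Nat.card K := K.one_lt_card_iff_ne_bot.mpr hKne
      have h3 : 0 < Nat.card (G ⧸ K) := Nat.card_pos
      rw [← hk, h1]
      nlinarith
    have hcop : ∀ x ∈ P, QuotientGroup.mk' K x = 1 → x = 1 := by
      intro x hx h1
      have hxK : x ∈ K := by rwa [← QuotientGroup.ker_mk' K, MonoidHom.mem_ker]
      obtain ⟨a, ha⟩ := IsPGroup.iff_card.mp hKr
      obtain ⟨b, hb⟩ := IsPGroup.iff_card.mp hP
      have d1 : orderOf x ∣ r ^ a := ha ▸ K.orderOf_dvd_natCard hxK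
      have d2 : orderOf x ∣ 2 ^ b := hb ▸ P.orderOf_dvd_natCard hx
      have hc : Nat.Coprime (r ^ a) (2 ^ b) :=
        Nat.Coprime.pow _ _ ((Nat.coprime_primes hr Nat.prime_two).mpr hr2)
      have : orderOf x = 1 := Nat.eq_one_of_dvd_coprimes hc d1 d2
      exact orderOf_eq_one_iff.mp this
    obtain ⟨φ⟩ := exists_equiv_map (QuotientGroup.mk' K) P hcop
    exact ih _ hlt (G ⧸ K) rfl inferInstance hAq (P.map (QuotientGroup.mk' K))
      (hP.map _) (fun h => hPi (dvd_trans h (Subgroup.index_map_dvd P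
        (QuotientGroup.mk'_surjective K)))) m hm ⟨φ.symm.trans e⟩

/-- **Structure theorem.** -/
theorem struct1 {G : Type u} [Group G] [Finite G] (hs : Group.IsSolvable G) (hA : PropA G)
    {r : ℕ} [hr : Fact r.Prime] (K : Subgroup G) [K.Normal]
    (hKne : K ≠ ⊥) (hKc : ∀ x ∈ K, ∀ y ∈ K, x * y = y * x) (hKe : ∀ x ∈ K, x ^ r = 1)
    (R : Subgroup G) (hR : IsPGroup r R) (hRi : ¬ r ∣ R.index) : GoodSyl r R := by
  rcases struct0 hA K hKne hKc hKe R hR with h | ⟨h2, -, -, n, hn, he⟩
  · exact h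
  · subst h2
    exact (no_big_quat _ G rfl hs hA R hR hRi n hn he).elim

/-- **Main theorem**: property (A) modulo every normal subgroup. -/
theorem main : ∀ (k : ℕ) (G : Type u) [Group G] [Finite G], Nat.card G = k →
    Group.IsSolvable G → PropA G → ∀ (M : Subgroup G), M.Normal → PropAMod M := by
  intro k
  induction k using Nat.strong_induction_on with
  | _ k ih =>
    intro G _ _ hk hs hA M hMn
    by_cases hM : M = ⊥
    · subst hM; exact hA.mod_bot
    · have hsM : Group.IsSolvable M := by have := hs; infer_instance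
      obtain ⟨q, K, hq, hKM, hKn, hKne, hKc, hKe⟩ :=
        Cfsg.Agent.Lib.Helper1.exists_normal_elementary_le M hsM hM
      have := Fact.mk hq
      obtain ⟨R⟩ := Sylow.nonempty (p := q) (G := G)
      have hgood := struct1 hs hA K hKne (forall_of_isMulCommutative hKc) hKe R R.isPGroup'
        R.not_dvd_index
      have hKq : IsPGroup q K := isPGroup_of_exp K hKe
      have hmod := core hA K hKne hKe hKq R R.isPGroup' R.not_dvd_index hgood
      have hAq : PropA (G ⧸ K) := hmod.quot K
      have hlt : Nat.card (G ⧸ K) < k := by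
        have h1 := Subgroup.card_eq_card_quotient_mul_card_subgroup K
        have h2 : 1 < Nat.card K := K.one_lt_card_iff_ne_bot.mpr hKne
        have h3 : 0 < Nat.card (G ⧸ K) := Nat.card_pos
        rw [← hk, h1]
        nlinarith
      have hMbn : (M.map (QuotientGroup.mk' K)).Normal :=
        hMn.map _ (QuotientGroup.mk'_surjective K)
      have := ih _ hlt (G ⧸ K) rfl inferInstance hAq (M.map (QuotientGroup.mk' K)) hMbn
      exact PropAMod.of_quot K M hKM this

end Cfsg.Agent.Lib.Helper67.PA
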