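import Mathlib

set_option autoImplicit false

namespace Cfsg.Agent.Lib.Helper67

variable {G : Type*} [Group G]

/-- Index of `X` in `X ⊔ N` divides `|N|` for `N` normal. -/
theorem relIndex_sup_dvd_card [Finite G] (X N : Subgroup G) [N.Normal] :
    X.relIndex (X ⊔ N) ∣ Nat.card N := by
  have h1 : Nat.card N * N.relIndex (X ⊔ N) = Nat.card (X ⊔ N : Subgroup G) := by
    have := Subgroup.relIndex_mul_relIndex (⊥ : Subgroup G) N (X ⊔ N) bot_le le_sup_right
    rwa [Subgroup.relIndex_bot_left, Subgroup.relIndex_bot_left] at this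
  have h2 : Nat.card X * X.relIndex (X ⊔ N) = Nat.card (X ⊔ N : Subgroup G) := by
    have := Subgroup.relIndex_mul_relIndex (⊥ : Subgroup G) X (X ⊔ N) bot_le le_sup_left
    rwa [Subgroup.relIndex_bot_left, Subgroup.relIndex_bot_left] at this
  rw [Subgroup.relIndex_sup_right] at h1
  obtain ⟨c, hc⟩ := (Subgroup.relIndex_dvd_card N X)
  have hpos : 0 < N.relIndex X := by
    apply Nat.pos_of_ne_zero
    intro h0
    rw [h0, zero_mul] at hc
    exact (Nat.card_pos (α := X)).ne' hc
  refine ⟨c, ?_⟩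
  have : N.relIndex X * (X.relIndex (X ⊔ N) * c) = N.relIndex X * Nat.card N := by
    calc N.relIndex X * (X.relIndex (X ⊔ N) * c)
        = (N.relIndex X * c) * X.relIndex (X ⊔ N) := by ring
      _ = Nat.card X * X.relIndex (X ⊔ N) := by rw [← hc]
      _ = Nat.card (X ⊔ N : Subgroup G) := h2
      _ = Nat.card N * N.relIndex X := h1.symm
      _ = N.relIndex X * Nat.card N := by ring
  exact (Nat.eq_of_mul_eq_mul_left hpos this).symm

/-- Sylow conjugacy inside `⟨x⟩N` for a `p`-element `x` and a normal `p'`-subgroup `N`. -/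
theorem exists_conj_mem_zpowers_of_mem_sup {p : ℕ} [Fact p.Prime] [Finite G] (N : Subgroup G)
    [N.Normal] (hpN : ¬ p ∣ Nat.card N) {x : G} {b : ℕ} (hx : orderOf x = p ^ b) {x' : G}
    (hx' : x' ∈ Subgroup.zpowers x ⊔ N) {b' : ℕ} (hord : orderOf x' = p ^ b') :
    ∃ h ∈ Subgroup.zpowers x ⊔ N, h * x' * h⁻¹ ∈ Subgroup.zpowers x := by
  set H : Subgroup G := Subgroup.zpowers x ⊔ N with hH
  have hXp0 : IsPGroup p (Subgroup.zpowers x) :=
    IsPGroup.of_card (n := b) (by rw [Nat.card_zpowers, hx])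
  have hXp : IsPGroup p ((Subgroup.zpowers x).subgroupOf H) := hXp0.comap_subtype
  have hidx : ¬ p ∣ ((Subgroup.zpowers x).subgroupOf H).index := by
    intro hd
    apply hpN
    exact hd.trans (relIndex_sup_dvd_card (Subgroup.zpowers x) N)
  let S : Sylow p H := hXp.toSylow hidx
  let x'' : H := ⟨x', hx'⟩
  have hx''p : IsPGroup p (Subgroup.zpowers x'') := by
    apply IsPGroup.of_card (n := b')
    rw [Nat.card_zpowers, ← hord]
    exact Subgroup.orderOf_mk x' hx'
  obtain ⟨Q, hQ⟩ := hx''p.exists_le_sylow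
  obtain ⟨h, hh⟩ := MulAction.exists_smul_eq H Q S
  refine ⟨h, h.2, ?_⟩
  have h1 : x'' ∈ (Q : Subgroup H) := hQ (Subgroup.mem_zpowers x'')
  have h2 : h * x'' * h⁻¹ ∈ (S : Subgroup H) := by
    rw [← hh, Sylow.coe_subgroup_smul, Subgroup.mem_pointwise_smul_iff_inv_smul_mem]
    simpa [MulAut.smul_def, mul_assoc] using h1
  have h3 : h * x'' * h⁻¹ ∈ (Subgroup.zpowers x).subgroupOf H := h2
  rw [Subgroup.mem_subgroupOf] at h3
  simpa using h3

/-- If `γ` commutes with all powers of `y` of prime power order, it commutes with `y`. -/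
theorem commute_of_prime_power_parts [Finite G] (γ : G) :
    ∀ (n : ℕ) (y : G), orderOf y = n →
      (∀ k : ℕ, ∀ p a : ℕ, p.Prime → orderOf (y ^ k) = p ^ a → Commute γ (y ^ k)) →
      Commute γ y := by
  intro n
  induction n using Nat.strong_induction_on with
  | _ n ih =>
    intro y hy hyp
    by_cases hn1 : n = 1
    · rw [hn1, orderOf_eq_one_iff] at hy
      rw [hy]
      exact Commute.one_right γ
    · have hn0 : n ≠ 0 := by
        rw [← hy]; exact (orderOf_pos y).ne'
      set p := n.minFac with hp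
      have hpp : p.Prime := Nat.minFac_prime hn1
      obtain ⟨a, m', hpm', hn⟩ := Nat.exists_eq_pow_mul_and_not_dvd hn0 p hpp.ne_one
      have hm'0 : m' ≠ 0 := by
        rintro rfl
        exact hpm' (dvd_zero p)
      have ha0 : a ≠ 0 := by
        rintro rfl
        rw [pow_zero, one_mul] at hn
        exact hpm' (hn ▸ Nat.minFac_dvd n)
      have hpa0 : p ^ a ≠ 0 := pow_ne_zero a hpp.ne_zero
      have ho1 : orderOf (y ^ m') = p ^ a := by
        rw [orderOf_pow_of_dvd hm'0 ⟨p ^ a, by rw [hy, hn, mul_comm]⟩, hy, hn]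
        exact Nat.mul_div_cancel _ (Nat.pos_of_ne_zero hm'0)
      have ho2 : orderOf (y ^ (p ^ a)) = m' := by
        rw [orderOf_pow_of_dvd hpa0 ⟨m', by rw [hy, hn]⟩, hy, hn]
        exact Nat.mul_div_cancel_left _ (Nat.pos_of_ne_zero hpa0)
      have hc1 : Commute γ (y ^ m') := hyp m' p a hpp ho1
      have hm'lt : m' < n := by
        rw [hn]
        have : 2 ≤ p ^ a := by
          calc 2 ≤ p := hpp.two_le
            _ = p ^ 1 := (pow_one p).symm
            _ ≤ p ^ a := Nat.pow_le_pow_right hpp.pos (Nat.pos_of_ne_zero ha0)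
        nlinarith [Nat.pos_of_ne_zero hm'0]
      have hc2 : Commute γ (y ^ (p ^ a)) := by
        apply ih m' hm'lt _ ho2
        intro k q c hq hqc
        rw [← pow_mul] at hqc ⊢
        exact hyp _ q c hq hqc
      have hcop : Nat.Coprime m' (p ^ a) :=
        Nat.Coprime.pow_right a ((Nat.Prime.coprime_iff_not_dvd hpp).mpr hpm').symm
      have hbez := Nat.gcd_eq_gcd_ab m' (p ^ a)
      rw [hcop.gcd_eq_one] at hbez
      have hy1 : y = (y ^ m') ^ (Nat.gcdA m' (p ^ a)) * (y ^ (p ^ a)) ^ (Nat.gcdB m' (p ^ a)) := by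
        rw [← zpow_natCast, ← zpow_natCast, ← zpow_mul, ← zpow_mul, ← zpow_add, ← hbez]
        simp
      rw [hy1]
      exact (hc1.zpow_right _).mul_right (hc2.zpow_right _)

end Cfsg.Agent.Lib.Helper67
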