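import Mathlib
import Cfsg.Agent.Lib.Helper67.TsDefs
import Cfsg.Agent.Lib.Helper67.TsINVOL
import Cfsg.Agent.Lib.Helper25.TsBRIDGE
import Cfsg.Agent.Lib.Helper55.TsBASE
import Cfsg.Agent.Lib.Helper67.TsW2H

/-! # TS hive (S5972, helper67): leaf TS-W2 `fix_of_two` -/

set_option autoImplicit false

namespace Cfsg.Agent.Lib.Helper67.Ts

open Polynomial Module
open Cfsg.Agent.Lib.Helper2.BG Cfsg.Agent.Lib.Helper99 Cfsg.Agent.Lib.Helper48.Ti

section concrete

variable {F : Type*} [Field F]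

/-- glue two totally isotropic subspaces of the two eigenspaces -/
theorem w2_glue (h2 : (2 : F) ≠ 0) (d : ℕ) {f : Module.End F (VO d F)}
    (horth : ∀ u ∈ LinearMap.ker (f - 1), ∀ v ∈ LinearMap.ker (f + 1),
      oddB d u v = 0 ∧ oddB d v u = 0)
    {Up Um : Submodule F (VO d F)} (hUp : Up ≤ LinearMap.ker (f - 1))
    (hUm : Um ≤ LinearMap.ker (f + 1)) (hUpti : TI (oddB d) Up) (hUmti : TI (oddB d) Um) :
    finrank F ↥(Up ⊔ Um) = finrank F Up + finrank F Um ∧
      (∀ w ∈ Up ⊔ Um, Cfsg.quadFormOdd d F w = 0) ∧ (Up ⊔ Um).map f ≤ Up ⊔ Um := by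
  have hdisj : Disjoint Up Um := by
    rw [Submodule.disjoint_def]
    intro v h1 h3
    have e1 := invol_mem_ker_sub.1 (hUp h1)
    have e3 := invol_mem_ker_add.1 (hUm h3)
    have : (2 : F) • v = 0 := by
      rw [two_smul]
      nth_rewrite 1 [← e1]
      rw [e3]
      exact neg_add_cancel v
    rcases smul_eq_zero.1 this with h | h
    · exact absurd h h2
    · exact h
  refine ⟨?_, ?_, ?_⟩
  · have h := Submodule.finrank_sup_add_finrank_inf_eq Up Um
    rw [hdisj.eq_bot, finrank_bot, add_zero] at h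
    exact h
  · rw [ts_iff_ti h2]
    intro u hu v hv
    obtain ⟨a, ha, b, hb, rfl⟩ := Submodule.mem_sup.1 hu
    obtain ⟨a', ha', b', hb', rfl⟩ := Submodule.mem_sup.1 hv
    rw [map_add, map_add, LinearMap.add_apply, LinearMap.add_apply, hUpti a ha a' ha',
      hUmti b hb b' hb', (horth a (hUp ha) b' (hUm hb')).1, (horth a' (hUp ha') b (hUm hb)).2]
    simp
  · intro w hw
    obtain ⟨v, hv, rfl⟩ := Submodule.mem_map.1 hw
    obtain ⟨a, ha, b, hb, rfl⟩ := Submodule.mem_sup.1 hv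
    rw [map_add, invol_mem_ker_sub.1 (hUp ha), invol_mem_ker_add.1 (hUm hb)]
    exact Submodule.add_mem_sup ha (Submodule.neg_mem _ hb)

/-- TS-W2 -/
theorem fix_of_two [Fintype F] (hq : Odd (Fintype.card F)) (d m : ℕ) (hd : 1 ≤ d) (hmd : m ≤ d)
    (h : m < d ∨ Fintype.card F % 4 = 1)
    (x : GL (Unit ⊕ (Fin d ⊕ Fin d)) F) (hx : x ∈ Cfsg.Geo.omegaGL (Cfsg.quadFormOdd d F))
    (hx2 : orderOf x = 2) :
    ∃ W : Submodule F (VO d F), finrank F W = m ∧ (∀ w ∈ W, Cfsg.quadFormOdd d F w = 0) ∧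
      W.map (Matrix.toLin'
        (x : Matrix (Unit ⊕ (Fin d ⊕ Fin d)) (Unit ⊕ (Fin d ⊕ Fin d)) F)) ≤ W := by
  classical
  have h2 : (2 : F) ≠ 0 := by
    intro h0
    have hchar : ringChar F = 2 := by
      have : (ringChar F) ∣ 2 := by
        have h' : ((2 : ℕ) : F) = 0 := by exact_mod_cast h0
        exact (ringChar.spec F 2).1 h'
      rcases (Nat.dvd_prime Nat.prime_two).1 this with h1 | h1
      · exact absurd h1 (CharP.ringChar_ne_one)
      · exact h1
    obtain ⟨n, hn1, hn2⟩ := FiniteField.card F (ringChar F)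
    rw [hchar] at hn2
    rw [hn2] at hq
    have : Even (2 ^ (n : ℕ)) := by
      apply Nat.even_pow.2
      exact ⟨even_two, n.ne_zero⟩
    exact (Nat.not_odd_iff_even.2 this) hq
  set f : Module.End F (VO d F) := Matrix.toLin'
    (x : Matrix (Unit ⊕ (Fin d ⊕ Fin d)) (Unit ⊕ (Fin d ⊕ Fin d)) F) with hf
  have hxx : x * x = 1 := by
    have := pow_orderOf_eq_one x
    rw [hx2, pow_two] at this
    exact this
  have hff : f * f = 1 := by
    rw [hf, Module.End.mul_eq_comp, ← Matrix.toLin'_mul, ← Units.val_mul, hxx, Units.val_one,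
      Matrix.toLin'_one]
    rfl
  have hisom : Isom (oddB d) f := (isom_of_mem_omega d x hx).2
  obtain ⟨hNdp, hNdm, horth, hsum⟩ := invol_split h2 hisom hff (oddB_nd h2 d)
  rw [finrank_VO] at hsum
  have hsymm : ∀ u v, oddB (F := F) d u v = oddB d v u := oddB_symm d
  set zp := finrank F ↥(LinearMap.ker (f - 1)) with hzp
  set zm := finrank F ↥(LinearMap.ker (f + 1)) with hzm
  -- the two numbers a (in V+) and b (in V-)
  have key : ∃ a b : ℕ, a + b = m ∧
      (∃ Up : Submodule F (VO d F), Up ≤ LinearMap.ker (f - 1) ∧ TI (oddB d) Up ∧ finrank F Up = a) ∧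
      (∃ Um : Submodule F (VO d F), Um ≤ LinearMap.ker (f + 1) ∧ TI (oddB d) Um ∧ finrank F Um = b) := by
    -- capacities
    have capp : ∀ a : ℕ, 2 * a + 2 ≤ zp + zp % 2 →
        ∃ Up : Submodule F (VO d F), Up ≤ LinearMap.ker (f - 1) ∧ TI (oddB d) Up ∧ finrank F Up = a :=
      fun a ha => exists_ts_of_nd h2 hsymm hNdp ha
    have capm : ∀ b : ℕ, 2 * b + 2 ≤ zm + zm % 2 →
        ∃ Um : Submodule F (VO d F), Um ≤ LinearMap.ker (f + 1) ∧ TI (oddB d) Um ∧ finrank F Um = b :=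
      fun b hb => exists_ts_of_nd h2 hsymm hNdm hb
    have zero_p : ∃ Up : Submodule F (VO d F), Up ≤ LinearMap.ker (f - 1) ∧ TI (oddB d) Up ∧ finrank F Up = 0 :=
      ⟨⊥, bot_le, fun u hu v _ => by rw [(Submodule.mem_bot F).1 hu, map_zero, LinearMap.zero_apply], finrank_bot F _⟩
    have zero_m : ∃ Um : Submodule F (VO d F), Um ≤ LinearMap.ker (f + 1) ∧ TI (oddB d) Um ∧ finrank F Um = 0 :=
      ⟨⊥, bot_le, fun u hu v _ => by rw [(Submodule.mem_bot F).1 hu, map_zero, LinearMap.zero_apply], finrank_bot F _⟩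
    by_cases hmd' : m < d
    · -- capacities: cp = (zp + zp%2)/2 - 1, cm similarly; cp + cm ≥ d - 1
      -- choose a = min m cp
      by_cases hpz : zp ≤ 1
      · -- everything in V-
        by_cases hm0 : m = 0
        · exact ⟨0, 0, by omega, zero_p, zero_m⟩
        · exact ⟨0, m, by omega, zero_p, capm m (by omega)⟩
      · by_cases hbig : 2 * m + 2 ≤ zp + zp % 2
        · exact ⟨m, 0, by omega, capp m hbig, zero_m⟩
        · push Not at hbig
          -- a = (zp + zp % 2) / 2 - 1, b = m - a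
          refine ⟨(zp + zp % 2) / 2 - 1, m - ((zp + zp % 2) / 2 - 1), by omega, capp _ (by omega), ?_⟩
          by_cases hb0 : m - ((zp + zp % 2) / 2 - 1) = 0
          · rw [hb0]; exact zero_m
          · exact capm _ (by omega)
    · -- m = d and q % 4 = 1
      have hq1 : Fintype.card F % 4 = 1 := h.resolve_left hmd'
      obtain ⟨Um, hUm, hUmts, hUmdim⟩ := exists_ts_half_neg hq1 d x hx hxx
      have hUmti : TI (oddB d) Um := (ts_iff_ti h2 d Um).1 hUmts
      have hUmdim' : 2 * finrank F Um = zm := hUmdim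
      have hmeq : m = d := by omega
      refine ⟨m - finrank F Um, finrank F Um, by omega, ?_, ⟨Um, hUm, hUmti, rfl⟩⟩
      by_cases ha0 : m - finrank F Um = 0
      · rw [ha0]; exact zero_p
      · exact capp _ (by omega)
  obtain ⟨a, b, hab, ⟨Up, hUp, hUpti, hUpa⟩, ⟨Um, hUm, hUmti, hUmb⟩⟩ := key
  obtain ⟨g1, g2, g3⟩ := w2_glue h2 d horth hUp hUm hUpti hUmti
  exact ⟨Up ⊔ Um, by rw [g1, hUpa, hUmb, hab], g2, g3⟩

end concrete

end Cfsg.Agent.Lib.Helper67.Ts
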