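import Mathlib

set_option autoImplicit false

/-!
An endomorphism `f` of `p`-power order of a finite abelian `p`-group `M` acts unipotently:
`(f - 1)^k` kills every `f`-invariant subgroup of order at most `p^k`.
-/

namespace Cfsg.Agent.Lib.Helper67

variable {M : Type*} [AddCommGroup M] [Finite M] {p : ℕ} [hp : Fact p.Prime]

/-- An endomorphism with `f ^ p = 1` fixes a nonzero element of every nontrivial invariant
subgroup of `p`-power order. -/
theorem exists_fixed_ne_zero (f : Module.End ℤ M) (hf : f ^ p = 1) (U : AddSubgroup M)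
    (hU : ∀ u ∈ U, f u ∈ U) {j : ℕ} (hj : j ≠ 0) (hcard : Nat.card U = p ^ j) :
    ∃ u ∈ U, u ≠ 0 ∧ f u = u := by
  classical
  have : Fintype U := Fintype.ofFinite U
  let g : Function.End U := fun u => ⟨f u, hU u u.2⟩
  have hgpow : ∀ n : ℕ, ∀ u : U, ((g ^ n) u : M) = (f ^ n) u := by
    intro n
    induction n with
    | zero => intro u; rfl
    | succ n ih =>
      intro u
      rw [pow_succ, pow_succ]
      show ((g ^ n) (g u) : M) = (f ^ n) (f u)
      rw [ih]
  have hg : g ^ p ^ 1 = 1 := by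
    rw [pow_one]
    funext u
    apply Subtype.ext
    rw [hgpow, hf]
    rfl
  have hmod := Equiv.Perm.card_fixedPoints_modEq (f := g) (p := p) (n := 1) hg
  have hdvd : p ∣ Fintype.card (Function.fixedPoints g) := by
    have h1 : Fintype.card U = p ^ j := by rw [← Nat.card_eq_fintype_card]; exact hcard
    rw [h1] at hmod
    have h2 : p ^ j ≡ 0 [MOD p] := (Nat.modEq_zero_iff_dvd).mpr (dvd_pow_self p hj)
    exact (Nat.modEq_zero_iff_dvd).mp (hmod.symm.trans h2)
  have h0 : (0 : U) ∈ Function.fixedPoints g := by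
    show g 0 = 0
    apply Subtype.ext
    show f ((0 : U) : M) = ((0 : U) : M)
    simp
  have hlt : 1 < Fintype.card (Function.fixedPoints g) := by
    have hpos : 0 < Fintype.card (Function.fixedPoints g) :=
      Fintype.card_pos_iff.mpr ⟨⟨0, h0⟩⟩
    exact lt_of_lt_of_le hp.out.one_lt (Nat.le_of_dvd hpos hdvd)
  obtain ⟨⟨u, hu⟩, hne⟩ := Fintype.exists_ne_of_one_lt_card hlt ⟨0, h0⟩
  refine ⟨u, u.2, ?_, ?_⟩
  · intro h
    apply hne
    apply Subtype.ext
    apply Subtype.ext
    simpa using h
  · have h3 : g u = u := hu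
    exact congrArg Subtype.val h3

/-- `f - 1` strictly shrinks every nontrivial invariant subgroup of `p`-power order. -/
theorem card_map_sub_one_lt (f : Module.End ℤ M) (hf : f ^ p = 1) (U : AddSubgroup M)
    (hU : ∀ u ∈ U, f u ∈ U) {j : ℕ} (hj : j ≠ 0) (hcard : Nat.card U = p ^ j) :
    Nat.card (U.map ((f - 1 : Module.End ℤ M) : M →ₗ[ℤ] M).toAddMonoidHom) < Nat.card U := by
  classical
  obtain ⟨u, huU, hu0, hfu⟩ := exists_fixed_ne_zero f hf U hU hj hcard
  set N : M →+ M := ((f - 1 : Module.End ℤ M) : M →ₗ[ℤ] M).toAddMonoidHom with hN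
  have : Fintype U := Fintype.ofFinite U
  have : Fintype (U.map N) := Fintype.ofFinite _
  let φ : U → U.map N := fun v => ⟨N v, AddSubgroup.mem_map_of_mem N v.2⟩
  have hsurj : Function.Surjective φ := by
    rintro ⟨w, hw⟩
    obtain ⟨v, hv, rfl⟩ := AddSubgroup.mem_map.mp hw
    exact ⟨⟨v, hv⟩, rfl⟩
  have hninj : ¬ Function.Injective φ := by
    intro hinj
    have h1 : φ ⟨u, huU⟩ = φ 0 := by
      apply Subtype.ext
      show N u = N ((0 : U) : M)
      have : N u = f u - u := by simp [hN]
      rw [this, hfu]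
      simp
    have := hinj h1
    exact hu0 (congrArg Subtype.val this)
  have := Fintype.card_lt_of_surjective_not_injective φ hsurj hninj
  rwa [Nat.card_eq_fintype_card, Nat.card_eq_fintype_card]

/-- **Unipotent action.** If `M` is a finite abelian `p`-group and `f ^ p = 1`, then `(f - 1) ^ k`
kills every `f`-invariant subgroup of order at most `p ^ k`. -/
theorem sub_one_pow_apply_eq_zero {m : ℕ} (hM : Nat.card M = p ^ m) (f : Module.End ℤ M)
    (hf : f ^ p = 1) :
    ∀ (k : ℕ) (U : AddSubgroup M), (∀ u ∈ U, f u ∈ U) → Nat.card U ≤ p ^ k →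
      ∀ u ∈ U, ((f - 1) ^ k) u = 0 := by
  intro k
  induction k with
  | zero =>
    intro U _ hcard u hu
    have hbot : U = ⊥ := by
      apply AddSubgroup.card_eq_one.mp
      have : 0 < Nat.card U := Nat.card_pos
      simp at hcard
      omega
    rw [hbot, AddSubgroup.mem_bot] at hu
    rw [hu]; simp
  | succ k ih =>
    intro U hU hcard u hu
    obtain ⟨j, hjm, hj⟩ := (Nat.dvd_prime_pow hp.out).mp
      (hM ▸ AddSubgroup.card_addSubgroup_dvd_card U)
    by_cases hj0 : j = 0
    · have hbot : U = ⊥ := by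
        apply AddSubgroup.card_eq_one.mp
        rw [hj, hj0, pow_zero]
      rw [hbot, AddSubgroup.mem_bot] at hu
      rw [hu]; simp
    set N : M →+ M := ((f - 1 : Module.End ℤ M) : M →ₗ[ℤ] M).toAddMonoidHom with hN
    have hlt := card_map_sub_one_lt f hf U hU hj0 hj
    have hU' : ∀ w ∈ U.map N, f w ∈ U.map N := by
      intro w hw
      obtain ⟨v, hv, rfl⟩ := AddSubgroup.mem_map.mp hw
      refine AddSubgroup.mem_map.mpr ⟨f v, hU v hv, ?_⟩
      simp [hN]
    obtain ⟨i, him, hi⟩ := (Nat.dvd_prime_pow hp.out).mp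
      (hM ▸ AddSubgroup.card_addSubgroup_dvd_card (U.map N))
    have hcard' : Nat.card (U.map N) ≤ p ^ k := by
      rw [hi]
      apply Nat.pow_le_pow_right hp.out.pos
      have h1 : p ^ i < p ^ (k + 1) := by
        rw [← hi]; exact lt_of_lt_of_le hlt hcard
      have := (Nat.pow_lt_pow_iff_right hp.out.one_lt).mp h1
      omega
    have := ih (U.map N) hU' hcard' (N u) (AddSubgroup.mem_map_of_mem N hu)
    rw [pow_succ, Module.End.mul_apply]
    exact this

end Cfsg.Agent.Lib.Helper67
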