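import Mathlib
import Cfsg.Prelude.Def_TwoFusion
import Cfsg.Agent.Lib.Helper20.Isolated
import Cfsg.Agent.Lib.Helper67.ZStarDep2

/-!
# Invariant Sylow subgroups and the centralizer of an isolated involution
-/

set_option autoImplicit false

namespace Cfsg.Agent.Lib.Helper67

open Cfsg.Agent.Lib.Helper20
open scoped Pointwise

universe u

theorem comm_invol_inverted {G : Type*} [Group G] {z : G} (hz2 : z * z = 1) (x : G) :
    z * (x * (z * x⁻¹ * z⁻¹)) * z⁻¹ = (x * (z * x⁻¹ * z⁻¹))⁻¹ := by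
  have hzi : z⁻¹ = z := inv_eq_of_mul_eq_one_right hz2
  rw [hzi]
  calc z * (x * (z * x⁻¹ * z)) * z = z * x * z * x⁻¹ * (z * z) := by group
    _ = z * x * z * x⁻¹ := by rw [hz2, mul_one]
    _ = z⁻¹ * x * z⁻¹ * x⁻¹ := by rw [hzi]
    _ = (x * (z * x⁻¹ * z))⁻¹ := by group

/-- for an involution `z` normalizing a subgroup `P` of odd order, `|P : C_P(z)|` is the number
of elements of `P` inverted by `z`. -/
theorem relIndex_centralizer_eq_card_inverted {G : Type*} [Group G] [Finite G] {z : G}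
    (hz2 : z * z = 1) (P : Subgroup G) (hPodd : Odd (Nat.card P))
    (hzP : z ∈ Subgroup.normalizer (P : Set G)) :
    (P ⊓ Subgroup.centralizer ({z} : Set G)).relIndex P =
      Nat.card {x : G // x ∈ P ∧ z * x * z⁻¹ = x⁻¹} := by
  classical
  have hzi : z⁻¹ = z := inv_eq_of_mul_eq_one_right hz2
  have hmemCP : ∀ x : P, x ∈ (P ⊓ Subgroup.centralizer ({z} : Set G)).subgroupOf P ↔
      (x : G) * z = z * x := by
    intro x
    rw [Subgroup.mem_subgroupOf, Subgroup.mem_inf, Subgroup.mem_centralizer_singleton_iff]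
    exact ⟨fun h => h.2, fun h => ⟨x.2, h⟩⟩
  let F : P → {x : G // x ∈ P ∧ z * x * z⁻¹ = x⁻¹} := fun x =>
    ⟨(x : G) * (z * (x : G)⁻¹ * z⁻¹),
      P.mul_mem x.2 ((Subgroup.mem_normalizer_iff.mp hzP _).mp (P.inv_mem x.2)),
      comm_invol_inverted hz2 x⟩
  have hF : ∀ a b : P, (QuotientGroup.leftRel
      ((P ⊓ Subgroup.centralizer ({z} : Set G)).subgroupOf P)).r a b → F a = F b := by
    intro a b hab
    have hc : ((a : G)⁻¹ * b) * z = z * ((a : G)⁻¹ * b) := by
      have := (hmemCP _).mp (QuotientGroup.leftRel_apply.mp hab)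
      simpa using this
    apply Subtype.ext
    show (a : G) * (z * (a : G)⁻¹ * z⁻¹) = (b : G) * (z * (b : G)⁻¹ * z⁻¹)
    symm
    calc (b : G) * (z * (b : G)⁻¹ * z⁻¹)
        = (a : G) * (((a : G)⁻¹ * b) * z) * (b : G)⁻¹ * z⁻¹ := by group
      _ = (a : G) * (z * ((a : G)⁻¹ * b)) * (b : G)⁻¹ * z⁻¹ := by rw [hc]
      _ = (a : G) * (z * (a : G)⁻¹ * z⁻¹) := by group
  let f : P ⧸ (P ⊓ Subgroup.centralizer ({z} : Set G)).subgroupOf P →
      {x : G // x ∈ P ∧ z * x * z⁻¹ = x⁻¹} :=
    Quotient.lift (s := QuotientGroup.leftRel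
      ((P ⊓ Subgroup.centralizer ({z} : Set G)).subgroupOf P)) F hF
  have finj : Function.Injective f := by
    intro a b
    induction a using QuotientGroup.induction_on with | H x => ?_
    induction b using QuotientGroup.induction_on with | H y => ?_
    intro h
    apply QuotientGroup.eq.mpr
    rw [hmemCP]
    have h0 : (x : G) * (z * (x : G)⁻¹ * z⁻¹) = (y : G) * (z * (y : G)⁻¹ * z⁻¹) :=
      congrArg Subtype.val h
    have h' : (x : G) * z * (x : G)⁻¹ = (y : G) * z * (y : G)⁻¹ := by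
      have := congrArg (· * z) h0
      simpa [mul_assoc] using this
    push_cast
    calc (x : G)⁻¹ * y * z = (x : G)⁻¹ * ((y : G) * z * (y : G)⁻¹) * y := by group
      _ = (x : G)⁻¹ * ((x : G) * z * (x : G)⁻¹) * y := by rw [h']
      _ = z * ((x : G)⁻¹ * y) := by group
  have fsurj : Function.Surjective f := by
    rintro ⟨i, hiP, hinv⟩
    have hodd : Odd (orderOf i) := by
      have h1 : orderOf (⟨i, hiP⟩ : P) ∣ Nat.card P := orderOf_dvd_natCard _
      rw [← Subgroup.orderOf_coe] at h1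
      exact odd_of_dvd_odd h1 hPodd
    obtain ⟨m, hm⟩ := hodd
    have hjj : i ^ (m + 1) * i ^ (m + 1) = i := by
      rw [← pow_add]
      have e : m + 1 + (m + 1) = orderOf i + 1 := by omega
      rw [e, pow_succ, pow_orderOf_eq_one, one_mul]
    have hjinv : z * i ^ (m + 1) * z⁻¹ = (i ^ (m + 1))⁻¹ := conj_inv_pow hinv (m + 1)
    refine ⟨((⟨i ^ (m + 1), P.pow_mem hiP _⟩ : P) : P ⧸ _), ?_⟩
    apply Subtype.ext
    show i ^ (m + 1) * (z * (i ^ (m + 1))⁻¹ * z⁻¹) = i
    rw [← conj_inv, hjinv, inv_inv, hjj]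
  show Nat.card (P ⧸ (P ⊓ Subgroup.centralizer ({z} : Set G)).subgroupOf P) = _
  exact Nat.card_congr (Equiv.ofBijective f ⟨finj, fsurj⟩)

/-- **S1253 (1) from Z\***: a `z`-invariant Sylow `p`-subgroup meets `C_G(z)` in a Sylow
`p`-subgroup of `C_G(z)`. -/
theorem invariant_sylow_inf_centralizer (hZ : ZStarHyp.{u}) {G : Type u} [Group G] [Finite G]
    (z : G) (hz : Cfsg.IsIsolatedInvolution z) {p : ℕ} [Fact p.Prime] (P : Sylow p G)
    (hzP : z ∈ Subgroup.normalizer ((P : Subgroup G) : Set G)) :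
    ¬ p ∣ ((P : Subgroup G) ⊓ Subgroup.centralizer ({z} : Set G)).relIndex
      (Subgroup.centralizer ({z} : Set G)) := by
  classical
  have hz2 := invol_mul_self hz.1
  have hcomm : ∀ x ∈ Subgroup.centralizer ({z} : Set G), z * x * z⁻¹ = x := by
    intro x hx
    rw [Subgroup.mem_centralizer_singleton_iff] at hx
    rw [← hx, mul_inv_cancel_right]
  obtain ⟨S⟩ : Nonempty (Sylow p (Subgroup.centralizer ({z} : Set G))) := inferInstance
  have hS₀ : IsPGroup p ((S : Subgroup (Subgroup.centralizer ({z} : Set G))).map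
      (Subgroup.centralizer ({z} : Set G)).subtype) := S.isPGroup'.map _
  have hS₀C : (S : Subgroup (Subgroup.centralizer ({z} : Set G))).map
      (Subgroup.centralizer ({z} : Set G)).subtype ≤ Subgroup.centralizer ({z} : Set G) :=
    Subgroup.map_subtype_le _
  have hzS₀ : z ∈ Subgroup.normalizer
      (((S : Subgroup (Subgroup.centralizer ({z} : Set G))).map
        (Subgroup.centralizer ({z} : Set G)).subtype : Subgroup G) : Set G) := by
    rw [Subgroup.mem_normalizer_iff]
    intro h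
    constructor
    · intro hh; rw [hcomm h (hS₀C hh)]; exact hh
    · intro hh
      have h1 := hcomm _ (hS₀C hh)
      rw [conj_conj_of_mul_self hz2] at h1
      rw [h1]; exact hh
  obtain ⟨P', hS₀P', hzP'⟩ := exists_invariant_sylow_ge hZ z hz _ hS₀ hzS₀
  obtain ⟨h, hhz, hh⟩ := invariant_sylow_conj hz P P' hzP hzP'
  have hhC : h ∈ Subgroup.centralizer ({z} : Set G) := by
    rw [Subgroup.mem_centralizer_singleton_iff]; exact hhz
  have hD : IsPGroup p (((P : Subgroup G) ⊓ Subgroup.centralizer ({z} : Set G)).subgroupOf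
      (Subgroup.centralizer ({z} : Set G))) :=
    (P.isPGroup'.to_le inf_le_left).comap_subtype
  have hle : (((⟨h, hhC⟩ : Subgroup.centralizer ({z} : Set G))⁻¹ • S :
      Sylow p (Subgroup.centralizer ({z} : Set G))) :
        Subgroup (Subgroup.centralizer ({z} : Set G))) ≤
      ((P : Subgroup G) ⊓ Subgroup.centralizer ({z} : Set G)).subgroupOf
        (Subgroup.centralizer ({z} : Set G)) := by
    intro x hx
    have hx' := mem_sylow_smul_iff.mp hx
    rw [inv_inv] at hx'
    have hx2 : h * (x : G) * h⁻¹ ∈ (P' : Subgroup G) := hS₀P' ⟨_, hx', rfl⟩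
    rw [← hh] at hx2
    have hx3 := mem_sylow_smul_iff.mp hx2
    rw [Subgroup.mem_subgroupOf, Subgroup.mem_inf]
    refine ⟨?_, x.2⟩
    have e : h⁻¹ * (h * (x : G) * h⁻¹) * h = x := by group
    rw [e] at hx3
    exact hx3
  have heq := ((⟨h, hhC⟩ : Subgroup.centralizer ({z} : Set G))⁻¹ • S).is_maximal' hD hle
  show ¬ p ∣ (((P : Subgroup G) ⊓ Subgroup.centralizer ({z} : Set G)).subgroupOf
    (Subgroup.centralizer ({z} : Set G))).index
  rw [heq]
  exact ((⟨h, hhC⟩ : Subgroup.centralizer ({z} : Set G))⁻¹ • S).not_dvd_index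

end Cfsg.Agent.Lib.Helper67
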