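import Mathlib
import Cfsg.Prelude.Def_TwoFusion
import Cfsg.Prelude.Def_CaseTheorems
import Cfsg.Agent.Lib.Helper20.Isolated
import Cfsg.Agent.Lib.Helper67.ZStarDep2

/-!
# A strongly closed 2-subgroup centralizes disjoint invariant subgroups with trivial odd core
(Goldschmidt's lemma, from Z*)
-/

set_option autoImplicit false

namespace Cfsg.Agent.Lib.Helper67

open Cfsg.Agent.Lib.Helper20
open scoped Pointwise

universe u

/-- type-level core: `K = H A`, `H` normal, `A` a strongly closed subgroup of the Sylow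
`2`-subgroup `T`, `A ∩ H = 1`, no nontrivial normal subgroup of `K` of odd order inside `H`.
Then `A` centralizes `H`. -/
theorem strongly_closed_centralizes_core (hZ : ZStarHyp.{u}) {K : Type u} [Group K] [Finite K]
    (H A : Subgroup K) [hHn : H.Normal] (T : Sylow 2 K) (hAT : A ≤ T)
    (hcl : ∀ x ∈ A, ∀ k : K, k * x * k⁻¹ ∈ T → k * x * k⁻¹ ∈ A)
    (hdisj : A ⊓ H = ⊥) (hsup : H ⊔ A = ⊤)
    (hO : ∀ N : Subgroup K, N.Normal → N ≤ H → Odd (Nat.card N) → N = ⊥) :
    A ≤ Subgroup.centralizer (H : Set K) := by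
  classical
  by_contra hne
  have hdecomp : ∀ k : K, ∃ h ∈ H, ∃ b ∈ A, k = h * b := by
    intro k
    have hk : k ∈ ((H ⊔ A : Subgroup K) : Set K) := by rw [hsup]; exact Set.mem_univ k
    rw [Subgroup.normal_mul] at hk
    obtain ⟨h, hh, b, hb, rfl⟩ := Set.mem_mul.mp hk
    exact ⟨h, hh, b, hb, rfl⟩
  have hAH1 : ∀ x ∈ A, x ∈ H → x = 1 := fun x hxA hxH => by
    have : x ∈ A ⊓ H := Subgroup.mem_inf.mpr ⟨hxA, hxH⟩
    rw [hdisj] at this; exact Subgroup.mem_bot.mp this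
  have hA₀n : (A ⊓ Subgroup.centralizer (H : Set K)).Normal := by
    constructor
    intro n hn g
    obtain ⟨h, hh, b, hb, rfl⟩ := hdecomp g
    obtain ⟨hnA, hnC⟩ := Subgroup.mem_inf.mp hn
    have h1 : b * n * b⁻¹ ∈ A ⊓ Subgroup.centralizer (H : Set K) :=
      Subgroup.mem_inf.mpr ⟨A.mul_mem (A.mul_mem hb hnA) (A.inv_mem hb),
        (inferInstance : (Subgroup.centralizer (H : Set K)).Normal).conj_mem n hnC b⟩
    have h2 : h * (b * n * b⁻¹) * h⁻¹ = b * n * b⁻¹ := by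
      have := (Subgroup.mem_centralizer_iff.mp (Subgroup.mem_inf.mp h1).2) h hh
      rw [this, mul_inv_cancel_right]
    have e : h * b * n * (h * b)⁻¹ = h * (b * n * b⁻¹) * h⁻¹ := by group
    rw [e, h2]; exact h1
  have hπs : Function.Surjective (QuotientGroup.mk' (A ⊓ Subgroup.centralizer (H : Set K))) :=
    QuotientGroup.mk'_surjective _
  have hker : ∀ x, (QuotientGroup.mk' (A ⊓ Subgroup.centralizer (H : Set K))) x = 1 ↔
      x ∈ A ⊓ Subgroup.centralizer (H : Set K) := fun x => QuotientGroup.eq_one_iff x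
  have hA2 : IsPGroup 2 A := T.isPGroup'.to_le hAT
  have hĀ2 : IsPGroup 2 (A.map (QuotientGroup.mk' (A ⊓ Subgroup.centralizer (H : Set K)))) :=
    hA2.map _
  obtain ⟨x₀, hx₀A, hx₀⟩ : ∃ x ∈ A, x ∉ Subgroup.centralizer (H : Set K) := by
    by_contra hcon
    push Not at hcon
    exact hne hcon
  have hnt : Nontrivial (A.map (QuotientGroup.mk' (A ⊓ Subgroup.centralizer (H : Set K)))) := by
    refine ⟨⟨⟨_, Subgroup.mem_map_of_mem _ hx₀A⟩, 1, ?_⟩⟩
    intro h
    have h1 : (QuotientGroup.mk' (A ⊓ Subgroup.centralizer (H : Set K))) x₀ = 1 :=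
      congrArg Subtype.val h
    exact hx₀ (Subgroup.mem_inf.mp ((hker x₀).mp h1)).2
  have hcnt : Nontrivial (Subgroup.center
      (A.map (QuotientGroup.mk' (A ⊓ Subgroup.centralizer (H : Set K))))) :=
    hĀ2.center_nontrivial
  have hc2 : IsPGroup 2 (Subgroup.center
      (A.map (QuotientGroup.mk' (A ⊓ Subgroup.centralizer (H : Set K))))) :=
    hĀ2.to_subgroup _
  obtain ⟨kk, hkk⟩ := IsPGroup.iff_card.mp hc2
  have h2dvd : 2 ∣ Nat.card (Subgroup.center
      (A.map (QuotientGroup.mk' (A ⊓ Subgroup.centralizer (H : Set K))))) := by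
    rw [hkk]
    have : kk ≠ 0 := by
      rintro rfl
      rw [pow_zero] at hkk
      have := Finite.one_lt_card (α := Subgroup.center
        (A.map (QuotientGroup.mk' (A ⊓ Subgroup.centralizer (H : Set K)))))
      omega
    exact dvd_pow_self 2 this
  obtain ⟨c, hc⟩ := exists_prime_orderOf_dvd_card' (G := Subgroup.center
    (A.map (QuotientGroup.mk' (A ⊓ Subgroup.centralizer (H : Set K))))) 2 h2dvd
  have habar2 : orderOf (((c : A.map (QuotientGroup.mk' (A ⊓ Subgroup.centralizer (H : Set K)))) :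
      K ⧸ (A ⊓ Subgroup.centralizer (H : Set K)))) = 2 := by
    rw [Subgroup.orderOf_coe, Subgroup.orderOf_coe]; exact hc
  have habarA : ((c : A.map (QuotientGroup.mk' (A ⊓ Subgroup.centralizer (H : Set K)))) :
      K ⧸ (A ⊓ Subgroup.centralizer (H : Set K))) ∈
        A.map (QuotientGroup.mk' (A ⊓ Subgroup.centralizer (H : Set K))) :=
    (c : A.map (QuotientGroup.mk' (A ⊓ Subgroup.centralizer (H : Set K)))).2
  have habarc : ∀ y ∈ A.map (QuotientGroup.mk' (A ⊓ Subgroup.centralizer (H : Set K))),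
      y * ((c : A.map (QuotientGroup.mk' (A ⊓ Subgroup.centralizer (H : Set K)))) :
        K ⧸ (A ⊓ Subgroup.centralizer (H : Set K))) =
      ((c : A.map (QuotientGroup.mk' (A ⊓ Subgroup.centralizer (H : Set K)))) :
        K ⧸ (A ⊓ Subgroup.centralizer (H : Set K))) * y := by
    intro y hy
    have := (Subgroup.mem_center_iff.mp c.2) ⟨y, hy⟩
    exact congrArg Subtype.val this
  obtain ⟨a, haA, hab⟩ := Subgroup.mem_map.mp habarA
  generalize ((c : A.map (QuotientGroup.mk' (A ⊓ Subgroup.centralizer (H : Set K)))) :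
      K ⧸ (A ⊓ Subgroup.centralizer (H : Set K))) = abar at habar2 habarA habarc hab
  have hiso : ∀ g : K ⧸ (A ⊓ Subgroup.centralizer (H : Set K)),
      g * abar * g⁻¹ ∈ (T.mapSurjective hπs : Sylow 2 (K ⧸ (A ⊓ Subgroup.centralizer (H : Set K)))) →
        g * abar * g⁻¹ = abar := by
    intro g hg
    obtain ⟨k, rfl⟩ := hπs g
    have hg' : (QuotientGroup.mk' (A ⊓ Subgroup.centralizer (H : Set K))) (k * a * k⁻¹) ∈
        (T : Subgroup K).map (QuotientGroup.mk' (A ⊓ Subgroup.centralizer (H : Set K))) := by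
      rw [map_mul, map_mul, map_inv, hab]; exact hg
    obtain ⟨t, htT, ht⟩ := Subgroup.mem_map.mp hg'
    have h1 : t⁻¹ * (k * a * k⁻¹) ∈ A ⊓ Subgroup.centralizer (H : Set K) :=
      QuotientGroup.eq.mp ht
    have hkT : k * a * k⁻¹ ∈ (T : Subgroup K) := by
      have : k * a * k⁻¹ = t * (t⁻¹ * (k * a * k⁻¹)) := by group
      rw [this]
      exact (T : Subgroup K).mul_mem htT (hAT (Subgroup.mem_inf.mp h1).1)
    have hkA : k * a * k⁻¹ ∈ A := hcl a haA k hkT
    obtain ⟨h, hh, b, hb, rfl⟩ := hdecomp k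
    have ha'' : b * a * b⁻¹ ∈ A := A.mul_mem (A.mul_mem hb haA) (A.inv_mem hb)
    have e : h * b * a * (h * b)⁻¹ = h * (b * a * b⁻¹) * h⁻¹ := by group
    rw [e] at hkA
    have h2 : h * (b * a * b⁻¹) * h⁻¹ * (b * a * b⁻¹)⁻¹ = 1 := by
      apply hAH1
      · exact A.mul_mem hkA (A.inv_mem ha'')
      · have : h * (b * a * b⁻¹) * h⁻¹ * (b * a * b⁻¹)⁻¹ =
            h * ((b * a * b⁻¹) * h⁻¹ * (b * a * b⁻¹)⁻¹) := by group
        rw [this]
        exact H.mul_mem hh (hHn.conj_mem _ (H.inv_mem hh) _)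
    have h3 : h * (b * a * b⁻¹) * h⁻¹ = b * a * b⁻¹ := mul_inv_eq_one.mp h2
    rw [← hab, ← map_inv, ← map_mul, ← map_mul, e, h3, map_mul, map_mul, map_inv, hab]
    have := habarc _ (Subgroup.mem_map_of_mem
      (QuotientGroup.mk' (A ⊓ Subgroup.centralizer (H : Set K))) hb)
    rw [this, mul_inv_cancel_right]
  have habarT : abar ∈ (T.mapSurjective hπs :
      Sylow 2 (K ⧸ (A ⊓ Subgroup.centralizer (H : Set K)))) := by
    rw [← hab]
    exact Subgroup.mem_map_of_mem _ (hAT haA)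
  obtain ⟨Nb, hNbn, hNbodd, hNbcomm⟩ := hZ (K ⧸ (A ⊓ Subgroup.centralizer (H : Set K)))
    (T.mapSurjective hπs) abar habar2 habarT hiso
  have := hNbn
  have hMn : (Nb.comap (QuotientGroup.mk' (A ⊓ Subgroup.centralizer (H : Set K))) ⊓ H).Normal :=
    inferInstance
  have hMH : Nb.comap (QuotientGroup.mk' (A ⊓ Subgroup.centralizer (H : Set K))) ⊓ H ≤ H :=
    inf_le_right
  have hMinj : ∀ x ∈ Nb.comap (QuotientGroup.mk' (A ⊓ Subgroup.centralizer (H : Set K))) ⊓ H,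
      (QuotientGroup.mk' (A ⊓ Subgroup.centralizer (H : Set K))) x = 1 → x = 1 :=
    fun x hx h1 => hAH1 x (Subgroup.mem_inf.mp ((hker x).mp h1)).1 (hMH hx)
  have hModd : Odd (Nat.card
      (Nb.comap (QuotientGroup.mk' (A ⊓ Subgroup.centralizer (H : Set K))) ⊓ H : Subgroup K)) := by
    let f : (Nb.comap (QuotientGroup.mk' (A ⊓ Subgroup.centralizer (H : Set K))) ⊓ H : Subgroup K)
        →* Nb :=
      { toFun := fun x => ⟨(QuotientGroup.mk' (A ⊓ Subgroup.centralizer (H : Set K))) x,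
          (Subgroup.mem_inf.mp x.2).1⟩
        map_one' := Subtype.ext (map_one _)
        map_mul' := fun x y => Subtype.ext (map_mul _ _ _) }
    have hf : Function.Injective f := by
      rw [injective_iff_map_eq_one]
      intro x hx
      have : (QuotientGroup.mk' (A ⊓ Subgroup.centralizer (H : Set K))) x = 1 :=
        congrArg Subtype.val hx
      exact Subtype.ext (hMinj x x.2 this)
    exact odd_of_dvd_odd (Subgroup.card_dvd_of_injective f hf) hNbodd
  have hM1 := hO _ hMn hMH hModd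
  have haC : a ∈ Subgroup.centralizer (H : Set K) := by
    rw [Subgroup.mem_centralizer_iff]
    intro h hh
    have hcH : a * h * a⁻¹ * h⁻¹ ∈ H := H.mul_mem (hHn.conj_mem h hh a) (H.inv_mem hh)
    have hcN : a * h * a⁻¹ * h⁻¹ ∈
        Nb.comap (QuotientGroup.mk' (A ⊓ Subgroup.centralizer (H : Set K))) := by
      rw [Subgroup.mem_comap, map_mul, map_mul, map_mul, map_inv, map_inv, hab]
      exact hNbcomm _
    have hcM : a * h * a⁻¹ * h⁻¹ ∈
        Nb.comap (QuotientGroup.mk' (A ⊓ Subgroup.centralizer (H : Set K))) ⊓ H :=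
      Subgroup.mem_inf.mpr ⟨hcN, hcH⟩
    rw [hM1, Subgroup.mem_bot] at hcM
    have h5 : a * h * a⁻¹ = h := mul_inv_eq_one.mp hcM
    calc h * a = (a * h * a⁻¹) * a := by rw [h5]
      _ = a * h := by group
  have h6 : (QuotientGroup.mk' (A ⊓ Subgroup.centralizer (H : Set K))) a = 1 :=
    (hker a).mpr (Subgroup.mem_inf.mpr ⟨haA, haC⟩)
  rw [hab] at h6
  rw [h6, orderOf_one] at habar2
  omega

/-- **S1251 from Z\***. -/
theorem strongly_closed_centralizes (hZ : ZStarHyp.{u}) {G : Type u} [Group G] [Finite G]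
    (S : Sylow 2 G) (A : Subgroup G) (hA : Cfsg.IsStronglyClosed A (S : Subgroup G))
    (H : Subgroup G) (hAH : A ≤ Subgroup.normalizer (H : Set G)) (hO : Cfsg.oddCore ↥H = ⊥)
    (hdisj : A ⊓ H = ⊥) : A ≤ Subgroup.centralizer (H : Set G) := by
  classical
  obtain ⟨hAS, hclS⟩ := hA
  have hHL : H ≤ H ⊔ A := le_sup_left
  have hAL : A ≤ H ⊔ A := le_sup_right
  have hLN : H ⊔ A ≤ Subgroup.normalizer (H : Set G) := sup_le Subgroup.le_normalizer hAH
  have hHn : (H.subgroupOf (H ⊔ A)).Normal :=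
    (Subgroup.normal_subgroupOf_iff_le_normalizer hHL).mpr hLN
  have hA2 : IsPGroup 2 A := S.isPGroup'.to_le hAS
  have hA'2 : IsPGroup 2 (A.subgroupOf (H ⊔ A)) := hA2.comap_subtype
  obtain ⟨T, hT⟩ := hA'2.exists_le_sylow
  have hT₀ : IsPGroup 2 ((T : Subgroup (H ⊔ A : Subgroup G)).map (H ⊔ A).subtype) :=
    T.isPGroup'.map _
  obtain ⟨S'', hS''⟩ := hT₀.exists_le_sylow
  obtain ⟨g, hg⟩ := MulAction.exists_smul_eq G S S''
  have hAT₀ : A ≤ (T : Subgroup (H ⊔ A : Subgroup G)).map (H ⊔ A).subtype := by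
    intro x hx
    exact ⟨⟨x, hAL hx⟩, hT (Subgroup.mem_subgroupOf.mpr hx), rfl⟩
  have hconj : ∀ y ∈ A, g⁻¹ * y * g ∈ A := by
    intro y hy
    have h1 : y ∈ g • S := by rw [hg]; exact hS'' (hAT₀ hy)
    have h2 := mem_sylow_smul_iff.mp h1
    have h3 := hclS y hy g⁻¹ (by rw [inv_inv]; exact h2)
    rwa [inv_inv] at h3
  have hconj' : ∀ y ∈ A, g * y * g⁻¹ ∈ A := by
    let φ : A → A := fun y => ⟨g⁻¹ * y * g, hconj y y.2⟩
    have hφinj : Function.Injective φ := by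
      intro y₁ y₂ h
      have : g⁻¹ * (y₁ : G) * g = g⁻¹ * (y₂ : G) * g := congrArg Subtype.val h
      apply Subtype.ext
      simpa using this
    have hφsurj : Function.Surjective φ := Finite.injective_iff_surjective.mp hφinj
    intro y hy
    obtain ⟨y', hy'⟩ := hφsurj ⟨y, hy⟩
    have : g⁻¹ * (y' : G) * g = y := congrArg Subtype.val hy'
    have e : g * y * g⁻¹ = y' := by rw [← this]; group
    rw [e]; exact y'.2
  have hcl : ∀ x ∈ A.subgroupOf (H ⊔ A), ∀ k : (H ⊔ A : Subgroup G),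
      k * x * k⁻¹ ∈ T → k * x * k⁻¹ ∈ A.subgroupOf (H ⊔ A) := by
    intro x hx k hk
    rw [Subgroup.mem_subgroupOf] at hx ⊢
    have h1 : ((k * x * k⁻¹ : (H ⊔ A : Subgroup G)) : G) ∈ g • S := by
      rw [hg]; exact hS'' ⟨_, hk, rfl⟩
    have h2 := mem_sylow_smul_iff.mp h1
    have e : g⁻¹ * ((k * x * k⁻¹ : (H ⊔ A : Subgroup G)) : G) * g =
        (g⁻¹ * k) * x * (g⁻¹ * k)⁻¹ := by push_cast; group
    rw [e] at h2
    have h3 := hclS x hx (g⁻¹ * k) h2
    have h4 := hconj' _ h3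
    have e2 : g * ((g⁻¹ * k) * x * (g⁻¹ * k)⁻¹) * g⁻¹ =
        ((k * x * k⁻¹ : (H ⊔ A : Subgroup G)) : G) := by push_cast; group
    rw [e2] at h4; exact h4
  have hdisj' : A.subgroupOf (H ⊔ A) ⊓ H.subgroupOf (H ⊔ A) = ⊥ := by
    rw [eq_bot_iff]
    intro x hx
    obtain ⟨h1, h2⟩ := Subgroup.mem_inf.mp hx
    rw [Subgroup.mem_subgroupOf] at h1 h2
    have : (x : G) ∈ A ⊓ H := Subgroup.mem_inf.mpr ⟨h1, h2⟩
    rw [hdisj, Subgroup.mem_bot] at this
    rw [Subgroup.mem_bot]; exact Subtype.ext this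
  have hsup' : H.subgroupOf (H ⊔ A) ⊔ A.subgroupOf (H ⊔ A) = ⊤ := by
    rw [← Subgroup.subgroupOf_sup hHL hAL]; exact Subgroup.subgroupOf_self (H := H ⊔ A)
  have hO' : ∀ N : Subgroup (H ⊔ A : Subgroup G), N.Normal → N ≤ H.subgroupOf (H ⊔ A) →
      Odd (Nat.card N) → N = ⊥ := by
    intro N hNn hNH hNodd
    have hNG : N.map (H ⊔ A).subtype ≤ H := by
      rintro _ ⟨m, hm, rfl⟩
      exact Subgroup.mem_subgroupOf.mp (hNH hm)
    have hN₂n : ((N.map (H ⊔ A).subtype).subgroupOf H).Normal := by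
      constructor
      intro n hn h
      rw [Subgroup.mem_subgroupOf] at hn ⊢
      obtain ⟨m, hm, hmn⟩ := hn
      refine ⟨(⟨(h : G), hHL h.2⟩ : (H ⊔ A : Subgroup G)) * m *
        (⟨(h : G), hHL h.2⟩ : (H ⊔ A : Subgroup G))⁻¹, hNn.conj_mem m hm _, ?_⟩
      have hmn' : ((m : (H ⊔ A : Subgroup G)) : G) = (n : G) := hmn
      simp [hmn']
    have hcard : Nat.card ((N.map (H ⊔ A).subtype).subgroupOf H) = Nat.card N := by
      rw [Nat.card_congr (Subgroup.subgroupOfEquivOfLe hNG).toEquiv,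
        Subgroup.card_map_of_injective (Subgroup.subtype_injective _)]
    have hle : (N.map (H ⊔ A).subtype).subgroupOf H ≤ Cfsg.oddCore ↥H :=
      le_sSup ⟨hN₂n, by rw [hcard]; exact Nat.coprime_two_right.mpr hNodd⟩
    rw [hO] at hle
    rw [eq_bot_iff]
    intro m hm
    have h1 : (⟨(m : G), hNG ⟨m, hm, rfl⟩⟩ : H) ∈ (N.map (H ⊔ A).subtype).subgroupOf H :=
      Subgroup.mem_subgroupOf.mpr ⟨m, hm, rfl⟩
    have h2 := hle h1
    rw [Subgroup.mem_bot] at h2 ⊢
    have : (m : G) = 1 := congrArg Subtype.val h2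
    exact Subtype.ext this
  have hmain := @strongly_closed_centralizes_core hZ (H ⊔ A : Subgroup G) _ _
    (H.subgroupOf (H ⊔ A)) (A.subgroupOf (H ⊔ A)) hHn T hT hcl hdisj' hsup' hO'
  intro x hx
  rw [Subgroup.mem_centralizer_iff]
  intro h hh
  have h1 := hmain (Subgroup.mem_subgroupOf.mpr
    (show ((⟨x, hAL hx⟩ : (H ⊔ A : Subgroup G)) : G) ∈ A from hx))
  rw [Subgroup.mem_centralizer_iff] at h1
  have h2 := h1 ⟨h, hHL hh⟩ (Subgroup.mem_subgroupOf.mpr hh)
  exact congrArg Subtype.val h2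

end Cfsg.Agent.Lib.Helper67
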